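import Groth.Agent.H14.UB.Noeth
import Groth.Agent.Lib.CohBasics.Affine

/-!
The direct image of a coherent module to a good moduli space is coherent.
-/

set_option autoImplicit false
set_option backward.isDefEq.respectTransparency false
set_option backward.isDefEq.respectTransparency.types false
set_option linter.style.haveILetI false

universe u v

open CategoryTheory CategoryTheory.Limits AlgebraicGeometry Opposite TensorProduct
open StMod (sch bmap fibCat fibFst etaOf baseOver)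
open Groth.Agent.Lib Groth.Agent.Lib.AlgStack
open Groth.Agent.H14.ModDesc
open FibCat (IsFibGrpd)
open AlgSt (IsAlgStack ofSp)
open Groth.Agent.H14.GenFam (FlatFun Ext Cover Chart2 exists_obj isFibGrpd_fibCat bc_induction bc_extend isBC_mk mapHom isBC_mapHom)
open Groth.Agent.H14.CohBC (CompactPullbacks lifts_affine exists_univ imgFlat toImg toImg_surjective)
open Groth.Agent.H14.MultiExt (MChart FlatHom)
open Groth.Agent.H14.CohDesc (relSect_mapTop sect_ext)

namespace Groth.Agent.H14.UB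

variable {S : Scheme.{u}}

/-- Sections of a quasi-coherent module as a functor commuting with flat base change. -/
noncomputable def qFlat {𝒵 : AlgSt.Cat S} (G : StMod.QCoh 𝒵) : FlatFun 𝒵 where
  obj o := Γ(G.obj.obj o, ⊤)
  res := fun {_ _} _ _ e => mapHom G.obj e
  sl := fun {_ _} _ _ e => (isBC_mapHom G e).sl
  res_id o _ s := G.obj.mapTop_id o s
  res_comp := fun {_ _ _} _ _ _ e' e s => G.obj.mapTop_comp e' e s
  bc := fun {_ _} _ _ e _ => isBC_mapHom G e

/-- Being in an image is local for covers. -/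
theorem mem_range_of_cover {𝒵 : AlgSt.Cat S} {Φ Φ' : FlatFun 𝒵} (η : FlatHom Φ Φ') {o : 𝒵.obj}
    [IsAffine (sch 𝒵 o)] {J : Type v} (D : Cover o J) (y : Φ'.obj o)
    (h : ∀ j, haveI := D.aff j; Φ'.res (D.e j) y ∈ LinearMap.range (η.app (D.E j))) :
    y ∈ LinearMap.range (η.app o) := by
  let : ∀ j, Algebra Γ(sch 𝒵 o, ⊤) Γ(sch 𝒵 (D.E j), ⊤) := fun j => (bmap 𝒵 (D.e j)).appTop.hom.toAlgebra
  have : ∀ j, IsAffine (sch 𝒵 (D.E j)) := D.aff
  have : ∀ j, Module.Flat Γ(sch 𝒵 o, ⊤) Γ(sch 𝒵 (D.E j), ⊤) := fun j =>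
    have := D.flat j
    flat_appTop (bmap 𝒵 (D.e j))
  rw [← Submodule.Quotient.mk_eq_zero]
  refine eq_zero_of_one_tmul (fun j => Γ(sch 𝒵 (D.E j), ⊤))
    (jointlySurj_appTop (fun j => bmap 𝒵 (D.e j)) (fun j => rfl) D.surj) _ fun j => ?_
  let A := Γ(sch 𝒵 o, ⊤)
  let B := Γ(sch 𝒵 (D.E j), ⊤)
  obtain ⟨hs, hb⟩ := (isBC_iff rfl).1 (Φ.bc (D.e j) (D.flat j))
  obtain ⟨hs', hb'⟩ := (isBC_iff rfl).1 (Φ'.bc (D.e j) (D.flat j))
  obtain ⟨x, hx⟩ := h j
  obtain ⟨w, rfl⟩ := hb.2 x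
  have key : ∀ w, bcMap A B (Φ'.res (D.e j)) hs' ((η.app o).lTensor B w) =
      η.app (D.E j) (bcMap A B (Φ.res (D.e j)) hs w) := fun w => by
    induction w with
    | zero => rw [map_zero, map_zero, map_zero, map_zero]
    | tmul c m => rw [LinearMap.lTensor_tmul, bcMap_tmul, bcMap_tmul, map_smul, η.natural]
    | add a b ha hb => rw [map_add, map_add, map_add, map_add, ha, hb]
  have e : (1 : B) ⊗ₜ[A] y = (η.app o).lTensor B w :=
    hb'.1 (by rw [key, hx, bcMap_tmul, one_smul])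
  show (1 : B) ⊗ₜ[A] (LinearMap.range (η.app o)).mkQ y = 0
  rw [← LinearMap.lTensor_tmul, e, ← LinearMap.comp_apply, ← LinearMap.lTensor_comp, LinearMap.range_mkQ_comp,
    LinearMap.lTensor_zero, LinearMap.zero_apply]

variable {𝒵 : AlgSt.Cat S} {A : Type u} [CommRing A] {st : AStr 𝒵 A}

/-- Combinations of finitely many compatible families of values. -/
theorem exists_comb (G : StMod.QCoh 𝒵) {ι : Type u} (g : ι → ∀ o : 𝒵.obj, Γ(G.obj.obj o, ⊤))
    (hg : ∀ (i : ι) {o' o : 𝒵.obj} (e : o' ⟶ o), G.obj.mapTop e (g i o) = g i o') :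
    ∃ φ : FlatHom (st.tens (ι →₀ A)) (qFlat G), ∀ (o : 𝒵.obj) [IsAffine (sch 𝒵 o)] (m : ι →₀ A),
      φ.app o (GenFam.Ext.mk (st.hom o) _ m) = m.sum fun i a => st.hom o a • g i o := by
  have hex : ∀ o : 𝒵.obj, ∃ F : Ext (st.hom o) (ι →₀ A) →ₗ[Γ(sch 𝒵 o, ⊤)] Γ(G.obj.obj o, ⊤),
      ∀ m, F (GenFam.Ext.mk (st.hom o) _ m) = m.sum fun i a => st.hom o a • g i o := fun o => by
    refine bc_extend (isBC_mk (st.hom o) (ι →₀ A)) (AddMonoidHom.mk' (fun m => m.sum fun i a => st.hom o a • g i o)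
      fun a b => Finsupp.sum_add_index' (fun i => by rw [map_zero, zero_smul]) fun i a b => by rw [map_add, add_smul])
      fun a m => ?_
    show (a • m).sum (fun i b => st.hom o b • g i o) = st.hom o a • m.sum fun i b => st.hom o b • g i o
    rw [Finsupp.sum_smul_index (fun i => by rw [map_zero, zero_smul]), Finsupp.smul_sum]
    exact Finsupp.sum_congr fun i _ => by rw [map_mul, mul_smul]
  choose F hF using hex
  refine ⟨{ app := fun o _ => F o, natural := fun {o' o} _ _ e z => ?_ }, fun o _ m => hF o m⟩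
  refine bc_induction (isBC_mk (st.hom o) (ι →₀ A))
    (P := fun z => F o' (st.res _ e z) = (qFlat G).res e (F o z)) (by rw [map_zero, map_zero, map_zero, map_zero])
    (fun a b ha hb => by rw [map_add, map_add, map_add, map_add, ha, hb]) (fun c m => ?_) z
  rw [st.res_sl _ e, map_smul, map_smul, (qFlat G).sl e, st.res_mk, hF, hF]
  refine congrArg (_ • ·) ?_
  refine Eq.trans ?_ (map_finsuppSum ((qFlat G).res e) m _).symm
  refine Finsupp.sum_congr fun i _ => ?_
  rw [(qFlat G).sl e]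
  refine congrArg₂ (· • ·) (DFunLike.congr_fun (st.natural e) (m i)).symm ?_
  exact (hg i e).symm

/-- A module of compatible families of sections of a coherent module is finite. -/
theorem finite_of_covers (hfib : IsFibGrpd 𝒵.p) (hL : CohBC.Lifts 𝒵) (C : Chart2 𝒵) (hU : st.IsUnit' (ofChart2 C))
    (G : StMod.QCoh 𝒵) {N : Type v} [AddCommGroup N] [Module A N] (ev : ∀ o : 𝒵.obj, N →+ Γ(G.obj.obj o, ⊤))
    (hsl : ∀ o (a : A) (n : N), ev o (a • n) = st.hom o a • ev o n)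
    (hnat : ∀ {o' o : 𝒵.obj} (e : o' ⟶ o) (n : N), G.obj.mapTop e (ev o n) = ev o' n)
    (hinj : ∀ n, (∀ o, IsAffine (sch 𝒵 o) → (ofChart2 C).Has o → ev o n = 0) → n = 0)
    {K : Type u} [Finite K] (D : Cover C.x K) (d : K → 𝒵.obj) (hd : ∀ k, IsAffine (sch 𝒵 (d k)))
    (c : ∀ k, D.E k ⟶ d k) (hN : ∀ k, IsNoetherianRing Γ(sch 𝒵 (d k), ⊤))
    (hF : ∀ k, Module.Finite Γ(sch 𝒵 (d k), ⊤) Γ(G.obj.obj (d k), ⊤)) : Module.Finite A N := by
  classical
  haveI : ∀ k, IsNoetherian Γ(sch 𝒵 (d k), ⊤) Γ(G.obj.obj (d k), ⊤) := fun k =>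
    haveI := hN k
    haveI := hF k
    isNoetherian_of_isNoetherianRing_of_finite _ _
  let f : Finset N → ∀ k, Submodule Γ(sch 𝒵 (d k), ⊤) Γ(G.obj.obj (d k), ⊤) := fun s k =>
    Submodule.span _ (ev (d k) '' s)
  haveI : ∀ k, WellFoundedGT (Submodule Γ(sch 𝒵 (d k), ⊤) Γ(G.obj.obj (d k), ⊤)) := fun k => inferInstance
  have hmax : ∀ k, ∃ s : Finset N, ∀ n, ev (d k) n ∈ f s k := fun k => by
    obtain ⟨p, ⟨s, hs⟩, hp⟩ := (WellFounded.has_min (wellFounded_gt (α := Submodule Γ(sch 𝒵 (d k), ⊤) Γ(G.obj.obj (d k), ⊤)))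
      (Set.range fun s => f s k) ⟨_, ∅, rfl⟩)
    refine ⟨s, fun n => ?_⟩
    by_contra hn
    refine hp _ ⟨insert n s, rfl⟩ (lt_of_le_of_ne ?_ fun e => hn ?_)
    · rw [← hs]
      exact Submodule.span_mono (Set.image_mono (Finset.coe_subset.2 (Finset.subset_insert n s)))
    · show ev (d k) n ∈ f s k
      rw [show f s k = p from hs, e]
      exact Submodule.subset_span ⟨n, Finset.mem_coe.2 (Finset.mem_insert_self n s), rfl⟩
  choose s hs using hmax
  haveI := Fintype.ofFinite K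
  let T : Finset N := Finset.univ.biUnion s
  refine Module.finite_def.2 ⟨T, (eq_top_iff.2 fun n _ => ?_ : Submodule.span A (T : Set N) = ⊤)⟩
  let ι : Type u := ULift.{u} (Fin T.card)
  let t : ι → N := fun i => (T.equivFin.symm i.down).1
  obtain ⟨φ, hφ⟩ := exists_comb (st := st) G (fun i o => ev o (t i)) fun i o' o e => hnat e (t i)
  have hgen : ∀ (o : 𝒵.obj) [IsAffine (sch 𝒵 o)], ∀ x ∈ T, ev o x ∈ LinearMap.range (φ.app o) :=
    fun o _ x hx => by
    refine ⟨GenFam.Ext.mk (st.hom o) _ (Finsupp.single ⟨T.equivFin ⟨x, hx⟩⟩ 1), ?_⟩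
    rw [hφ, Finsupp.sum_single_index (by rw [map_zero, zero_smul]), map_one, one_smul]
    simp [t]
  have hx : ev C.x n ∈ LinearMap.range (φ.app C.x) := by
    refine mem_range_of_cover φ D _ fun k => ?_
    haveI := D.aff k
    haveI := hd k
    obtain ⟨z, hz⟩ : ev (d k) n ∈ LinearMap.range (φ.app (d k)) := (Submodule.span_le.2 (by
      rintro _ ⟨x, hx, rfl⟩
      exact hgen (d k) x (Finset.mem_biUnion.2 ⟨k, Finset.mem_univ k, hx⟩))) (hs k n)
    refine ⟨(st.tens _).res (c k) z, (φ.natural (c k) z).trans ?_⟩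
    rw [hz]
    exact (hnat (c k) n).trans (hnat (D.e k) n).symm
  let Fm : Fam (ofChart2 C) (imgFlat φ) :=
    { val := fun o _ h => ⟨ev o n, by
        obtain ⟨i, ⟨b⟩⟩ := h
        obtain ⟨z, hz⟩ := hx
        refine ⟨(st.tens _).res b z, (φ.natural b z).trans ?_⟩
        exact (congrArg (G.obj.mapTop b) hz).trans (hnat b n)⟩
      compat := fun {o' o} _ _ e h' h => Subtype.ext (hnat e n) }
  obtain ⟨σ, hσ⟩ := exists_lift hfib hL (toImg φ) (fun i => toImg_surjective φ _) Fm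
  obtain ⟨m, hm⟩ := AStr.exists_eq_mk (st := st) (C := ofChart2 C) hfib hL hU σ
  have hn : n = m.sum fun i a => a • t i := sub_eq_zero.1 (hinj _ fun o ho hh => by
    haveI := ho
    have e1 : φ.app o (σ.val o hh) = ev o n := congrArg Subtype.val (hσ o hh)
    rw [hm o hh, hφ] at e1
    rw [map_sub, ← e1, map_finsuppSum, sub_eq_zero]
    exact Finsupp.sum_congr fun i _ => (hsl o _ _).symm)
  rw [hn]
  exact Submodule.sum_mem _ fun i _ => Submodule.smul_mem _ _ (Submodule.subset_span (T.equivFin.symm i.down).2)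

variable {𝒳 : AlgSt.Cat S} {M : AlgSp.Space S} {π : 𝒳 ⥤ᵇ ofSp M.obj}

set_option maxHeartbeats 1600000 in
/-- A chart is covered by objects mapping to finitely many objects with Noetherian rings. -/
theorem exists_noeth_cover (h𝒳 : IsAlgStack Scheme.fppfPrecoverage 𝒳)
    (hN : AlgSt.SmoothLocally (fun T => IsLocallyNoetherian T) 𝒳)
    (E : AlgSp.EtOver M.obj) (C : Chart2 (fibCat π (etaOf E))) :
    ∃ (K : Type u) (_ : Finite K) (D : Cover C.x K) (d : K → (fibCat π (etaOf E)).obj),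
      (∀ k, IsAffine (sch (fibCat π (etaOf E)) (d k))) ∧ (∀ k, Nonempty (D.E k ⟶ d k)) ∧
      ∀ k, IsNoetherianRing Γ(sch (fibCat π (etaOf E)) (d k), ⊤) := by
  classical
  obtain ⟨U₀, x₀, hxs, hxe⟩ := h𝒳.atlas
  haveI hU₀ : IsLocallyNoetherian U₀.left := hN U₀ x₀ hxs
  have hX := h𝒳.isStack.1
  let ξ₀ := x₀.obj (Over.mk (𝟙 U₀))
  let η := etaOf E
  obtain ⟨Z⟩ := exists_univ (π := π) E hX ξ₀
  have hfib := isFibGrpd_fibCat hX π η
  haveI hZn : IsLocallyNoetherian (sch (fibCat π η) Z.z) := by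
    have := Z.etale
    haveI : IsLocallyNoetherian (sch 𝒳 ξ₀) := by
      show IsLocallyNoetherian (𝒳.p.obj ξ₀).left
      rw [show 𝒳.p.obj ξ₀ = U₀ from x₀.w_obj _]
      exact hU₀
    exact LocallyOfFiniteType.isLocallyNoetherian (bmap 𝒳 Z.m)
  haveI : IsAffine (sch 𝒳 C.x.left) := C.affx
  obtain ⟨n, D₀, hD₀⟩ := GenFam.exists_cover_chart hX hxs hxe C.x.left
  let oE : Fin n → (fibCat π η).obj := fun j => CostructuredArrow.mk (π.map (D₀.e j) ≫ C.x.hom)
  let eE : ∀ j, oE j ⟶ C.x := fun j => CostructuredArrow.homMk (D₀.e j) rfl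
  choose f hf using fun j => Z.lift (oE j) (hD₀ j).some
  have hW : ∀ j (v : sch (fibCat π η) (oE j)), ∃ (W : (sch (fibCat π η) Z.z).Opens)
      (Q : (sch (fibCat π η) (oE j)).Opens), IsAffineOpen W ∧ IsAffineOpen Q ∧ v ∈ Q ∧
        Q ≤ bmap (fibCat π η) (f j) ⁻¹ᵁ W := fun j v => by
    obtain ⟨W, hW, hv, -⟩ := exists_isAffineOpen_mem_and_subset (X := sch (fibCat π η) Z.z)
      (x := bmap (fibCat π η) (f j) v) (U := ⊤) trivial
    obtain ⟨Q, hQ, hvQ, hQW⟩ := exists_isAffineOpen_mem_and_subset (X := sch (fibCat π η) (oE j))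
      (x := v) (U := bmap (fibCat π η) (f j) ⁻¹ᵁ W) hv
    exact ⟨W, Q, hW, hQ, hvQ, hQW⟩
  choose W Q hWa hQa hvQ hQW using hW
  have hfin : ∀ j, ∃ F : Finset (sch (fibCat π η) (oE j)), ∀ v, ∃ w ∈ F, v ∈ Q j w := fun j => by
    haveI : IsAffine (sch (fibCat π η) (oE j)) := D₀.aff j
    obtain ⟨F, hF⟩ := isCompact_univ.elim_finite_subcover (fun v => (Q j v : Set (sch (fibCat π η) (oE j))))
      (fun v => (Q j v).2) fun v _ => Set.mem_iUnion.2 ⟨v, hvQ j v⟩
    exact ⟨F, fun v => by simpa using hF (Set.mem_univ v)⟩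
  choose F hF using hfin
  let J : Type u := Σ j : ULift.{u} (Fin n), { v // v ∈ F j.down }
  choose d θ i hθ using fun t : J => exists_obj hfib Z.z (W t.1.down t.2.1).ι
  choose q κ i' hκ using fun t : J => exists_obj hfib (oE t.1.down) (Q t.1.down t.2.1).ι
  have hfac : ∀ t : J, ∃ c : q t ⟶ d t, c ≫ θ t = κ t ≫ f t.1.down := fun t => by
    haveI : IsOpenImmersion (bmap (fibCat π η) (θ t)) := by rw [hθ]; infer_instance
    refine MultiExt.exists_factor hfib (θ t) _ ?_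
    rintro _ ⟨y, rfl⟩
    refine ⟨(i t).inv ⟨_, hQW t.1.down t.2.1 ((i' t).hom y).2⟩, ?_⟩
    rw [hθ, StMod.bmap_comp, hκ, ← Scheme.Hom.comp_apply]
    simp only [Iso.inv_hom_id_assoc]
    rfl
  choose c hc using hfac
  refine ⟨J, inferInstance, ⟨q, fun t => ?_, fun t => κ t ≫ eE t.1.down, fun t => ?_, fun v => ?_⟩, d, fun t => ?_,
    fun t => ⟨c t⟩, fun t => ?_⟩
  · haveI : IsAffine (Q t.1.down t.2.1).toScheme := hQa t.1.down t.2.1
    exact IsAffine.of_isIso (i' t).hom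
  · rw [StMod.bmap_comp, hκ]
    haveI : Flat (bmap (fibCat π η) (eE t.1.down)) := D₀.flat t.1.down
    infer_instance
  · obtain ⟨j, w, hw⟩ := D₀.surj v
    obtain ⟨v', hv', hwv'⟩ := hF j w
    refine ⟨⟨⟨j⟩, v', hv'⟩, (i' ⟨⟨j⟩, v', hv'⟩).inv ⟨w, hwv'⟩, ?_⟩
    rw [StMod.bmap_comp, hκ, ← Scheme.Hom.comp_apply]
    simp only [Category.assoc, Iso.inv_hom_id_assoc]
    exact hw
  · haveI : IsAffine (W t.1.down t.2.1).toScheme := hWa t.1.down t.2.1
    exact IsAffine.of_isIso (i t).hom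
  · haveI : IsAffine (W t.1.down t.2.1).toScheme := hWa t.1.down t.2.1
    haveI : IsAffine (sch (fibCat π η) (d t)) := IsAffine.of_isIso (i t).hom
    haveI : IsOpenImmersion (bmap (fibCat π η) (θ t)) := by rw [hθ]; infer_instance
    haveI : IsLocallyNoetherian (sch (fibCat π η) (d t)) := isLocallyNoetherian_of_isOpenImmersion (bmap (fibCat π η) (θ t))
    exact IsLocallyNoetherian.component_noetherian ⟨⊤, isAffineOpen_top _⟩

set_option maxHeartbeats 1600000 in
/-- The direct image of a coherent module to a good moduli space is coherent. -/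
theorem relSect_finite (h𝒳 : IsAlgStack Scheme.fppfPrecoverage 𝒳) (hM : CompactPullbacks M.obj)
    (hqc : AlgSt.IsQuasiCompactMor Scheme.fppfPrecoverage π) (hqs : AlgSt.IsQuasiSeparatedMor π)
    (h : StMod.IsGoodModuli π) (hN : AlgSt.SmoothLocally (fun T => IsLocallyNoetherian T) 𝒳)
    (F : StMod.QCoh 𝒳) (hF : F.obj.IsFinType) (E : AlgSp.EtOver M.obj) (hE : IsAffine E.obj.left.left) :
    Module.Finite Γ(sch (ofSp M.obj) (etaOf E), ⊤) (StMod.Mod.RelSect π F.obj (etaOf E)) := by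
  haveI hE' : IsAffine (sch (ofSp M.obj) (etaOf E)) := hE
  have hX := h𝒳.isStack.1
  let η := etaOf E
  have hfib := isFibGrpd_fibCat hX π η
  obtain ⟨C⟩ := GenFam.exists_chart2_at π h𝒳 (IsAlg.isAlgStack_ofSp M) hqc hqs η hE
  obtain ⟨K, _, D, d, hd, hc, hn⟩ := exists_noeth_cover h𝒳 hN E C
  let G := (StMod.comapQ (fibFst π η)).obj F
  refine finite_of_covers (st := astr π η) hfib (lifts_affine π h𝒳 hM hqc hqs h.1 η hE') C
    (isUnit'_astr hX (h.2 E) (ofChart2 C)) G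
    (fun o => AddMonoidHom.mk' (fun r : StMod.Mod.RelSect π F.obj η =>
      (show Γ(G.obj.obj o, ⊤) from r.1 o.left o.hom)) fun _ _ => rfl)
    (fun o a r => rfl) (fun {o' o} e r => (CohDesc.mapTop_fib (F := F.obj) e _).trans (relSect_mapTop r e))
    (fun r hr => StMod.Mod.RelSect.ext _ _ _ fun ξ α => ?_) D d hd (fun k => (hc k).some) hn fun k => ?_
  · refine sect_ext hfib G (x := CostructuredArrow.mk α) fun o k ho => ?_
    haveI : IsAffine (sch (fibCat π η) o) := ho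
    obtain ⟨n, D', hD'⟩ := (ofChart2 C).cover o ho
    refine D'.eq_of_mapTop G fun j => ?_
    rw [← StMod.Mod.mapTop_comp, ← StMod.Mod.mapTop_comp]
    exact (((CohDesc.mapTop_fib (F := F.obj) _ _).trans (relSect_mapTop r (D'.e j ≫ k))).trans
      (hr (D'.E j) (D'.aff j) (hD' j))).trans (G.obj.mapTop_zero _).symm
  · haveI := hd k
    haveI : (F.obj.obj (d k).left).IsQuasicoherent := F.property.2 _
    haveI := hF (d k).left
    haveI : IsAffine (sch 𝒳 (d k).left) := hd k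
    exact CohBasics.Affine.finite_sections (M := F.obj.obj (d k).left) (isAffineOpen_top _)

end Groth.Agent.H14.UB
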