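import Groth.Agent.H14.UB.Proj
import Groth.Agent.H14.GenFam.Chart2FP

/-!
The ideals of functions vanishing on the image of a closed subscheme of a chart, and their separation from a fibre.
-/

set_option autoImplicit false
set_option backward.isDefEq.respectTransparency false
set_option backward.isDefEq.respectTransparency.types false
set_option linter.style.haveILetI false

universe u

open CategoryTheory CategoryTheory.Limits AlgebraicGeometry Opposite TensorProduct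
open StMod (sch bmap)
open Groth.Agent.Lib Groth.Agent.Lib.AlgStack
open Groth.Agent.H14.ModDesc
open Groth.Agent.H14.AffPush
open Groth.Agent.H14.GenFam (FlatFun Cover Chart exists_obj exists_hom_over bc_induction bc_extend mapHom isBC_mapHom)
open Groth.Agent.H14.CohBC (Lifts)
open Groth.Agent.H14.MultiExt (MChart FlatHom)

namespace Groth.Agent.H14.UB

variable {S : Scheme.{u}} {𝒵 : AlgSt.Cat S} (C : Chart 𝒵) (I : Ideal Γ(sch 𝒵 C.x, ⊤))

theorem appTop_bmap_comp {a b c : 𝒵.obj} (φ : a ⟶ b) (ψ : b ⟶ c) :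
    (bmap 𝒵 (φ ≫ ψ)).appTop.hom = (bmap 𝒵 φ).appTop.hom.comp (bmap 𝒵 ψ).appTop.hom := by
  rw [StMod.bmap_comp, Scheme.Hom.comp_appTop]
  rfl

/-- A function vanishes on the preimages of the closed subscheme. -/
def idealAt (o : 𝒵.obj) : Ideal Γ(sch 𝒵 o, ⊤) :=
  ⨅ (ξ : 𝒵.obj) (_ : IsAffine (sch 𝒵 ξ)) (k : ξ ⟶ o) (m : ξ ⟶ C.x),
    (I.map (bmap 𝒵 m).appTop.hom).comap (bmap 𝒵 k).appTop.hom

theorem mem_idealAt {o : 𝒵.obj} {r : Γ(sch 𝒵 o, ⊤)} :
    r ∈ idealAt C I o ↔ ∀ (ξ : 𝒵.obj) (_ : IsAffine (sch 𝒵 ξ)) (k : ξ ⟶ o) (m : ξ ⟶ C.x),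
      (bmap 𝒵 k).appTop.hom r ∈ I.map (bmap 𝒵 m).appTop.hom := by
  simp only [idealAt, Submodule.mem_iInf, Ideal.mem_comap]

theorem idealAt_res {o' o : 𝒵.obj} (e : o' ⟶ o) :
    (idealAt C I o).map (bmap 𝒵 e).appTop.hom ≤ idealAt C I o' := by
  rw [Ideal.map_le_iff_le_comap]
  intro r hr
  rw [Ideal.mem_comap, mem_idealAt]
  intro ξ hξ k m
  have := (mem_idealAt C I).1 hr ξ hξ (k ≫ e) m
  rwa [appTop_bmap_comp] at this

/-- Membership in the ideal generated by the image is local for covers. -/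
theorem mem_map_of_cover {ξ : 𝒵.obj} [IsAffine (sch 𝒵 ξ)] {J : Type u} (D : Cover ξ J) (m : ξ ⟶ C.x)
    {r : Γ(sch 𝒵 ξ, ⊤)}
    (h : ∀ j, (bmap 𝒵 (D.e j)).appTop.hom r ∈ I.map (bmap 𝒵 (D.e j ≫ m)).appTop.hom) :
    r ∈ I.map (bmap 𝒵 m).appTop.hom := by
  let A := Γ(sch 𝒵 ξ, ⊤)
  let B : J → Type u := fun j => Γ(sch 𝒵 (D.E j), ⊤)
  let K : Ideal A := I.map (bmap 𝒵 m).appTop.hom
  letI : ∀ j, Algebra A (B j) := fun j => (bmap 𝒵 (D.e j)).appTop.hom.toAlgebra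
  have : ∀ j, IsAffine (sch 𝒵 (D.E j)) := D.aff
  haveI : ∀ j, Module.Flat A (B j) := fun j =>
    have := D.flat j
    flat_appTop (bmap 𝒵 (D.e j))
  have hB : Groth.Agent.H14.GerbeDesc.JointlySurj A B :=
    jointlySurj_appTop (fun j => bmap 𝒵 (D.e j)) (fun j => rfl) D.surj
  rw [← Ideal.Quotient.eq_zero_iff_mem]
  refine eq_zero_of_one_tmul B hB (M := A ⧸ K) _ fun j => ?_
  have hj : algebraMap A (B j) r ∈ K.map (algebraMap A (B j)) := by
    show (bmap 𝒵 (D.e j)).appTop.hom r ∈ K.map (bmap 𝒵 (D.e j)).appTop.hom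
    rw [Ideal.map_map, ← appTop_bmap_comp]
    exact h j
  have key : ∀ b ∈ K.map (algebraMap A (B j)), b ⊗ₜ[A] (1 : A ⧸ K) = 0 := fun b hb => by
    refine Submodule.span_induction (p := fun b _ => b ⊗ₜ[A] (1 : A ⧸ K) = 0) ?_ (zero_tmul _ _)
      (fun a b _ _ ha hb => by rw [add_tmul, ha, hb, add_zero]) (fun c b _ hb => ?_) hb
    · rintro _ ⟨a, ha, rfl⟩
      rw [Algebra.algebraMap_eq_smul_one, smul_tmul, Algebra.smul_def, mul_one,
        show algebraMap A (A ⧸ K) a = 0 from Ideal.Quotient.eq_zero_iff_mem.2 ha, tmul_zero]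
    · show (c • b) ⊗ₜ[A] (1 : A ⧸ K) = 0
      rw [← smul_tmul', hb, smul_zero]
  refine Eq.trans ?_ (key _ hj)
  rw [Algebra.algebraMap_eq_smul_one, smul_tmul, Algebra.smul_def, mul_one]
  rfl

/-- A finite family of test objects. -/
structure Test (o : 𝒵.obj) where
  /-- the number -/
  n : ℕ
  /-- the objects -/
  ξ : Fin n → 𝒵.obj
  aff : ∀ l, IsAffine (sch 𝒵 (ξ l))
  /-- the maps -/
  k : ∀ l, ξ l ⟶ o
  /-- the maps to the chart -/
  m : ∀ l, ξ l ⟶ C.x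
  enough : ∀ r, (∀ l, (bmap 𝒵 (k l)).appTop.hom r ∈ I.map (bmap 𝒵 (m l)).appTop.hom) → r ∈ idealAt C I o

theorem exists_test (hfib : FibCat.IsFibGrpd 𝒵.p) (o : 𝒵.obj) (ho : IsAffine (sch 𝒵 o)) : Nonempty (Test C I o) := by
  classical
  obtain ⟨n, D, hD⟩ := C.cover o ho
  haveI : ∀ j, IsAffine (sch 𝒵 (D.E j)) := D.aff
  let a := fun j => (hD j).some
  choose ξ φ e hφ using fun j => exists_obj hfib (D.E j) (pullback.fst (bmap 𝒵 (a j)) (bmap 𝒵 C.p))
  choose c hc hce using fun j => exists_hom_over hfib (φ j ≫ a j) C.p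
    ((e j).hom ≫ pullback.snd (bmap 𝒵 (a j)) (bmap 𝒵 C.p)) (by
      rw [StMod.bmap_comp, hφ, Category.assoc, Category.assoc, pullback.condition])
  refine ⟨⟨n, ξ, fun j => IsAffine.of_isIso (e j).hom, fun j => φ j ≫ D.e j, fun j => c j ≫ C.q, fun r hr => ?_⟩⟩
  rw [mem_idealAt]
  intro η hη k m
  haveI : IsAffine (sch 𝒵 o) := ho
  obtain ⟨D', f, hf⟩ := D.exists_pullback hfib k
  refine mem_map_of_cover C I (J := ULift.{u} (Fin n))
    ⟨fun l => D'.E l.down, fun l => D'.aff l.down, fun l => D'.e l.down, fun l => D'.flat l.down,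
      fun z => by obtain ⟨l, hl⟩ := D'.surj z; exact ⟨⟨l⟩, hl⟩⟩ m fun ⟨j⟩ => ?_
  haveI := D'.aff j
  show (bmap 𝒵 (D'.e j)).appTop.hom ((bmap 𝒵 k).appTop.hom r) ∈ I.map (bmap 𝒵 (D'.e j ≫ m)).appTop.hom
  obtain ⟨J, hJ, D'', hD''⟩ := C.overlap (D'.E j) (D'.aff j) (f j ≫ a j) (D'.e j ≫ m)
  refine mem_map_of_cover C I D'' (D'.e j ≫ m) fun l => ?_
  obtain ⟨d, hdp, hdq⟩ := hD'' l
  haveI := D''.aff l
  have hl : bmap 𝒵 (D''.e l ≫ f j) ≫ bmap 𝒵 (a j) = bmap 𝒵 d ≫ bmap 𝒵 C.p := by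
    rw [← StMod.bmap_comp, ← StMod.bmap_comp, Category.assoc, hdp]
  obtain ⟨s, hs, hsφ⟩ := exists_hom_over hfib (D''.e l ≫ f j) (φ j) (pullback.lift _ _ hl ≫ (e j).inv) (by
    rw [hφ, Category.assoc, Iso.inv_hom_id_assoc, pullback.lift_fst])
  have hsc : s ≫ c j = d := BasedBasic.hom_eq_of_comp_eq hfib C.p (Over.OverMorphism.ext (by
      show bmap 𝒵 (s ≫ c j) = bmap 𝒵 d
      rw [StMod.bmap_comp, hs, hc, Category.assoc, Iso.inv_hom_id_assoc, pullback.lift_snd]))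
    (by rw [Category.assoc, hce, reassoc_of% hsφ, hdp])
  have e1 : s ≫ φ j ≫ D.e j = D''.e l ≫ D'.e j ≫ k := by rw [reassoc_of% hsφ, hf]
  have e2 : s ≫ c j ≫ C.q = D''.e l ≫ D'.e j ≫ m := by rw [reassoc_of% hsc, hdq]
  have := Ideal.mem_map_of_mem (bmap 𝒵 s).appTop.hom (hr j)
  rw [Ideal.map_map, ← appTop_bmap_comp, e2, ← RingHom.comp_apply, ← appTop_bmap_comp, e1] at this
  simpa only [appTop_bmap_comp, RingHom.comp_apply, RingHom.comp_assoc] using this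

set_option maxHeartbeats 1600000 in
/-- The ideals commute with flat base change. -/
theorem idealAt_flat (hfib : FibCat.IsFibGrpd 𝒵.p) {o' o : 𝒵.obj} [IsAffine (sch 𝒵 o')] [IsAffine (sch 𝒵 o)]
    (e : o' ⟶ o) (he : Flat (bmap 𝒵 e)) :
    idealAt C I o' = (idealAt C I o).map (bmap 𝒵 e).appTop.hom := by
  classical
  refine le_antisymm (fun r hr => ?_) (idealAt_res C I e)
  obtain ⟨T⟩ := exists_test C I hfib o ‹_›
  haveI : ∀ l, IsAffine (sch 𝒵 (T.ξ l)) := T.aff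
  let A := Γ(sch 𝒵 o, ⊤)
  let B := Γ(sch 𝒵 o', ⊤)
  letI : Algebra A B := (bmap 𝒵 e).appTop.hom.toAlgebra
  haveI : Module.Flat A B := flat_appTop (bmap 𝒵 e)
  let N : Fin T.n → Type u := fun l => Γ(sch 𝒵 (T.ξ l), ⊤) ⧸ I.map (bmap 𝒵 (T.m l)).appTop.hom
  letI : ∀ l, Algebra A Γ(sch 𝒵 (T.ξ l), ⊤) := fun l => (bmap 𝒵 (T.k l)).appTop.hom.toAlgebra
  let q : A →ₗ[A] ∀ l, N l := LinearMap.pi fun l =>
    ((Ideal.Quotient.mkₐ A (I.map (bmap 𝒵 (T.m l)).appTop.hom)).comp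
      (Algebra.ofId A Γ(sch 𝒵 (T.ξ l), ⊤))).toLinearMap
  let J : Submodule A A := idealAt C I o
  have hex : Function.Exact J.subtype q := by
    rw [LinearMap.exact_iff, Submodule.range_subtype]
    refine Submodule.ext fun a => ⟨fun ha => ?_, fun ha => ?_⟩
    · exact T.enough a fun l => Ideal.Quotient.eq_zero_iff_mem.1 (congrFun ha l)
    · exact funext fun l => Ideal.Quotient.eq_zero_iff_mem.2 ((mem_idealAt C I).1 ha _ (T.aff l) (T.k l) (T.m l))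
  have hzero : ∀ l, r ⊗ₜ[A] (q 1 l) = 0 := fun l => by
    obtain ⟨ξ', φ, i, hφ⟩ := exists_obj hfib o' (pullback.fst (bmap 𝒵 e) (bmap 𝒵 (T.k l)))
    obtain ⟨g, hg, hgk⟩ := exists_hom_over hfib (φ ≫ e) (T.k l)
      (i.hom ≫ pullback.snd (bmap 𝒵 e) (bmap 𝒵 (T.k l))) (by
        rw [StMod.bmap_comp, hφ, Category.assoc, Category.assoc, pullback.condition])
    haveI : IsAffine (sch 𝒵 ξ') := IsAffine.of_isIso i.hom
    have hp : IsPullback (bmap 𝒵 g) (bmap 𝒵 φ) (bmap 𝒵 (T.k l)) (bmap 𝒵 e) := by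
      refine (IsPullback.of_iso_pullback ⟨by rw [← StMod.bmap_comp, ← StMod.bmap_comp, hgk]⟩ i ?_ ?_).flip
      · exact hφ.symm
      · exact hg.symm
    let mA : Module A Γ(sch 𝒵 (T.ξ l), ⊤) := Algebra.toModule
    let mB : Module B Γ(sch 𝒵 ξ', ⊤) := Module.compHom _ (bmap 𝒵 φ).appTop.hom
    let gA : Γ(sch 𝒵 (T.ξ l), ⊤) →+ Γ(sch 𝒵 ξ', ⊤) := (bmap 𝒵 g).appTop.hom.toAddMonoidHom
    have hbc : @IsBC A B _ _ _ _ _ mA _ mB (bmap 𝒵 e).appTop.hom gA :=
      isBC_of_isPushout (isPushout_appTop_of_isPullback hp).flip (mA := mA) (mB := mB) (fun _ _ => rfl)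
        (fun _ _ => rfl) (isBC_mapHom (StMod.OQ 𝒵) g)
    obtain ⟨Φ, hΦ⟩ := bc_extend (M := Γ(sch 𝒵 (T.ξ l), ⊤)) (N := Γ(sch 𝒵 ξ', ⊤)) (N' := B ⊗[A] N l) hbc
      ((TensorProduct.mk A B (N l) 1).comp
        (Ideal.Quotient.mkₐ A (I.map (bmap 𝒵 (T.m l)).appTop.hom)).toLinearMap).toAddMonoidHom (fun a z => by
        show (1 : B) ⊗ₜ[A] (Ideal.Quotient.mkₐ A _ (a • z)) = algebraMap A B a • ((1 : B) ⊗ₜ[A] _)
        rw [map_smul, tmul_smul, algebraMap_smul]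
        rfl)
    have hI : ∀ z ∈ I.map (bmap 𝒵 (g ≫ T.m l)).appTop.hom, Φ z = 0 := fun z hz => by
      rw [appTop_bmap_comp, ← Ideal.map_map] at hz
      suffices h : ∀ c, Φ (c * z) = 0 by simpa using h 1
      refine Submodule.span_induction (p := fun z _ => ∀ c, Φ (c * z) = 0) ?_ (fun c => by rw [mul_zero, map_zero])
        (fun a b _ _ ha hb c => by rw [mul_add, map_add, ha, hb, add_zero])
        (fun d b _ hb c => by rw [smul_eq_mul, ← mul_assoc, hb]) hz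
      rintro _ ⟨i₀, hi₀, rfl⟩ c
      refine bc_induction hbc (P := fun c => Φ (c * (bmap 𝒵 g).appTop.hom i₀) = 0) (by rw [zero_mul, map_zero])
        (fun a b ha hb => by rw [add_mul, map_add, ha, hb, add_zero]) (fun b z' => ?_) c
      have e1 : (b • gA z' : Γ(sch 𝒵 ξ', ⊤)) * (bmap 𝒵 g).appTop.hom i₀ =
          b • gA ((show Γ(sch 𝒵 (T.ξ l), ⊤) from z') * i₀) :=
        (mul_assoc _ _ _).trans (congrArg ((bmap 𝒵 φ).appTop.hom b * ·)
          (map_mul (bmap 𝒵 g).appTop.hom (show Γ(sch 𝒵 (T.ξ l), ⊤) from z') i₀).symm)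
      refine (congrArg Φ e1).trans ?_
      rw [map_smul, hΦ]
      show b • ((1 : B) ⊗ₜ[A] Ideal.Quotient.mkₐ A _ (_ * i₀)) = 0
      rw [show Ideal.Quotient.mkₐ A (I.map (bmap 𝒵 (T.m l)).appTop.hom)
        ((show Γ(sch 𝒵 (T.ξ l), ⊤) from z') * i₀) = 0 from
          Ideal.Quotient.eq_zero_iff_mem.2 (Ideal.mul_mem_left _ _ hi₀), tmul_zero, smul_zero]
    have h1 := hI _ ((mem_idealAt C I).1 hr ξ' ‹_› φ (g ≫ T.m l))
    have e2 : (bmap 𝒵 φ).appTop.hom r = r • gA (1 : Γ(sch 𝒵 (T.ξ l), ⊤)) :=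
      ((congrArg ((bmap 𝒵 φ).appTop.hom r * ·) (map_one (bmap 𝒵 g).appTop.hom)).trans (mul_one _)).symm
    rw [e2, map_smul, hΦ] at h1
    refine Eq.trans ?_ h1
    show r ⊗ₜ[A] q 1 l = r • ((1 : B) ⊗ₜ[A] _)
    rw [smul_tmul', smul_eq_mul, mul_one]
    refine congrArg (r ⊗ₜ[A] ·) ?_
    show Ideal.Quotient.mkₐ A _ (algebraMap A _ 1) = _
    rw [map_one]
    rfl
  have hz : q.lTensor B (r ⊗ₜ[A] (1 : A)) = 0 := by
    apply (TensorProduct.piRight A A B N).injective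
    rw [map_zero, LinearMap.lTensor_tmul]
    funext l
    rw [TensorProduct.piRight_apply, TensorProduct.piRightHom_tmul]
    exact hzero l
  obtain ⟨z, hz'⟩ := (Module.Flat.lTensor_exact B hex (r ⊗ₜ[A] (1 : A))).1 hz
  have : r = TensorProduct.rid A B (J.subtype.lTensor B z) := by rw [hz', TensorProduct.rid_tmul, one_smul]
  rw [this]
  clear hz' this
  induction z with
  | zero => rw [map_zero, map_zero]; exact Submodule.zero_mem _
  | tmul b j =>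
    rw [LinearMap.lTensor_tmul, TensorProduct.rid_tmul, Algebra.smul_def]
    exact Ideal.mul_mem_right b _ (Ideal.mem_map_of_mem _ j.2)
  | add x y hx hy => rw [map_add, map_add]; exact Submodule.add_mem _ hx hy

theorem isBC_quot (hfib : FibCat.IsFibGrpd 𝒵.p) {o' o : 𝒵.obj} [IsAffine (sch 𝒵 o')] [IsAffine (sch 𝒵 o)]
    (e : o' ⟶ o) (he : Flat (bmap 𝒵 e)) :
    IsBC (bmap 𝒵 e).appTop.hom (Ideal.quotientMap (idealAt C I o') (bmap 𝒵 e).appTop.hom
      (Ideal.map_le_iff_le_comap.1 (idealAt_res C I e))).toAddMonoidHom := by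
  let A := Γ(sch 𝒵 o, ⊤)
  let B := Γ(sch 𝒵 o', ⊤)
  let J := idealAt C I o
  let J' := idealAt C I o'
  letI : Algebra A B := (bmap 𝒵 e).appTop.hom.toAlgebra
  have hs : IsSL (algebraMap A B) (Ideal.quotientMap J' (bmap 𝒵 e).appTop.hom
      (Ideal.map_le_iff_le_comap.1 (idealAt_res C I e))).toAddMonoidHom := fun a m => by
    obtain ⟨m, rfl⟩ := Ideal.Quotient.mk_surjective m
    exact congrArg (Ideal.Quotient.mk J') (map_mul (bmap 𝒵 e).appTop.hom a m)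
  refine (isBC_iff rfl).2 ⟨hs, ?_⟩
  refine ⟨fun x y hxy => ?_, fun y => ?_⟩
  · have key : ∀ z : B ⊗[A] (A ⧸ J), ∃ b : B, z = b ⊗ₜ[A] (1 : A ⧸ J) := fun z => by
      induction z with
      | zero => exact ⟨0, by rw [zero_tmul]⟩
      | tmul b a =>
        obtain ⟨a, rfl⟩ := Ideal.Quotient.mk_surjective a
        refine ⟨algebraMap A B a * b, ?_⟩
        rw [← Algebra.smul_def, smul_tmul, Algebra.smul_def, mul_one]
        rfl
      | add u v hu hv =>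
        obtain ⟨u', rfl⟩ := hu
        obtain ⟨v', rfl⟩ := hv
        exact ⟨u' + v', (add_tmul _ _ _).symm⟩
    obtain ⟨b, hb⟩ := key (x - y)
    rw [← sub_eq_zero, hb]
    have hb0 : b ∈ J' := by
      rw [← Ideal.Quotient.eq_zero_iff_mem]
      have := congrArg (bcMap A B _ hs) hb
      rw [map_sub, sub_eq_zero.2 hxy] at this
      refine Eq.trans ?_ this.symm
      rw [bcMap_tmul]
      show Ideal.Quotient.mk J' b = Ideal.Quotient.mk J' (b * (bmap 𝒵 e).appTop.hom 1)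
      rw [map_one, mul_one]
    rw [show J' = J.map (algebraMap A B) from idealAt_flat C I hfib e he] at hb0
    refine Submodule.span_induction (p := fun b _ => b ⊗ₜ[A] (1 : A ⧸ J) = 0) ?_ (zero_tmul _ _)
      (fun a b _ _ ha hb => by rw [add_tmul, ha, hb, add_zero]) (fun c b _ hb => ?_) hb0
    · rintro _ ⟨a, ha, rfl⟩
      rw [Algebra.algebraMap_eq_smul_one, smul_tmul, Algebra.smul_def, mul_one,
        show algebraMap A (A ⧸ J) a = 0 from Ideal.Quotient.eq_zero_iff_mem.2 ha, tmul_zero]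
    · show (c • b) ⊗ₜ[A] (1 : A ⧸ J) = 0
      rw [← smul_tmul', hb, smul_zero]
  · obtain ⟨b, rfl⟩ := Ideal.Quotient.mk_surjective y
    refine ⟨b ⊗ₜ (1 : A ⧸ J), ?_⟩
    rw [bcMap_tmul]
    show Ideal.Quotient.mk J' (b * (bmap 𝒵 e).appTop.hom 1) = Ideal.Quotient.mk J' b
    rw [map_one, mul_one]

/-- Functions modulo the ideals. -/
noncomputable def quot (hfib : FibCat.IsFibGrpd 𝒵.p) : FlatFun 𝒵 where
  obj o := Γ(sch 𝒵 o, ⊤) ⧸ idealAt C I o
  res := fun {o' o} _ _ e => (Ideal.quotientMap (idealAt C I o') (bmap 𝒵 e).appTop.hom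
    (Ideal.map_le_iff_le_comap.1 (idealAt_res C I e))).toAddMonoidHom
  sl := fun {o' o} _ _ e a m => by
    obtain ⟨m, rfl⟩ := Ideal.Quotient.mk_surjective m
    exact congrArg (Ideal.Quotient.mk (idealAt C I o')) (map_mul (bmap 𝒵 e).appTop.hom a m)
  res_id o _ s := by
    obtain ⟨s, rfl⟩ := Ideal.Quotient.mk_surjective s
    show Ideal.Quotient.mk _ ((bmap 𝒵 (𝟙 o)).appTop.hom s) = _
    rw [show (bmap 𝒵 (𝟙 o)) = 𝟙 _ from congrArg CommaMorphism.left (𝒵.p.map_id o)]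
    rfl
  res_comp := fun {o'' o' o} _ _ _ e' e s => by
    obtain ⟨s, rfl⟩ := Ideal.Quotient.mk_surjective s
    show Ideal.Quotient.mk _ ((bmap 𝒵 (e' ≫ e)).appTop.hom s) = _
    rw [appTop_bmap_comp]
    rfl
  bc := fun {_ _} _ _ e he => isBC_quot C I hfib e he

set_option maxHeartbeats 1600000 in
/-- A closed subscheme of the chart missing the fibre over a prime misses the fibres over a neighbourhood. -/
theorem exists_separating {A : Type u} [CommRing A] (st : AStr 𝒵 A) (M : MChart 𝒵) [Finite M.I]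
    (hfib : FibCat.IsFibGrpd 𝒵.p) (hL : Lifts 𝒵) (hU : st.IsUnit' M) (hM : ∀ i, Nonempty (M.x i ⟶ C.x))
    (hC : M.Has C.x) (p : Ideal A) (s : A) (hs : s ∉ p)
    (h : st.hom C.x s ∈ p.map (st.hom C.x) ⊔ idealAt C I C.x) :
    ∃ f : A, f ∉ p ∧ st.hom C.x f ∈ idealAt C I C.x := by
  classical
  let Q := quot C I hfib
  let mk : ∀ o, Γ(sch 𝒵 o, ⊤) →+* Γ(sch 𝒵 o, ⊤) ⧸ idealAt C I o := fun o => Ideal.Quotient.mk _
  have happ : ∀ o : 𝒵.obj, ∃ F : GenFam.Ext (st.hom o) ↥p →ₗ[Γ(sch 𝒵 o, ⊤)] Γ(sch 𝒵 o, ⊤) ⧸ idealAt C I o,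
      ∀ y : ↥p, F (GenFam.Ext.mk _ _ y) = mk o (st.hom o y.1) := fun o =>
    bc_extend (GenFam.isBC_mk (st.hom o) ↥p) (AddMonoidHom.mk' (fun y : ↥p => mk o (st.hom o y.1))
      fun a b => by rw [Submodule.coe_add, map_add, map_add]) fun a y => by
        show mk o (st.hom o (a * y.1)) = _
        rw [map_mul]
        rfl
  choose F hF using happ
  let η : FlatHom (st.tens ↥p) Q :=
    { app := fun o _ => F o
      natural := fun {o' o} _ _ e z => by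
        refine bc_induction (GenFam.isBC_mk (st.hom o) ↥p)
          (P := fun z => F o' (st.res ↥p e z) = Q.res e (F o z))
          (by rw [map_zero, map_zero, map_zero, map_zero]) (fun a b ha hb => by
            rw [map_add, map_add, map_add, map_add, ha, hb]) (fun c y => ?_) z
        rw [st.res_sl ↥p e, map_smul, map_smul, Q.sl e, st.res_mk, hF, hF]
        refine congrArg (_ • ·) ?_
        show _ = mk o' ((bmap 𝒵 e).appTop.hom (st.hom o y.1))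
        exact congrArg (mk o') (DFunLike.congr_fun (st.natural e) y.1).symm }
  have hx : ∃ z, η.app C.x z = mk C.x (st.hom C.x s) := by
    obtain ⟨y, hy, j, hj, hyj⟩ := Submodule.mem_sup.1 h
    have hzero : mk C.x j = 0 := Ideal.Quotient.eq_zero_iff_mem.2 hj
    have hy' : ∃ z, η.app C.x z = mk C.x y := by
      refine Submodule.span_induction (p := fun y _ => ∃ z, η.app C.x z = mk C.x y) ?_
        ⟨0, by rw [map_zero, map_zero]⟩ (fun a b _ _ ⟨za, ha⟩ ⟨zb, hb⟩ => ⟨za + zb, by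
          rw [map_add, ha, hb, map_add]⟩) (fun c a _ ⟨za, ha⟩ => ⟨c • za, by
          rw [map_smul, ha, smul_eq_mul, map_mul]; rfl⟩) hy
      rintro _ ⟨w, hw, rfl⟩
      exact ⟨GenFam.Ext.mk _ _ ⟨w, hw⟩, hF C.x ⟨w, hw⟩⟩
    obtain ⟨z, hz⟩ := hy'
    exact ⟨z, by rw [hz, ← hyj, map_add, hzero, add_zero]⟩
  obtain ⟨z, hz⟩ := hx
  have hres : ∀ {o' o : 𝒵.obj} [IsAffine (sch 𝒵 o')] [IsAffine (sch 𝒵 o)] (e : o' ⟶ o),
      Q.res e (mk o (st.hom o s)) = mk o' (st.hom o' s) := fun {o' o} _ _ e =>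
    congrArg (mk o') (DFunLike.congr_fun (st.natural e) s)
  have hmem : ∀ (o : 𝒵.obj) [IsAffine (sch 𝒵 o)], M.Has o → mk o (st.hom o s) ∈ LinearMap.range (η.app o) :=
    fun o _ ⟨i, ⟨b⟩⟩ => by
      obtain ⟨a⟩ := hM i
      refine ⟨(st.tens ↥p).res (b ≫ a) z, ?_⟩
      rw [η.natural (b ≫ a) z, hz, hres]
  let T : Fam M (CohBC.imgFlat η) :=
    { val := fun o _ ho => ⟨mk o (st.hom o s), hmem o ho⟩
      compat := fun {o' o} _ _ e h' h => Subtype.ext (hres e) }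
  obtain ⟨t, ht⟩ := exists_lift hfib hL (CohBC.toImg η) (fun i => CohBC.toImg_surjective η (M.x i)) T
  obtain ⟨y, hy⟩ := AStr.exists_eq_mk (st := st) (C := M) hfib hL hU t
  refine ⟨s - y.1, fun hf => hs ?_, ?_⟩
  · have := p.add_mem hf y.2
    rwa [sub_add_cancel] at this
  have e : η.app C.x (t.val C.x hC) = mk C.x (st.hom C.x s) := congrArg Subtype.val (ht C.x hC)
  rw [hy C.x hC] at e
  rw [← Ideal.Quotient.eq_zero_iff_mem, map_sub, map_sub, sub_eq_zero]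
  exact e.symm.trans (hF C.x y)

end Groth.Agent.H14.UB
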