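import Groth.Agent.H14.UB.Pts
import Groth.Agent.H14.UB.Ideal

/-!
Good moduli spaces are surjective and universally closed.
-/

set_option autoImplicit false
set_option backward.isDefEq.respectTransparency false
set_option backward.isDefEq.respectTransparency.types false
set_option linter.style.haveILetI false

universe u

open CategoryTheory CategoryTheory.Limits AlgebraicGeometry Opposite
open StMod (sch bmap fibCat baseOver)
open Groth.Agent.Lib Groth.Agent.Lib.AlgStack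
open FibCat (IsFibGrpd fp fpFst fpSnd overCat)
open AlgSt (IsAlgStack ofSp ofSpMap overMap)
open Groth.Agent.H14.CohBC (CompactPullbacks lifts_affine)
open Groth.Agent.H14.GenFam (isFibGrpd_fibCat exists_chart2_at Chart Chart2)

namespace Groth.Agent.H14.UB

variable {S : Scheme.{u}}

/-- The ideal of functions vanishing at a point. -/
noncomputable def ptIdeal (X : Scheme.{u}) (u : X) : Ideal Γ(X, ⊤) := (X.toSpecΓ u).asIdeal

instance ptIdeal_isPrime (X : Scheme.{u}) (u : X) : (ptIdeal X u).IsPrime := (X.toSpecΓ u).isPrime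

theorem ptIdeal_map {X Y : Scheme.{u}} (f : X ⟶ Y) (u : X) :
    ptIdeal Y (f u) = (ptIdeal X u).comap f.appTop.hom := by
  have h : Y.toSpecΓ (f u) = Spec.map f.appTop (X.toSpecΓ u) := by
    rw [← Scheme.Hom.comp_apply, Scheme.toSpecΓ_naturality, Scheme.Hom.comp_apply]
  exact congrArg PrimeSpectrum.asIdeal h

theorem exists_pt (X : Scheme.{u}) [IsAffine X] (q : Ideal Γ(X, ⊤)) [hq : q.IsPrime] : ∃ u : X, ptIdeal X u = q := by
  refine ⟨X.isoSpec.inv ⟨q, hq⟩, ?_⟩
  show ((X.isoSpec.hom) (X.isoSpec.inv ⟨q, hq⟩)).asIdeal = q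
  rw [← Scheme.Hom.comp_apply, Iso.inv_hom_id]
  rfl

theorem exists_ideal_of_isClosed (X : Scheme.{u}) [IsAffine X] {Z : Set X} (hZ : IsClosed Z) :
    ∃ I : Ideal Γ(X, ⊤), ∀ u, u ∈ Z ↔ I ≤ ptIdeal X u := by
  have hc : IsClosed (X.isoSpec.inv ⁻¹' Z) := hZ.preimage X.isoSpec.inv.continuous
  obtain ⟨s, hs⟩ := (PrimeSpectrum.isClosed_iff_zeroLocus _).1 hc
  refine ⟨Ideal.span s, fun u => ?_⟩
  rw [Ideal.span_le]
  have : X.isoSpec.inv (X.isoSpec.hom u) = u := by
    rw [← Scheme.Hom.comp_apply, Iso.hom_inv_id]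
    rfl
  refine Iff.trans ?_ (PrimeSpectrum.mem_zeroLocus (X.isoSpec.hom u) s)
  exact ⟨fun h => hs.subset (show X.isoSpec.inv (X.isoSpec.hom u) ∈ Z from this.symm ▸ h),
    fun h => this ▸ (hs.symm.subset h)⟩

/-- Primes containing the intersection of the contractions of finitely many ideals are limits of contractions. -/
theorem mem_closure_of_iInf_comap_le {R : Type u} [CommRing R] {n : ℕ} {T : Fin n → Type u} [∀ l, CommRing (T l)]
    (f : ∀ l, R →+* T l) (K : ∀ l, Ideal (T l)) (q : PrimeSpectrum R) (h : (⨅ l, (K l).comap (f l)) ≤ q.asIdeal) :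
    ∃ l, q ∈ closure (PrimeSpectrum.comap (f l) '' PrimeSpectrum.zeroLocus (K l)) := by
  have h' : (Finset.univ.inf fun l => (K l).comap (f l)) ≤ q.asIdeal := by
    rwa [Finset.inf_univ_eq_iInf]
  obtain ⟨l, -, hl⟩ := (Ideal.IsPrime.inf_le' q.isPrime).1 h'
  exact ⟨l, by rw [PrimeSpectrum.closure_image_comap_zeroLocus]; exact hl⟩

variable {𝒳 : AlgSt.Cat S} {M : AlgSp.Space S} {π : 𝒳 ⥤ᵇ ofSp M.obj}

/-- A good moduli space is surjective on points. -/
theorem isSurjective_goodModuli (h𝒳 : IsAlgStack Scheme.fppfPrecoverage 𝒳) (hM : CompactPullbacks M.obj)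
    (hqc : AlgSt.IsQuasiCompactMor Scheme.fppfPrecoverage π) (hqs : AlgSt.IsQuasiSeparatedMor π)
    (h : StMod.IsGoodModuli π) : AlgSt.IsSurjective π := by
  intro c
  obtain ⟨p, rfl⟩ := AlgSt.Points.mk_surjective c
  have hMs := IsAlg.isAlgStack_ofSp M
  haveI hp : IsAffine (sch (ofSp M.obj) p.obj) := by
    show IsAffine ((ofSp M.obj).p.obj p.obj).left
    rw [p.lies]
    exact inferInstanceAs (IsAffine (Spec (CommRingCat.of p.K)))
  obtain ⟨C⟩ := exists_chart2_at π h𝒳 hMs hqc hqs p.obj hp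
  have hU := isUnit'_astr h𝒳.isStack.1 (unitBij_affine π h𝒳 hM hqc hqs h p.obj hp) (ofChart2 C)
  haveI : Nontrivial Γ(sch (ofSp M.obj) p.obj, ⊤) := by
    show Nontrivial Γ(((ofSp M.obj).p.obj p.obj).left, ⊤)
    rw [p.lies]
    exact (Scheme.ΓSpecIso (CommRingCat.of p.K)).commRingCatIsoToRingEquiv.toEquiv.nontrivial
  haveI : Nonempty (sch (fibCat π p.obj) C.x) := by
    by_contra hne
    rw [not_nonempty_iff] at hne
    haveI := hne
    haveI sub : Subsingleton Γ(sch (fibCat π p.obj) C.x, ⊤) := CommRingCat.subsingleton_of_isTerminal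
      (X := Γ(sch (fibCat π p.obj) C.x, ⊤)) (by
        rw [show (⊤ : (sch (fibCat π p.obj) C.x).Opens) = ⊥ from Subsingleton.elim _ _]
        exact (sch (fibCat π p.obj) C.x).sheaf.isTerminalOfEmpty)
    exact one_ne_zero (hU.inj 1 fun i => sub.elim _ _)
  obtain ⟨u⟩ := this
  let o : (fibCat π p.obj).obj := C.x
  refine ⟨AlgSt.Points.ofChart (objFun h𝒳.isStack.1 o.left) u, ?_⟩
  rw [Chart.Points.map_ofChart]
  obtain ⟨e, he⟩ := Yoneda.exists_fromObj_iso h𝒳.isStack.1 (rfl : 𝒳.p.obj o.left = 𝒳.p.obj o.left)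
  let y := Yoneda.fromObj hMs.isStack.1 p.lies
  obtain ⟨e', he'⟩ := Yoneda.exists_fromObj_iso hMs.isStack.1 p.lies
  haveI := he
  haveI := he'
  haveI := BasedFunctor.preserves_isHomLift π (𝟙 (𝒳.p.obj o.left)) e.hom
  let b : 𝒳.p.obj o.left ⟶ Over.mk p.str := baseOver π o.left o.hom ≫ eqToHom p.lies
  haveI : (ofSp M.obj).p.IsHomLift b o.hom :=
    IsHomLift.of_fac _ _ _ (π.w_obj o.left) p.lies (by simp [b, StMod.baseOver])
  haveI : (ofSp M.obj).p.IsHomLift b (π.map e.hom ≫ o.hom ≫ e'.inv) := by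
    simpa using (inferInstance : (ofSp M.obj).p.IsHomLift (𝟙 (𝒳.p.obj o.left) ≫ b ≫ 𝟙 (Over.mk p.str))
      (π.map e.hom ≫ o.hom ≫ e'.inv))
  refine (ofChart_eq_of_hom hMs.isStack.1 (BasedFunctor.comp (objFun h𝒳.isStack.1 o.left) π) y b
    (π.map e.hom ≫ o.hom ≫ e'.inv) u).trans ?_
  refine Eq.trans ?_ ((Chart.Points.mk_obj_eq_ofChart y (𝟙 (Over.mk p.str))).symm.trans
    (AlgSt.Points.sound ⟨{ K := p.K, str := p.str, obj := y.obj (Over.mk (𝟙 _)), lies := y.w_obj _ }, 𝟙 _, e'.hom,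
      trivial⟩))
  exact congrArg (AlgSt.Points.ofChart y) (Subsingleton.elim (α := Spec (CommRingCat.of p.K)) _ _)

set_option maxHeartbeats 1600000 in
/-- A good moduli space is universally closed. -/
theorem isUnivClosed_goodModuli (h𝒳 : IsAlgStack Scheme.fppfPrecoverage 𝒳) (hM : CompactPullbacks M.obj)
    (hqc : AlgSt.IsQuasiCompactMor Scheme.fppfPrecoverage π) (hqs : AlgSt.IsQuasiSeparatedMor π)
    (h : StMod.IsGoodModuli π) : AlgSt.IsUnivClosed Scheme.fppfPrecoverage π := by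
  intro 𝒵 h𝒵 g C₀ hC₀
  classical
  have hMs := IsAlg.isAlgStack_ofSp M
  have hX := h𝒳.isStack.1
  have hfp := Chart.Basic.isAlgStack_fp hMs h𝒵 h𝒳 g π
  have hF := hfp.isStack.1
  rw [← isOpen_compl_iff, AlgSt.Points.isOpen_iff]
  intro U z hz
  rw [isOpen_iff_forall_mem_open]
  intro t₀ ht₀
  obtain ⟨O, hO, htO, -⟩ := exists_isAffineOpen_mem_and_subset (X := U.left) (x := t₀) (U := ⊤) trivial
  let V : Over S := Over.mk (O.ι ≫ U.hom)
  haveI : IsAffine V.left := hO
  let ι : V ⟶ U := Over.homMk O.ι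
  let zV := BasedFunctor.comp (overMap ι) z
  have hzV : ∀ v : V.left, AlgSt.Points.ofChart zV v = AlgSt.Points.ofChart z (ι.left v) :=
    fun v => Chart.Points.ofChart_overMap ι z v
  let η := etaV (g := g) zV
  haveI hη : IsAffine (sch (ofSp M.obj) η) := by
    show IsAffine ((ofSp M.obj).p.obj η).left
    rw [etaV_base]
    infer_instance
  obtain ⟨C⟩ := exists_chart2_at π h𝒳 hMs hqc hqs η hη
  let o : (fibCat π η).obj := C.x
  haveI : IsAffine (sch 𝒳 o.left) := C.affx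
  have hcl : IsClosed ((fun u => ptAt zV hF o u) ⁻¹' C₀) := by
    refine hC₀.preimage ?_
    exact (Chart.Points.continuous_ofChart hfp _).comp (eqToHom (pObj_base zV o).symm).left.continuous
  obtain ⟨I, hI⟩ := exists_ideal_of_isClosed (sch 𝒳 o.left) hcl
  have hfib := isFibGrpd_fibCat hX π η
  let J := idealAt C.toChart I o
  -- the closed set of the ideal
  have hJ : ∀ u : sch 𝒳 o.left, J ≤ ptIdeal _ u → ptAt zV hF o u ∈ C₀ := fun u hu => by
    obtain ⟨T⟩ := exists_test C.toChart I hfib o C.affx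
    haveI : ∀ l, IsAffine (sch 𝒳 (T.ξ l).left) := T.aff
    obtain ⟨l, hl⟩ := mem_closure_of_iInf_comap_le (fun l => (bmap (fibCat π η) (T.k l)).appTop.hom)
      (fun l => I.map (bmap (fibCat π η) (T.m l)).appTop.hom) ((sch 𝒳 o.left).toSpecΓ u) (fun r hr => hu
        (T.enough r fun l => Submodule.mem_iInf (p := fun l => Ideal.comap (bmap (fibCat π η) (T.k l)).appTop.hom
          (I.map (bmap (fibCat π η) (T.m l)).appTop.hom)) |>.1 hr l))
    have hsub : PrimeSpectrum.comap (bmap (fibCat π η) (T.k l)).appTop.hom ''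
        PrimeSpectrum.zeroLocus (I.map (bmap (fibCat π η) (T.m l)).appTop.hom) ⊆
        (sch 𝒳 o.left).toSpecΓ '' ((fun u => ptAt zV hF o u) ⁻¹' C₀) := by
      rintro _ ⟨q, hq, rfl⟩
      obtain ⟨w, hw⟩ := exists_pt (sch 𝒳 (T.ξ l).left) q.asIdeal (hq := q.isPrime)
      refine ⟨bmap 𝒳 (T.k l).left w, ?_, PrimeSpectrum.ext ?_⟩
      · show ptAt zV hF o _ ∈ C₀
        rw [← ptAt_map zV hF (T.k l) w, ptAt_map zV hF (T.m l) w]
        refine (hI _).2 ?_
        rw [ptIdeal_map, hw]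
        exact Ideal.map_le_iff_le_comap.1 hq
      · exact (ptIdeal_map (bmap 𝒳 (T.k l).left) w).trans (congrArg (Ideal.comap _) hw)
    have hclosed : IsClosed ((sch 𝒳 o.left).toSpecΓ '' ((fun u => ptAt zV hF o u) ⁻¹' C₀)) :=
      (sch 𝒳 o.left).isoSpec.hom.homeomorph.isClosedMap _ hcl
    obtain ⟨u', hu', hue⟩ := hclosed.closure_subset_iff.2 hsub hl
    rwa [(sch 𝒳 o.left).isoSpec.hom.homeomorph.injective hue] at hu'
  have hto : ∀ u : sch 𝒳 o.left, (baseOver π o.left o.hom).left u =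
      (eqToHom (etaV_base (g := g) zV).symm).left ((toV zV o).left u) := fun u => by
    rw [left_apply]
    exact congrArg (fun k : 𝒳.p.obj o.left ⟶ (ofSp M.obj).p.obj η => k.left u) (by simp [toV])
  let t₁ : sch (ofSp M.obj) η := (eqToHom (etaV_base (g := g) zV).symm).left ⟨t₀, htO⟩
  let p := ptIdeal (sch (ofSp M.obj) η) t₁
  let st := astr π η
  -- the separating function
  have hex : ∃ s, s ∉ p ∧ st.hom o s ∈ p.map (st.hom o) ⊔ J := by
    by_contra hne
    push_neg at hne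
    obtain ⟨q, hq, hle, hdisj⟩ := Ideal.exists_le_prime_disjoint (p.map (st.hom o) ⊔ J)
      (Submonoid.map (st.hom o) p.primeCompl) (Set.disjoint_left.2 fun x hx hx' => by
        obtain ⟨s, hs, rfl⟩ := hx'
        exact hne s hs hx)
    haveI := hq
    obtain ⟨u, hu⟩ := exists_pt (sch 𝒳 o.left) q
    have hcomap : q.comap (st.hom o) = p := le_antisymm (fun s hs => by
        by_contra h'
        exact Set.disjoint_left.1 hdisj hs ⟨s, h', rfl⟩)
      (Ideal.map_le_iff_le_comap.1 (le_sup_left.trans hle))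
    have hpt : (baseOver π o.left o.hom).left u = t₁ := by
      have e : ptIdeal (sch (ofSp M.obj) η) ((baseOver π o.left o.hom).left u) = ptIdeal _ t₁ :=
        ((ptIdeal_map (baseOver π o.left o.hom).left u).trans (congrArg (Ideal.comap _) hu)).trans hcomap
      exact (sch (ofSp M.obj) η).isoSpec.hom.homeomorph.injective (PrimeSpectrum.ext e)
    have hv : (toV zV o).left u = ⟨t₀, htO⟩ :=
      ((eqToHom (etaV_base (g := g) zV).symm).left.homeomorph).injective ((hto u).symm.trans hpt)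
    refine ht₀ ⟨ptAt zV hF o u, hJ u (hu ▸ le_sup_right.trans hle), ?_⟩
    rw [map_fst_ptAt zV hF h𝒵.isStack.1, hv, hzV]
    rfl
  obtain ⟨s, hs, hsJ⟩ := hex
  obtain ⟨f, hf, hfJ⟩ := exists_separating C.toChart I st (ofChart2 C) hfib (lifts_affine π h𝒳 hM hqc hqs h.1 η hη)
    (isUnit'_astr hX (unitBij_affine π h𝒳 hM hqc hqs h η hη) (ofChart2 C)) (fun _ => ⟨𝟙 _⟩)
    (MultiExt.MChart.Has.of_map (ofChart2 C) (i := ⟨⟩) (𝟙 C.x)) p s hs hsJ
  let D : Set V.left := {v | f ∉ ptIdeal (sch (ofSp M.obj) η) ((eqToHom (etaV_base (g := g) zV).symm).left v)}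
  have hD : IsOpen D :=
    (PrimeSpectrum.basicOpen f).2.preimage
      ((sch (ofSp M.obj) η).toSpecΓ.continuous.comp (eqToHom (etaV_base (g := g) zV).symm).left.continuous)
  refine ⟨ι.left '' D, ?_, O.ι.isOpenEmbedding.isOpenMap _ hD, ⟨⟨t₀, htO⟩, hf, rfl⟩⟩
  rintro _ ⟨v, hv, rfl⟩ ⟨c, hc, hcz⟩
  obtain ⟨o', ho', w, hw, hwc⟩ := exists_ptAt_eq zV hF hX h𝒵.isStack.1 c v ((hzV v).trans hcz.symm)
  obtain ⟨n, D', hD'⟩ := C.cover o' ho'
  obtain ⟨j, w', hw'⟩ := D'.surj w
  obtain ⟨a⟩ := hD' j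
  have hZ : ptAt zV hF o (bmap 𝒳 a.left w') ∈ C₀ := by
    rw [← ptAt_map zV hF a w', ptAt_map zV hF (D'.e j) w']
    rw [show bmap 𝒳 (D'.e j).left w' = w from hw', hwc]
    exact hc
  have hle : I ≤ ptIdeal _ (bmap 𝒳 a.left w') := (hI _).1 hZ
  have hJI : J ≤ I := fun r hr => by
    have := (mem_idealAt C.toChart I).1 hr o C.affx (𝟙 o) (𝟙 o)
    rw [show bmap (fibCat π η) (𝟙 o) = 𝟙 _ from congrArg CommaMorphism.left ((fibCat π η).p.map_id o)] at this
    rw [Scheme.Hom.id_appTop] at this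
    erw [CommRingCat.hom_id, Ideal.map_id] at this
    exact this
  have hmem : st.hom o f ∈ ptIdeal (sch 𝒳 o.left) (bmap 𝒳 a.left w') := hle (hJI hfJ)
  apply hv
  have hvv : (toV zV o).left (bmap 𝒳 a.left w') = v := by
    rw [← hw, ← hw']
    refine ((left_apply (𝒳.p.map a.left) (toV zV o) w').trans ?_).trans
      (left_apply (𝒳.p.map (D'.e j).left) (toV zV o') w').symm
    exact congrArg (fun k : 𝒳.p.obj (D'.E j).left ⟶ V => k.left w')
      ((toV_map zV a).trans (toV_map zV (D'.e j)).symm)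
  show f ∈ ptIdeal _ _
  rw [← hvv, ← hto]
  exact (SetLike.ext_iff.1 (ptIdeal_map (baseOver π o.left o.hom).left (bmap 𝒳 a.left w')) f).2 hmem

end Groth.Agent.H14.UB
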