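import Groth.Agent.H14.CohDesc.Affine
import Groth.Agent.H14.AffPush.Basic
import Groth.Agent.H14.CohBC.PushMap
import Groth.Agent.H14.CohBC.Member

/-!
An affine morphism followed by a cohomologically affine morphism is cohomologically affine.
-/

set_option autoImplicit false
set_option backward.isDefEq.respectTransparency false
set_option backward.isDefEq.respectTransparency.types false
set_option linter.style.haveILetI false

universe u

open CategoryTheory CategoryTheory.Limits AlgebraicGeometry Opposite TopologicalSpace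
open StMod (sch bmap fibCat fibFst baseOver etaOf)
open Groth.Agent.Lib Groth.Agent.Lib.AlgStack
open Groth.Agent.H14.GenFam
open Groth.Agent.H14.ModDesc
open FibCat (IsFibGrpd fp fpFst fpSnd overCat)
open AlgSt (IsAlgStack ofSp)

namespace Groth.Agent.H14.UB.AffComp

variable {S : Scheme.{u}}

/-- The fibre of an affine morphism over any object has a final object. -/
theorem exists_terminal {𝒳 𝒴 : AlgSt.Cat S} (hX : IsFibGrpd 𝒳.p) (hY : IsFibGrpd 𝒴.p) {f : 𝒳 ⥤ᵇ 𝒴}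
    (hf : AlgSt.RepByAlgSpWith AlgSp.IsAffineMor f) (η : 𝒴.obj) :
    ∃ x : (fibCat f η).obj, ∀ o, ∃ k : o ⟶ x, ∀ k', k' = k := by
  obtain ⟨κ, -⟩ := Yoneda.exists_fromObj_iso hY (rfl : 𝒴.p.obj η = 𝒴.p.obj η)
  let T := 𝒴.p.obj η
  let y := Yoneda.fromObj hY (rfl : 𝒴.p.obj η = 𝒴.p.obj η)
  obtain ⟨F, e, he, hP⟩ := hf T y
  have hfR := FibProd.isFibGrpd_fp (Yoneda.isFibGrpd_overCat T) hX hY (F := y) (G := f)
  obtain ⟨W, i, fst, sq, -⟩ := AlgSpace.repWith_exists (AlgSpMor.AffineDescent.repWith_of_isAffineMor hP) (𝟙 ((AlgSp.yon S).obj T))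
  have hiso : IsIso fst := sq.isIso_fst_of_isIso
  have hG : IsEqv (BasedFunctor.comp e (BasedFunctor.comp (FibProd.swap y f)
      (BasedFunctor.comp (fpToFib f y) (mapFun f κ.hom)))) :=
    (isEqv_of_isEquivOver he (StkRep.isStack_ofSp F.obj).1 hfR).comp
      ((isEqv_of_isEquivOver (FibProd.isEquivOver_swap y f) hfR
        (FibProd.isFibGrpd_fp hX (Yoneda.isFibGrpd_overCat _) hY)).comp
        ((isEqv_fpToFib hX hY f y).comp (isEqv_mapFun f hX κ.hom)))
  let G := BasedFunctor.comp e (BasedFunctor.comp (FibProd.swap y f)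
    (BasedFunctor.comp (fpToFib f y) (mapFun f κ.hom)))
  let a₀ : (ofSp F.obj).obj := ⟨W, (AlgSp.J S).uliftYonedaEquiv fst⟩
  refine ⟨G.obj a₀, fun o => ?_⟩
  obtain ⟨a, ea, -⟩ := hG.obj o
  obtain ⟨b, hb⟩ := ((AlgSp.yon S).map_surjective ((AlgSp.J S).uliftYonedaEquiv.symm a.sec ≫ inv fst))
  have hba : F.obj.obj.map b.op a₀.sec = a.sec := by
    have h1 : (AlgSp.yon S).map b ≫ fst = (AlgSp.J S).uliftYonedaEquiv.symm a.sec := by simp [hb]
    have h2 := congrArg (AlgSp.J S).uliftYonedaEquiv h1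
    rw [Equiv.apply_symm_apply] at h2
    exact ((AlgSp.J S).map_uliftYonedaEquiv fst b).trans h2
  let k₀ : a ⟶ a₀ := ⟨b, hba⟩
  have := hG.full
  have := hG.faithful
  refine ⟨ea.inv ≫ G.map k₀, fun k' => ?_⟩
  obtain ⟨k₁, hk₁⟩ := G.toFunctor.map_surjective (ea.hom ≫ k')
  rw [Iso.eq_inv_comp, ← hk₁]
  refine congrArg G.map (Stk.EltObj.hom_ext ((AlgSp.yon S).map_injective ?_))
  rw [← cancel_mono fst]
  apply (AlgSp.J S).uliftYonedaEquiv.injective
  exact (((AlgSp.J S).map_uliftYonedaEquiv fst k₁.hom).symm.trans k₁.map_sec).trans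
    (((AlgSp.J S).map_uliftYonedaEquiv fst b).symm.trans hba).symm

variable {𝒲 𝒳 : AlgSt.Cat S} {f : 𝒲 ⥤ᵇ 𝒳}

theorem baseOver_w {x : 𝒳.obj} {o' o : (fibCat f x).obj} (k : o' ⟶ o) :
    𝒲.p.map k.left ≫ baseOver f o.left o.hom = baseOver f o'.left o'.hom :=
  (StMod.map_comp_baseOver f k.left o.hom).trans (congrArg (baseOver f o'.left) (CostructuredArrow.w k))

variable (hW : IsFibGrpd 𝒲.p) (hX : IsFibGrpd 𝒳.p) (hf : AlgSt.RepByAlgSpWith AlgSp.IsAffineMor f)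

/-- The final object over an object. -/
noncomputable def up (x : 𝒳.obj) : (fibCat f x).obj := (exists_terminal hW hX hf x).choose

/-- The map to the final object. -/
noncomputable def toUp {x : 𝒳.obj} (o : (fibCat f x).obj) : o ⟶ up hW hX hf x :=
  ((exists_terminal hW hX hf x).choose_spec o).choose

theorem hom_up {x : 𝒳.obj} {o : (fibCat f x).obj} (k k' : o ⟶ up hW hX hf x) : k = k' :=
  (((exists_terminal hW hX hf x).choose_spec o).choose_spec k).trans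
    (((exists_terminal hW hX hf x).choose_spec o).choose_spec k').symm

theorem left_up {x : 𝒳.obj} {v : 𝒲.obj} (a : v ⟶ (up hW hX hf x).left) (b : v ⟶ (up hW hX hf x).left)
    (h : f.map a ≫ (up hW hX hf x).hom = f.map b ≫ (up hW hX hf x).hom) : a = b := by
  let o : (fibCat f x).obj := CostructuredArrow.mk (f.map a ≫ (up hW hX hf x).hom)
  exact congrArg CommaMorphism.left
    (hom_up hW hX hf (o := o) (CostructuredArrow.homMk a rfl) (CostructuredArrow.homMk b h.symm))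

/-- The morphism of final objects. -/
noncomputable def upMap {x' x : 𝒳.obj} (φ : x' ⟶ x) : (up hW hX hf x').left ⟶ (up hW hX hf x).left :=
  (toUp hW hX hf (CostructuredArrow.mk ((up hW hX hf x').hom ≫ φ))).left

theorem upMap_w {x' x : 𝒳.obj} (φ : x' ⟶ x) :
    f.map (upMap hW hX hf φ) ≫ (up hW hX hf x).hom = (up hW hX hf x').hom ≫ φ :=
  CostructuredArrow.w (toUp hW hX hf (CostructuredArrow.mk ((up hW hX hf x').hom ≫ φ)))

theorem upMap_id (x : 𝒳.obj) : upMap hW hX hf (𝟙 x) = 𝟙 _ :=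
  left_up hW hX hf _ _ ((upMap_w hW hX hf _).trans (by simp))

theorem upMap_comp {x'' x' x : 𝒳.obj} (ψ : x'' ⟶ x') (φ : x' ⟶ x) :
    upMap hW hX hf (ψ ≫ φ) = upMap hW hX hf ψ ≫ upMap hW hX hf φ :=
  left_up hW hX hf _ _ (by
    rw [upMap_w, f.toFunctor.map_comp, Category.assoc, upMap_w, reassoc_of% (upMap_w hW hX hf ψ)])

/-- The map of base schemes. -/
noncomputable def base (x : 𝒳.obj) : 𝒲.p.obj (up hW hX hf x).left ⟶ 𝒳.p.obj x :=
  baseOver f (up hW hX hf x).left (up hW hX hf x).hom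

theorem map_upMap {x' x : 𝒳.obj} (φ : x' ⟶ x) :
    𝒲.p.map (upMap hW hX hf φ) ≫ base hW hX hf x = base hW hX hf x' ≫ 𝒳.p.map φ := by
  rw [base, base, StMod.map_comp_baseOver, upMap_w, StMod.baseOver_comp]

theorem isPullback_over {x' x : 𝒳.obj} (φ : x' ⟶ x) :
    IsPullback (𝒲.p.map (upMap hW hX hf φ)) (base hW hX hf x') (base hW hX hf x) (𝒳.p.map φ) := by
  let m := upMap hW hX hf φ
  let u' := (up hW hX hf x').hom
  have huniq : ∀ {T : Over S} (l₁ l₂ : T ⟶ 𝒲.p.obj (up hW hX hf x').left),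
      l₁ ≫ 𝒲.p.map m = l₂ ≫ 𝒲.p.map m → l₁ ≫ base hW hX hf x' = l₂ ≫ base hW hX hf x' → l₁ = l₂ := by
    intro T l₁ l₂ hm hb
    obtain ⟨v₁, k₁, hk₁⟩ := hW.exists_lift l₁
    obtain ⟨v₂, k₂, hk₂⟩ := hW.exists_lift l₂
    have e₁ : 𝒲.p.obj v₁ = T := IsHomLift.domain_eq 𝒲.p l₁ k₁
    have e₂ : 𝒲.p.obj v₂ = T := IsHomLift.domain_eq 𝒲.p l₂ k₂
    have b₁ : 𝒲.p.map k₁ = eqToHom e₁ ≫ l₁ := by simpa using IsHomLift.fac' 𝒲.p l₁ k₁
    have b₂ : 𝒲.p.map k₂ = eqToHom e₂ ≫ l₂ := by simpa using IsHomLift.fac' 𝒲.p l₂ k₂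
    let h : 𝒲.p.obj v₁ ⟶ 𝒲.p.obj v₂ := eqToHom (e₁.trans e₂.symm)
    haveI : 𝒲.p.IsHomLift (h ≫ 𝒲.p.map (k₂ ≫ m)) (k₁ ≫ m) := by
      rw [show h ≫ 𝒲.p.map (k₂ ≫ m) = 𝒲.p.map (k₁ ≫ m) by
        rw [Functor.map_comp, Functor.map_comp, b₁, b₂, Category.assoc, Category.assoc, hm]
        simp [h]]
      exact IsHomLift.map 𝒲.p _
    obtain ⟨j, hj, hjk⟩ := BasedBasic.exists_lift_through hW (k₂ ≫ m) (k₁ ≫ m) h
    have bj : 𝒲.p.map j = h := by simpa using IsHomLift.fac' 𝒲.p h j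
    have hjw : f.map (j ≫ k₂) ≫ u' = f.map k₁ ≫ u' := by
      refine BasedBasic.hom_eq_of_comp_eq hX φ ?_ ?_
      · have e : baseOver f v₁ (f.map (j ≫ k₂) ≫ u') = baseOver f v₁ (f.map k₁ ≫ u') := by
          rw [← StMod.map_comp_baseOver, ← StMod.map_comp_baseOver, Functor.map_comp, bj, b₁, b₂,
            Category.assoc, Category.assoc]
          show h ≫ eqToHom e₂ ≫ l₂ ≫ base hW hX hf x' = eqToHom e₁ ≫ l₁ ≫ base hW hX hf x'
          rw [hb]
          simp [h]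
        exact (cancel_epi _).1 e
      · rw [Category.assoc, Category.assoc, ← upMap_w hW hX hf φ, ← Category.assoc, ← Category.assoc,
          ← f.toFunctor.map_comp, ← f.toFunctor.map_comp, Category.assoc]
        exact congrArg (fun q => f.map q ≫ (up hW hX hf x).hom) hjk
    have hk : j ≫ k₂ = k₁ := left_up hW hX hf _ _ hjw
    have := congrArg (fun q => 𝒲.p.map q) hk
    simp only [Functor.map_comp, bj, b₁, b₂, h] at this
    rw [← Category.assoc, eqToHom_trans] at this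
    exact ((cancel_epi _).1 this).symm
  have hex : ∀ s : PullbackCone (base hW hX hf x) (𝒳.p.map φ), ∃ l : s.pt ⟶ 𝒲.p.obj (up hW hX hf x').left,
      l ≫ 𝒲.p.map m = s.fst ∧ l ≫ base hW hX hf x' = s.snd := fun s => by
    obtain ⟨v, k, hk⟩ := hW.exists_lift s.fst
    have e : 𝒲.p.obj v = s.pt := IsHomLift.domain_eq 𝒲.p s.fst k
    have bk : 𝒲.p.map k = eqToHom e ≫ s.fst := by simpa using IsHomLift.fac' 𝒲.p s.fst k
    let g : 𝒳.p.obj (f.obj v) ⟶ 𝒳.p.obj x' := eqToHom (f.w_obj v) ≫ eqToHom e ≫ s.snd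
    haveI : 𝒳.p.IsHomLift (g ≫ 𝒳.p.map φ) (f.map k ≫ (up hW hX hf x).hom) := by
      rw [show g ≫ 𝒳.p.map φ = 𝒳.p.map (f.map k ≫ (up hW hX hf x).hom) by
        rw [← cancel_epi (eqToHom (f.w_obj v).symm)]
        show _ = baseOver f v (f.map k ≫ (up hW hX hf x).hom)
        rw [← StMod.map_comp_baseOver, bk, Category.assoc]
        show _ = eqToHom e ≫ s.fst ≫ base hW hX hf x
        rw [s.condition]
        simp [g]]
      exact IsHomLift.map 𝒳.p _
    obtain ⟨γ, hγ, hγφ⟩ := BasedBasic.exists_lift_through hX φ (f.map k ≫ (up hW hX hf x).hom) g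
    have bγ : 𝒳.p.map γ = g := by simpa using IsHomLift.fac' 𝒳.p g γ
    let t := toUp hW hX hf (x := x') (CostructuredArrow.mk γ)
    have ht : t.left ≫ m = k := left_up hW hX hf _ _ (by
      rw [f.toFunctor.map_comp, Category.assoc, upMap_w, ← Category.assoc]
      exact (congrArg (· ≫ φ) (CostructuredArrow.w t)).trans hγφ)
    refine ⟨eqToHom e.symm ≫ 𝒲.p.map t.left, ?_, ?_⟩
    · rw [Category.assoc]
      show eqToHom e.symm ≫ 𝒲.p.map t.left ≫ 𝒲.p.map m = _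
      rw [← Functor.map_comp, ht, bk]
      simp
    · rw [Category.assoc]
      show eqToHom e.symm ≫ 𝒲.p.map t.left ≫ baseOver f (up hW hX hf x').left (up hW hX hf x').hom = _
      rw [baseOver_w t]
      show eqToHom e.symm ≫ eqToHom (f.w_obj v).symm ≫ 𝒳.p.map γ = _
      rw [bγ]
      simp [g]
  choose l hl₁ hl₂ using hex
  exact IsPullback.of_isLimit' ⟨map_upMap hW hX hf φ⟩ (PullbackCone.IsLimit.mk _ l hl₁ hl₂
    fun s n h₁ h₂ => huniq n (l s) (h₁.trans (hl₁ s).symm) (h₂.trans (hl₂ s).symm))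

/-- The map of schemes. -/
noncomputable def eps (x : 𝒳.obj) : sch 𝒲 (up hW hX hf x).left ⟶ sch 𝒳 x := (base hW hX hf x).left

theorem isPullback_upMap {x' x : 𝒳.obj} (φ : x' ⟶ x) :
    IsPullback (bmap 𝒲 (upMap hW hX hf φ)) (eps hW hX hf x') (eps hW hX hf x) (bmap 𝒳 φ) :=
  (isPullback_over hW hX hf φ).map (Over.forget S)

theorem isAffine_up (x : 𝒳.obj) (hx : IsAffine (sch 𝒳 x)) : IsAffine (sch 𝒲 (up hW hX hf x).left) := by
  obtain ⟨o, ho, hk⟩ := CohDesc.exists_terminal hW hX hf x hx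
  obtain ⟨k, -⟩ := hk (up hW hX hf x)
  obtain ⟨k₀, hk₀⟩ := hk o
  let k' := toUp hW hX hf o
  have e₁ : k' ≫ k = 𝟙 o := (hk₀ _).trans (hk₀ _).symm
  have e₂ : k ≫ k' = 𝟙 _ := hom_up hW hX hf _ _
  haveI : IsIso k := ⟨k', e₂, e₁⟩
  haveI : IsIso ((fibCat f x).p.map k) := inferInstance
  haveI : IsIso (bmap (fibCat f x) k) := inferInstanceAs (IsIso ((Over.forget S).map ((fibCat f x).p.map k)))
  haveI : IsAffine (sch (fibCat f x) o) := ho
  exact IsAffine.of_isIso (bmap (fibCat f x) k)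

theorem isAffineHom_eps (x : 𝒳.obj) : IsAffineHom (eps hW hX hf x) := by
  refine ⟨fun V hV => ?_⟩
  haveI : IsAffine V.toScheme := hV
  let h : Over.mk (V.ι ≫ (𝒳.p.obj x).hom) ⟶ 𝒳.p.obj x := Over.homMk V.ι
  obtain ⟨x', φ, hφ⟩ := hX.exists_lift h
  have e : 𝒳.p.obj x' = Over.mk (V.ι ≫ (𝒳.p.obj x).hom) := IsHomLift.domain_eq 𝒳.p h φ
  have eb : bmap 𝒳 φ = (eqToHom e).left ≫ V.ι := by
    have eg : 𝒳.p.map φ = eqToHom e ≫ h := by simpa using IsHomLift.fac' 𝒳.p h φ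
    exact congrArg CommaMorphism.left eg
  haveI : IsIso (eqToHom e).left := inferInstanceAs (IsIso ((Over.forget S).map (eqToHom e)))
  haveI : IsAffine (sch 𝒳 x') := by
    show IsAffine (𝒳.p.obj x').left
    rw [e]
    exact hV
  haveI := isAffine_up hW hX hf x' inferInstance
  have sq := isPullback_upMap hW hX hf φ
  haveI : IsOpenImmersion (bmap 𝒳 φ) := by rw [eb]; infer_instance
  haveI : IsOpenImmersion (bmap 𝒲 (upMap hW hX hf φ)) := MorphismProperty.of_isPullback sq.flip inferInstance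
  have hr : eps hW hX hf x ⁻¹ᵁ V = (bmap 𝒲 (upMap hW hX hf φ)).opensRange := by
    refine le_antisymm (fun z hz => ?_) ?_
    · obtain ⟨y, hy⟩ : eps hW hX hf x z ∈ Set.range (bmap 𝒳 φ) := by
        rw [eb]
        obtain ⟨y, hy⟩ := (eqToHom e).left.surjective (⟨_, hz⟩ : V.toScheme)
        exact ⟨y, congrArg V.ι hy⟩
      obtain ⟨w, hw, -⟩ := Scheme.Pullback.exists_preimage_pullback (f := eps hW hX hf x) (g := bmap 𝒳 φ) z y hy.symm
      exact ⟨sq.isoPullback.inv w, by rw [← Scheme.Hom.comp_apply, IsPullback.isoPullback_inv_fst]; exact hw⟩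
    · rintro _ ⟨w, rfl⟩
      show eps hW hX hf x (bmap 𝒲 (upMap hW hX hf φ) w) ∈ V
      rw [← Scheme.Hom.comp_apply, sq.w, Scheme.Hom.comp_apply, eb]
      exact ((eqToHom e).left _).2
  rw [hr]
  exact isAffineOpen_opensRange _

/-- The underlying module of the direct image. -/
noncomputable def pushF (F : StMod.Mod 𝒲) {x' x : 𝒳.obj} (φ : x' ⟶ x) {k : sch 𝒳 x' ⟶ sch 𝒳 x}
    (hk : bmap 𝒳 φ = k) :
    (Scheme.Modules.pushforward (eps hW hX hf x)).obj (F.obj (up hW hX hf x).left) ⟶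
      (Scheme.Modules.pushforward k).obj
        ((Scheme.Modules.pushforward (eps hW hX hf x')).obj (F.obj (up hW hX hf x').left)) :=
  AffPush.pushCmp (bmap 𝒲 (upMap hW hX hf φ)) (eps hW hX hf x) (eps hW hX hf x') k
    (by subst hk; exact (isPullback_upMap hW hX hf φ).w) (F.map (upMap hW hX hf φ) rfl)

theorem le_upMap {x' x : 𝒳.obj} (φ : x' ⟶ x) {k : sch 𝒳 x' ⟶ sch 𝒳 x} (hk : bmap 𝒳 φ = k)
    (U : (sch 𝒳 x).Opens) {V : (sch 𝒳 x').Opens} (hV : V ≤ k ⁻¹ᵁ U) :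
    eps hW hX hf x' ⁻¹ᵁ V ≤ bmap 𝒲 (upMap hW hX hf φ) ⁻¹ᵁ (eps hW hX hf x ⁻¹ᵁ U) := by
  subst hk
  rw [← Scheme.Hom.comp_preimage, (isPullback_upMap hW hX hf φ).w, Scheme.Hom.comp_preimage]
  exact Scheme.Hom.preimage_mono _ hV

theorem pushF_app (F : StMod.Mod 𝒲) {x' x : 𝒳.obj} (φ : x' ⟶ x) {k : sch 𝒳 x' ⟶ sch 𝒳 x}
    (hk : bmap 𝒳 φ = k) (U : (sch 𝒳 x).Opens) (s : Γ(F.obj (up hW hX hf x).left, eps hW hX hf x ⁻¹ᵁ U)) :
    (pushF hW hX hf F φ hk).app U s =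
      mapO F (upMap hW hX hf φ) (eps hW hX hf x ⁻¹ᵁ U) (eps hW hX hf x' ⁻¹ᵁ (k ⁻¹ᵁ U))
        (le_upMap hW hX hf φ hk U le_rfl) s :=
  AffPush.pushCmp_app _ _ _ _ _ _ U _ s

/-- The direct image. -/
noncomputable def push (F : StMod.Mod 𝒲) : StMod.Mod 𝒳 where
  obj x := (Scheme.Modules.pushforward (eps hW hX hf x)).obj (F.obj (up hW hX hf x).left)
  map φ _ hk := pushF hW hX hf F φ hk
  map_id x := by
    apply Scheme.Modules.hom_ext
    intro U
    ext s
    refine (pushF_app hW hX hf F (𝟙 x) (StMod.bmap_id x) U s).trans ?_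
    have hle : eps hW hX hf x ⁻¹ᵁ U ≤
        bmap 𝒲 (𝟙 (up hW hX hf x).left) ⁻¹ᵁ (eps hW hX hf x ⁻¹ᵁ U) := by
      rw [StMod.bmap_id]
      exact le_rfl
    refine (mapO_congr F (upMap_id hW hX hf x) _ (eps hW hX hf x ⁻¹ᵁ U) _ hle s).trans ?_
    exact AffPush.mapO_id F (eps hW hX hf x ⁻¹ᵁ U) hle s
  map_comp := fun {x'' x' x} ψ φ h k hh hk => by
    apply Scheme.Modules.hom_ext
    intro U
    ext s
    refine (pushF_app hW hX hf F (ψ ≫ φ) (by rw [StMod.bmap_comp, hh, hk]) U s).trans ?_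
    show _ = (pushF hW hX hf F ψ hh).app (k ⁻¹ᵁ U) ((pushF hW hX hf F φ hk).app U s)
    rw [pushF_app, pushF_app]
    have hle : eps hW hX hf x'' ⁻¹ᵁ ((h ≫ k) ⁻¹ᵁ U) ≤
        bmap 𝒲 (upMap hW hX hf ψ ≫ upMap hW hX hf φ) ⁻¹ᵁ (eps hW hX hf x ⁻¹ᵁ U) := by
      rw [← upMap_comp]
      exact le_upMap hW hX hf _ (by rw [StMod.bmap_comp, hh, hk]) U le_rfl
    rw [mapO_congr F (upMap_comp hW hX hf ψ φ) _ _ _ hle s]
    exact (mapO_comp F _ _ _ _ _ _ _ hle s).symm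

theorem isQCoh_push (F : StMod.Mod 𝒲) (hF : StMod.isQCoh _ F) : StMod.isQCoh 𝒳 (push hW hX hf F) := by
  have hqc : ∀ x, ((push hW hX hf F).obj x).IsQuasicoherent := fun x => by
    haveI := isAffineHom_eps hW hX hf x
    haveI : (F.obj (up hW hX hf x).left).IsQuasicoherent := hF.2 _
    exact Groth.Agent.Lib.QCoh.Pushforward.isQCoh_pushforward _
  refine ⟨fun x' x φ k hk => ?_, hqc⟩
  haveI := hqc x
  refine isIso_adjoint_of_isBC k _ fun V V' hV hV' e => ?_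
  haveI := isAffineHom_eps hW hX hf x
  haveI := isAffineHom_eps hW hX hf x'
  let p := eps hW hX hf x
  let p' := eps hW hX hf x'
  let q := bmap 𝒲 (upMap hW hX hf φ)
  have hW₁ : IsAffineOpen (p ⁻¹ᵁ V) := hV.preimage p
  have hW₁' : IsAffineOpen (p' ⁻¹ᵁ V') := hV'.preimage p'
  have hle : p' ⁻¹ᵁ V' ≤ q ⁻¹ᵁ (p ⁻¹ᵁ V) := le_upMap hW hX hf φ hk V e
  haveI : (F.obj (up hW hX hf x).left).IsQuasicoherent := hF.2 _
  have hbc := isBC_of_isIso_adjoint q (F.map (upMap hW hX hf φ) rfl) (hF.1 (upMap hW hX hf φ) rfl) hW₁ hW₁' hle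
  have hsq : IsPullback q p' p k := by
    subst hk
    exact isPullback_upMap hW hX hf φ
  have hpush : IsPushout (k.appLE V V' e) (p.app V) (p'.app V') (q.appLE (p ⁻¹ᵁ V) (p' ⁻¹ᵁ V') hle) :=
    Groth.Agent.Lib.HilbD.Content.isPushout_appLE hsq ⟨V, hV⟩ ⟨V', hV'⟩ e hle
  let mA : Module Γ(sch 𝒳 x, V) Γ(F.obj (up hW hX hf x).left, p ⁻¹ᵁ V) := Module.compHom _ (p.app V).hom
  let mB : Module Γ(sch 𝒳 x', V') Γ(F.obj (up hW hX hf x').left, p' ⁻¹ᵁ V') := Module.compHom _ (p'.app V').hom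
  refine (AffPush.isBC_of_isPushout hpush (M := Γ(F.obj (up hW hX hf x).left, p ⁻¹ᵁ V))
    (N := Γ(F.obj (up hW hX hf x').left, p' ⁻¹ᵁ V'))
    (fun _ _ => rfl) (fun _ _ => rfl) hbc).congr rfl ?_
  refine AddMonoidHom.ext fun s => ?_
  show _ = (F.obj (up hW hX hf x').left).presheaf.map _ ((pushF hW hX hf F φ hk).app V s)
  rw [pushF_app]
  show _ = (F.obj (up hW hX hf x').left).presheaf.map _ ((F.obj (up hW hX hf x').left).presheaf.map _ _)
  rw [← ConcreteCategory.comp_apply, ← Functor.map_comp]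
  rfl

/-- The direct image of a quasi-coherent module. -/
noncomputable def pushQ (F : StMod.QCoh 𝒲) : StMod.QCoh 𝒳 :=
  ⟨push hW hX hf F.obj, isQCoh_push hW hX hf F.obj F.property⟩

theorem mapTop_push (F : StMod.QCoh 𝒲) {x' x : 𝒳.obj} (φ : x' ⟶ x)
    (s : Γ((pushQ hW hX hf F).obj.obj x, ⊤)) :
    (pushQ hW hX hf F).obj.mapTop φ s = F.obj.mapTop (upMap hW hX hf φ) s := by
  show (pushF hW hX hf F.obj φ rfl).app ⊤ s = _
  refine (pushF_app hW hX hf F.obj φ rfl ⊤ s).trans ?_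
  show (F.obj.obj (up hW hX hf x').left).presheaf.map (𝟙 _) _ = _
  rw [CategoryTheory.Functor.map_id]
  rfl

theorem exists_pushMap {F G : StMod.QCoh 𝒲} (u : F ⟶ G) :
    ∃ v : pushQ hW hX hf F ⟶ pushQ hW hX hf G, ∀ (o : 𝒳.obj) (_ : IsAffine (sch 𝒳 o))
      (s : Γ(F.obj.obj (up hW hX hf o).left, ⊤)),
      (v.hom.app o).app ⊤ (show Γ((pushQ hW hX hf F).obj.obj o, ⊤) from s) =
        (show Γ((pushQ hW hX hf G).obj.obj o, ⊤) from (u.hom.app (up hW hX hf o).left).app ⊤ s) := by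
  obtain ⟨ψ, hψ⟩ := GenFam.exists_hom_of_affine hX (pushQ hW hX hf F) (pushQ hW hX hf G) (fun o _ =>
    { toFun := fun s => (show Γ((pushQ hW hX hf G).obj.obj o, ⊤) from
        (u.hom.app (up hW hX hf o).left).app ⊤ (show Γ(F.obj.obj (up hW hX hf o).left, ⊤) from s))
      map_add' := fun a b => map_add ((u.hom.app (up hW hX hf o).left).app ⊤).hom
        (show Γ(F.obj.obj (up hW hX hf o).left, ⊤) from a) b
      map_smul' := fun r a => Scheme.Modules.Hom.app_smul (u.hom.app (up hW hX hf o).left)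
        ((eps hW hX hf o).app ⊤ r) (show Γ(F.obj.obj (up hW hX hf o).left, ⊤) from a) })
    fun {o' o} _ _ e t => by
      refine (mapTop_push hW hX hf G e _).trans ?_
      refine (StMod.Mod.mapTop_app u.hom (upMap hW hX hf e) _).trans ?_
      exact congrArg ((u.hom.app (up hW hX hf o').left).app ⊤) (mapTop_push hW hX hf F e t).symm
  exact ⟨ObjectProperty.homMk ψ, fun o ho s => hψ o ho s⟩

include hW hX hf in
/-- An affine morphism followed by a cohomologically affine one is cohomologically affine. -/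
theorem isCohAffine_comp {M : AlgSp.Sp S} {π : 𝒳 ⥤ᵇ ofSp M} (h : StMod.IsCohAffine π) :
    StMod.IsCohAffine (BasedFunctor.comp f π) := by
  intro F G u hu E hE t
  obtain ⟨v, hv⟩ := exists_pushMap hW hX hf u
  have hvs : StMod.Mod.IsSurj v.hom := fun o ho z => by
    haveI := ho
    obtain ⟨s, hs⟩ := hu (up hW hX hf o).left (isAffine_up hW hX hf o ho)
      (show Γ(G.obj.obj (up hW hX hf o).left, ⊤) from z)
    exact ⟨s, (hv o ho s).trans hs⟩
  let t' : (pushQ hW hX hf G).obj.RelSect π (etaOf E) := ⟨fun x α =>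
      (show Γ((pushQ hW hX hf G).obj.obj x, ⊤) from t.1 (up hW hX hf x).left (π.map (up hW hX hf x).hom ≫ α)),
    fun x' x φ α => by
      refine (mapTop_push hW hX hf G φ _).trans ((t.2 (upMap hW hX hf φ) _).trans ?_)
      refine congrArg (t.1 (up hW hX hf x').left) ?_
      show π.map (f.map (upMap hW hX hf φ)) ≫ π.map (up hW hX hf x).hom ≫ α =
        π.map (up hW hX hf x').hom ≫ π.map φ ≫ α
      rw [← Category.assoc, ← π.toFunctor.map_comp, upMap_w, π.toFunctor.map_comp, Category.assoc]⟩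
  obtain ⟨s', hs'⟩ := h v hvs E hE t'
  let unit : ∀ w : 𝒲.obj, w ⟶ (up hW hX hf (f.obj w)).left := fun w =>
    (toUp hW hX hf (CostructuredArrow.mk (𝟙 (f.obj w)))).left
  have hunit : ∀ w, f.map (unit w) ≫ (up hW hX hf (f.obj w)).hom = 𝟙 _ := fun w =>
    CostructuredArrow.w (toUp hW hX hf (CostructuredArrow.mk (𝟙 (f.obj w))))
  let s : F.obj.RelSect (BasedFunctor.comp f π) (etaOf E) := ⟨fun w β =>
      F.obj.mapTop (unit w) (show Γ(F.obj.obj (up hW hX hf (f.obj w)).left, ⊤) from s'.1 (f.obj w) β),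
    fun w' w k β => by
      have e : k ≫ unit w = unit w' ≫ upMap hW hX hf (f.map k) := left_up hW hX hf _ _ (by
        rw [f.toFunctor.map_comp, f.toFunctor.map_comp, Category.assoc, Category.assoc, upMap_w, hunit,
          reassoc_of% (hunit w')]
        simp)
      refine (StMod.Mod.mapTop_comp F.obj k (unit w) _).symm.trans ?_
      rw [e, StMod.Mod.mapTop_comp]
      exact congrArg (F.obj.mapTop (unit w')) ((mapTop_push hW hX hf F (f.map k) _).symm.trans (s'.2 (f.map k) β))⟩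
  refine ⟨s, StMod.Mod.RelSect.ext _ _ _ fun w β => ?_⟩
  show (u.hom.app w).app ⊤ (s.1 w β) = t.1 w β
  refine CohDesc.sect_ext hW G fun w' k hw' => ?_
  rw [StMod.Mod.mapTop_app, s.2 k β, t.2 k β]
  show (u.hom.app w').app ⊤ (F.obj.mapTop (unit w') _) = _
  rw [← StMod.Mod.mapTop_app]
  have ho : IsAffine (sch 𝒳 (f.obj w')) := by
    rw [StMod.sch_obj_eq f w']
    exact hw'
  have hval := congrArg (fun r : (pushQ hW hX hf G).obj.RelSect π (etaOf E) =>
    r.1 (f.obj w') ((BasedFunctor.comp f π).map k ≫ β)) hs'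
  refine (congrArg (G.obj.mapTop (unit w')) ((hv (f.obj w') ho _).symm.trans hval)).trans ?_
  refine (t.2 (unit w') _).trans (congrArg (t.1 w') ?_)
  show π.map (f.map (unit w')) ≫ π.map (up hW hX hf (f.obj w')).hom ≫ _ = _
  rw [← Category.assoc, ← π.toFunctor.map_comp, hunit, π.toFunctor.map_id, Category.id_comp]

end Groth.Agent.H14.UB.AffComp
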