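import Groth.Agent.H14.UB.AffComp
import Groth.Agent.Lib.QuotSt.Invariant
import Groth.Agent.H14.Chart.QC

/-!
Quasi-compactness of affine morphisms, and morphisms to the base scheme.
-/

set_option autoImplicit false
set_option backward.isDefEq.respectTransparency false
set_option backward.isDefEq.respectTransparency.types false

universe u

open CategoryTheory CategoryTheory.Limits AlgebraicGeometry Opposite
open Groth.Agent.Lib Groth.Agent.Lib.AlgStack
open AlgSt (IsAlgStack ofSp)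

namespace Groth.Agent.H14.UB.AffComp

variable {S : Scheme.{u}}

theorem isQuasiCompactMor_of_affine {𝒳 𝒴 : AlgSt.Cat S} (h𝒳 : IsAlgStack Scheme.fppfPrecoverage 𝒳)
    (h𝒴 : IsAlgStack Scheme.fppfPrecoverage 𝒴) {f : 𝒳 ⥤ᵇ 𝒴}
    (hf : AlgSt.RepByAlgSpWith AlgSp.IsAffineMor f) : AlgSt.IsQuasiCompactMor Scheme.fppfPrecoverage f :=
  (H14.Chart.QC.repByAlgSpWith_qc_iff h𝒳 h𝒴 (Rep.repByAlgSp1_of_repByAlgSpWith hf)).1
    (Rep.repByAlgSpWith_mono hf fun _ _ _ _ _ h =>
      AlgSpMor.QC.isQuasiCompactMor_of_repWith (AlgSpace.repWith_mono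
        (AlgSpMor.AffineDescent.repWith_of_isAffineMor h)
        fun _ _ g (_ : IsAffineHom g) => (inferInstance : QuasiCompact g)))

theorem toBase_unique {𝒳 : AlgSt.Cat S} (σ σ' : 𝒳 ⥤ᵇ AlgSt.ofSch (Over.mk (𝟙 S))) : σ = σ' :=
  Lib.QuotSt.functor_ext fun o => by
    have h : ∀ a b : (AlgSt.ofSch (Over.mk (𝟙 S))).obj, a.base = b.base → a = b := by
      rintro ⟨T, ⟨g⟩⟩ ⟨T', ⟨g'⟩⟩ e
      subst e
      obtain rfl : g = g' := Over.mkIdTerminal.hom_ext g g'
      rfl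
    exact h _ _ ((σ.w_obj o).trans (σ'.w_obj o).symm)

end Groth.Agent.H14.UB.AffComp
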