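import Groth.Agent.H14.UB.Fib
import Groth.Agent.H14.CohBC.BaseChange
import Groth.Agent.H14.CohDesc.UnitLocal

/-!
The unit is bijective over every affine object of the target of a good moduli space.
-/

set_option autoImplicit false
set_option backward.isDefEq.respectTransparency false
set_option backward.isDefEq.respectTransparency.types false
set_option linter.style.haveILetI false

universe u

open CategoryTheory CategoryTheory.Limits AlgebraicGeometry Opposite TensorProduct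
open StMod (sch bmap fibCat fibFst etaOf baseOver)
open Groth.Agent.Lib Groth.Agent.Lib.AlgStack
open Groth.Agent.H14.ModDesc
open Groth.Agent.H14.AffPush
open FibCat (IsFibGrpd fp fpFst)
open AlgSt (IsAlgStack ofSp ofSpMap)
open Groth.Agent.H14.GenFam
open Groth.Agent.H14.CohDesc (relSect_mapTop relSect_ext_of_chart)
open Groth.Agent.H14.CohBC (beta beta_spec Lifts CompactPullbacks lifts_affine exists_etale_covers imgObj liftFun liftArr liftObj
  overObj cmp)

namespace Groth.Agent.H14.UB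

variable {S : Scheme.{u}}

theorem appTop_apply {X Y Z : Scheme.{u}} (a : X ⟶ Y) (b : Y ⟶ Z) (r : Γ(Z, ⊤)) :
    (a ≫ b).appTop r = a.appTop (b.appTop r) :=
  congrArg (fun k => k r) (Scheme.Hom.comp_appTop a b)

section Cover

variable {𝒳 𝒴 : AlgSt.Cat S} {π : 𝒳 ⥤ᵇ 𝒴} {η : 𝒴.obj}

theorem baseOver_comp_left {ω : 𝒴.obj} (c : ω ⟶ η) {ξ : 𝒳.obj} (α : π.obj ξ ⟶ ω) :
    (baseOver π ξ (α ≫ c)).left = (baseOver π ξ α).left ≫ bmap 𝒴 c :=
  congrArg CommaMorphism.left (StMod.baseOver_comp π ξ α c)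

set_option maxHeartbeats 1600000 in
/-- Bijectivity of the unit is local for flat covers by affine objects. -/
theorem unitBij_of_cover (hX : IsFibGrpd 𝒳.p) (hY : IsFibGrpd 𝒴.p) [IsAffine (sch 𝒴 η)] (C : Chart (fibCat π η))
    {J : Type u} (ω : J → 𝒴.obj) (c : ∀ j, ω j ⟶ η) [∀ j, IsAffine (sch 𝒴 (ω j))]
    (hflat : ∀ j, Flat (bmap 𝒴 (c j))) (hsurj : ∀ v, ∃ j, v ∈ Set.range (bmap 𝒴 (c j)))
    (h : ∀ j, UnitBij π (ω j)) : UnitBij π η := by
  classical
  let A := Γ(sch 𝒴 η, ⊤)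
  let B : J → Type u := fun j => Γ(sch 𝒴 (ω j), ⊤)
  letI : ∀ j, Algebra A (B j) := fun j => (bmap 𝒴 (c j)).appTop.hom.toAlgebra
  haveI : ∀ j, Flat (bmap 𝒴 (c j)) := hflat
  haveI : ∀ j, Module.Flat A (B j) := fun j => flat_appTop (bmap 𝒴 (c j))
  have hB : Groth.Agent.H14.GerbeDesc.JointlySurj A B :=
    jointlySurj_appTop (fun j => bmap 𝒴 (c j)) (fun j => rfl) hsurj
  refine ⟨(injective_iff_map_eq_zero _).2 fun (r : A) hr => ?_, fun t => ?_⟩
  · refine eq_zero_of_one_tmul B hB (M := A) r fun j => ?_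
    have e : (bmap 𝒴 (c j)).appTop r = 0 := (h j).1 ((StMod.Mod.RelSect.ext _ _ _ fun ξ α => by
      show (baseOver π ξ α).left.appTop ((bmap 𝒴 (c j)).appTop r) = 0
      refine (appTop_apply _ _ r).symm.trans ?_
      refine (congrArg (fun k : sch 𝒳 ξ ⟶ sch 𝒴 η => k.appTop r) (baseOver_comp_left (c j) α)).symm.trans ?_
      exact congrArg (fun k : (StMod.O 𝒳).RelSect π η => k.1 ξ (α ≫ c j)) hr).trans (map_zero _).symm)
    have e2 : algebraMap A (B j) r = 0 := e
    calc (1 : B j) ⊗ₜ[A] (r : A) = (1 : B j) ⊗ₜ[A] (r • (1 : A)) := by rw [smul_eq_mul, mul_one]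
      _ = (r • (1 : B j)) ⊗ₜ[A] (1 : A) := (TensorProduct.smul_tmul _ _ _).symm
      _ = 0 := by rw [Algebra.smul_def, e2, zero_mul, zero_tmul]
  have hfib := isFibGrpd_fibCat hX π η
  haveI : IsAffine (𝒴.p.obj η).left := ‹IsAffine (sch 𝒴 η)›
  let st : A →+* Γ(sch (fibCat π η) C.x, ⊤) := (str (baseFun π η) C.x).left.appTop.hom
  let mA : Module A Γ(sch (fibCat π η) C.x, ⊤) := Module.compHom _ st
  let L : Submodule A Γ(sch (fibCat π η) C.x, ⊤) := Submodule.span A {1}
  have hL : (show Γ(sch (fibCat π η) C.x, ⊤) from t.1 C.x.left C.x.hom) ∈ L := by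
    rw [← Submodule.Quotient.mk_eq_zero]
    refine eq_zero_of_one_tmul B hB _ fun j => ?_
    let tj : (StMod.O 𝒳).RelSect π (ω j) := ⟨fun ξ α => t.1 ξ (α ≫ c j), fun ξ' ξ φ α => by
      refine (t.2 φ (α ≫ c j)).trans ?_
      exact congrArg (t.1 ξ') (Category.assoc _ _ _).symm⟩
    obtain ⟨r, hr⟩ := (h j).2 tj
    haveI : IsAffine (𝒴.p.obj (ω j)).left := ‹∀ j, IsAffine (sch 𝒴 (ω j))› j
    haveI : Flat (𝒴.p.map (c j)).left := hflat j
    haveI : IsAffineHom (𝒴.p.map (c j)).left := inferInstance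
    let ux := up (π := baseFun π η) (g := 𝒴.p.map (c j)) hfib C.x
    have : IsAffine (sch (fibCat π η) ux.obj.left) := isAffine_up (π := baseFun π η) (g := 𝒴.p.map (c j)) hfib C.x
    let stB : B j →+* Γ(sch (fibCat π η) ux.obj.left, ⊤) := ux.obj.hom.left.appTop.hom
    let mB : Module (B j) Γ(sch (fibCat π η) ux.obj.left, ⊤) := Module.compHom _ stB
    let ε := eps (π := baseFun π η) (g := 𝒴.p.map (c j)) hfib C.x
    have hbc : @IsBC A (B j) _ _ _ _ _ mA _ mB (algebraMap A (B j))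
        (mapHom (StMod.OQ (fibCat π η)).obj ε) :=
      isBC_of_isPushout (Lib.ZeroCyc99.FlatLocalAffine.isPushout_appTop
        (isPullback_eps (π := baseFun π η) (g := 𝒴.p.map (c j)) hfib C.x)).flip
        (mA := mA) (mB := mB) (fun _ _ => rfl) (fun _ _ => rfl) (isBC_mapHom (StMod.OQ (fibCat π η)) ε)
    obtain ⟨Φ, hΦ⟩ := bc_extend (M := Γ(sch (fibCat π η) C.x, ⊤))
      (N := Γ(sch (fibCat π η) ux.obj.left, ⊤)) (N' := B j ⊗[A] (Γ(sch (fibCat π η) C.x, ⊤) ⧸ L))
      hbc ((TensorProduct.mk A (B j) _ 1).comp L.mkQ).toAddMonoidHom (fun a z => by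
        show (1 : B j) ⊗ₜ[A] L.mkQ (a • z) = algebraMap A (B j) a • ((1 : B j) ⊗ₜ[A] L.mkQ z)
        rw [map_smul, tmul_smul, algebraMap_smul])
    have h1 : Φ 1 = 0 := by
      refine (congrArg Φ (map_one (bmap (fibCat π η) ε).appTop.hom).symm).trans ((hΦ 1).trans ?_)
      show (1 : B j) ⊗ₜ[A] L.mkQ _ = 0
      rw [Submodule.mkQ_apply, (Submodule.Quotient.mk_eq_zero L).2 (Submodule.subset_span rfl), tmul_zero]
    have hr' : t.1 ux.obj.left.left ux.obj.left.hom = ux.obj.hom.left.appTop r := by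
      refine (congrArg (t.1 ux.obj.left.left) (beta_spec π hY (c j) ux).1.symm).trans ?_
      refine (congrArg (fun k : (StMod.O 𝒳).RelSect π (ω j) => k.1 ux.obj.left.left (beta π hY (c j) ux)) hr).symm.trans ?_
      exact congrArg (fun k : (fibCat π η).p.obj ux.obj.left ⟶ 𝒴.p.obj (ω j) => k.left.appTop r)
        (beta_spec π hY (c j) ux).2
    have e : (bmap (fibCat π η) ε).appTop (show Γ(sch (fibCat π η) C.x, ⊤) from t.1 C.x.left C.x.hom) =
        (show B j from r) • (1 : Γ(sch (fibCat π η) ux.obj.left, ⊤)) :=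
      ((relSect_mapTop t ε).trans hr').trans (mul_one (M := Γ(sch (fibCat π η) ux.obj.left, ⊤)) _).symm
    refine (hΦ _).symm.trans ?_
    refine (congrArg Φ e).trans ?_
    rw [map_smul, h1, smul_zero]
  obtain ⟨r, hr⟩ := Submodule.mem_span_singleton.1 hL
  refine ⟨r, relSect_ext_of_chart hX (G := StMod.OQ 𝒳) C _ t ?_⟩
  refine Eq.trans ?_ hr
  refine Eq.trans ?_ (mul_one (M := Γ(sch (fibCat π η) C.x, ⊤)) _).symm
  exact congrArg (fun k : 𝒳.p.obj C.x.left ⟶ 𝒴.p.obj η => k.left.appTop r) (str_baseFun π η C.x).symm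

end Cover

variable {𝒳 : AlgSt.Cat S}

/-- The unit of a good moduli space is bijective over every affine object of the target. -/
theorem unitBij_affine {M : AlgSp.Space S} (π : 𝒳 ⥤ᵇ ofSp M.obj) (h𝒳 : IsAlgStack Scheme.fppfPrecoverage 𝒳)
    (hM : CompactPullbacks M.obj) (hqc : AlgSt.IsQuasiCompactMor Scheme.fppfPrecoverage π)
    (hqs : AlgSt.IsQuasiSeparatedMor π) (h : StMod.IsGoodModuli π) (η : (ofSp M.obj).obj)
    (hη : IsAffine (sch (ofSp M.obj) η)) : UnitBij π η := by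
  have hMs := IsAlg.isAlgStack_ofSp M
  obtain ⟨C⟩ := exists_chart_at π h𝒳 hMs hqc hqs η hη
  obtain ⟨J, ω, c, E, d, hω, hE, hfl, hsurj⟩ := exists_etale_covers M η
  haveI := hη
  haveI := hω
  refine unitBij_of_cover h𝒳.isStack.1 hMs.isStack.1 C ω c hfl hsurj fun j => ?_
  haveI : IsAffine (sch (ofSp M.obj) (etaOf (E j))) := hE j
  obtain ⟨C₂⟩ := exists_chart2_at π h𝒳 hMs hqc hqs (etaOf (E j)) (hE j)
  exact unitBij_of_map h𝒳.isStack.1 hMs.isStack.1 (d j) (lifts_affine π h𝒳 hM hqc hqs h.1 _ (hE j)) (h.2 (E j))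
    (ofChart2 C₂)

section BaseChange

variable {M M' : AlgSp.Sp S} (g : M' ⟶ M) (π : 𝒳 ⥤ᵇ ofSp M) (η' : (ofSp M').obj)

theorem cmp_base {P : (fp (ofSpMap g) π).obj} (α : P.obj.fst ⟶ η') :
    (CohBC.cmpBase g π P α) ≫ liftArr g π η' (overObj g π P α) = α := by
  refine Stk.EltObj.hom_ext ?_
  show (P.obj.iso.hom.hom ≫ eqToHom (π.w_obj P.obj.snd)) ≫ eqToHom (π.w_obj P.obj.snd).symm ≫
    (P.obj.iso.inv.hom ≫ α.hom) = α.hom
  have h' : P.obj.iso.hom.hom ≫ P.obj.iso.inv.hom = 𝟙 _ := congrArg Stk.EltObj.Hom.hom P.obj.iso.hom_inv_id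
  simp [reassoc_of% h']

/-- Bijectivity of the unit over the image object gives it over the object. -/
theorem unitBij_fpFst (h : UnitBij π (imgObj g η')) : UnitBij (fpFst (ofSpMap g) π) η' := by
  have hlift : ∀ (o : (fibCat π (imgObj g η')).obj) (r : Γ((η'.base).left, ⊤)),
      (baseOver (fpFst (ofSpMap g) π) (liftObj g π η' o) (liftArr g π η' o)).left.appTop r =
        (baseOver π o.left o.hom).left.appTop r := fun o r => by
    refine congrArg (fun k : 𝒳.p.obj o.left ⟶ η'.base => k.left.appTop r) ?_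
    show eqToHom _ ≫ (liftArr g π η' o).hom = baseOver π o.left o.hom
    exact Category.id_comp _
  refine ⟨fun r r' e => h.1 (StMod.Mod.RelSect.ext _ _ _ fun ξ α => ?_), fun t => ?_⟩
  · let o : (fibCat π (imgObj g η')).obj := CostructuredArrow.mk α
    show (baseOver π o.left o.hom).left.appTop r = (baseOver π o.left o.hom).left.appTop r'
    rw [← hlift, ← hlift]
    exact congrArg (fun k : (StMod.O (fp (ofSpMap g) π)).RelSect (fpFst (ofSpMap g) π) η' =>
      k.1 (liftObj g π η' o) (liftArr g π η' o)) e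
  · let T : (StMod.O 𝒳).RelSect π (imgObj g η') :=
      ⟨fun ξ α => t.1 (liftObj g π η' (CostructuredArrow.mk α)) (liftArr g π η' (CostructuredArrow.mk α)),
        fun ξ' ξ φ α => (t.2 (CohBC.liftMap g π η' (CostructuredArrow.mk α)
          (CostructuredArrow.homMk φ rfl : CostructuredArrow.mk (π.map φ ≫ α) ⟶ CostructuredArrow.mk α)) _).trans
          (congrArg (t.1 (liftObj g π η' (CostructuredArrow.mk (π.map φ ≫ α))))
            (Stk.EltObj.hom_ext (StMod.map_comp_baseOver π φ α)))⟩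
    obtain ⟨r, hr⟩ := h.2 T
    refine ⟨r, StMod.Mod.RelSect.ext _ _ _ fun P α => ?_⟩
    let o := overObj g π P α
    have e1 : (fpFst (ofSpMap g) π).map (cmp g π P α) ≫ liftArr g π η' o = α := cmp_base g π η' α
    have e2 := (StMod.unitSect (fpFst (ofSpMap g) π) η' r).2 (cmp g π P α) (liftArr g π η' o)
    have e3 := t.2 (cmp g π P α) (liftArr g π η' o)
    rw [e1] at e2 e3
    refine e2.symm.trans (Eq.trans (congrArg (fun z => (StMod.O (fp (ofSpMap g) π)).mapTop (cmp g π P α) z) ?_) e3)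
    refine (hlift o r).trans ?_
    exact congrArg (fun k : (StMod.O 𝒳).RelSect π (imgObj g η') => k.1 o.left o.hom) hr

end BaseChange

/-- Good moduli spaces are stable under base change between algebraic spaces. -/
theorem isGoodModuli_bc {M M' : AlgSp.Space S} (g : M'.obj ⟶ M.obj) (π : 𝒳 ⥤ᵇ ofSp M.obj)
    (h𝒳 : IsAlgStack Scheme.fppfPrecoverage 𝒳) (hM : CompactPullbacks M.obj)
    (hqc : AlgSt.IsQuasiCompactMor Scheme.fppfPrecoverage π) (hqs : AlgSt.IsQuasiSeparatedMor π)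
    (hf : IsFibGrpd (fp (ofSpMap g) π).p) (h : StMod.IsGoodModuli π) :
    StMod.IsGoodModuli (fpFst (ofSpMap g) π) :=
  ⟨CohBC.isCohAffine_bc' g π h𝒳 hM hqc hqs hf h.1, fun E =>
    CohDesc.unitBijective_of_affine _ E hf fun E' hE' =>
      unitBij_fpFst g π (etaOf E') (unitBij_affine π h𝒳 hM hqc hqs h _ hE')⟩

end Groth.Agent.H14.UB
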