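import Groth.Agent.H14.CohBC.Image
import Groth.Agent.H14.CohBC.Member

/-!
Compatible families of a functor commuting with flat base change, and their lifting along surjections.
-/

set_option autoImplicit false
set_option backward.isDefEq.respectTransparency false
set_option backward.isDefEq.respectTransparency.types false
set_option linter.style.haveILetI false

universe u

open CategoryTheory CategoryTheory.Limits AlgebraicGeometry Opposite
open StMod (sch bmap)
open Groth.Agent.Lib.AlgStack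
open Groth.Agent.H14.ModDesc
open Groth.Agent.H14.GenFam (FlatFun bc_induction exists_hom_of_local oneO oneO_mapTop smul_oneO)
open Groth.Agent.H14.MultiExt (MChart FlatHom extQ phiA phiA_natural bijective_phiA)

namespace Groth.Agent.H14.UB

variable {S : Scheme.{u}} {𝒵 : AlgSt.Cat S}

/-- A compatible family of values on the affine objects reached by the chart. -/
structure Fam (C : MChart 𝒵) (Φ : FlatFun 𝒵) where
  /-- the values -/
  val : ∀ (o : 𝒵.obj) [IsAffine (sch 𝒵 o)], C.Has o → Φ.obj o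
  compat : ∀ {o' o : 𝒵.obj} [IsAffine (sch 𝒵 o')] [IsAffine (sch 𝒵 o)] (e : o' ⟶ o) (h' : C.Has o') (h : C.Has o),
    Φ.res e (val o h) = val o' h'

variable {C : MChart 𝒵}

/-- A family comes from a global section of the extension. -/
theorem exists_global (hfib : FibCat.IsFibGrpd 𝒵.p) {Φ : FlatFun 𝒵} (T : Fam C Φ) :
    ∃ t : ∀ o : 𝒵.obj, Γ((extQ (C := C) Φ hfib).obj.obj o, ⊤),
      (∀ {o' o : 𝒵.obj} (k : o' ⟶ o), (extQ (C := C) Φ hfib).obj.mapTop k (t o) = t o') ∧
      ∀ (o : 𝒵.obj) [IsAffine (sch 𝒵 o)] {i : C.I} (a : o ⟶ C.x i),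
        phiA Φ hfib o a (t o) = T.val o (MChart.Has.of_map C a) := by
  classical
  let P := extQ (C := C) Φ hfib
  have hflat : ∀ i, Flat (bmap 𝒵 (𝟙 (C.x i))) := fun i => by
    rw [show bmap 𝒵 (𝟙 (C.x i)) = 𝟙 _ from congrArg CommaMorphism.left (𝒵.p.map_id (C.x i))]
    infer_instance
  choose z hz using fun i => (bijective_phiA (Φ := Φ) hfib (𝟙 (C.x i)) (hflat i)).surjective
    (T.val (C.x i) (MChart.Has.of_map C (𝟙 (C.x i))))
  have hzo : ∀ (o : 𝒵.obj) [IsAffine (sch 𝒵 o)] {i : C.I} (a a' : o ⟶ C.x i),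
      phiA Φ hfib o a' (P.obj.mapTop a (z i)) = T.val o (MChart.Has.of_map C a) := fun o _ i a a' => by
    rw [phiA_natural Φ hfib a a' (𝟙 (C.x i)), hz, T.compat]
  have hzo' : ∀ (o : 𝒵.obj) [IsAffine (sch 𝒵 o)] {i j : C.I} (a : o ⟶ C.x i) (b : o ⟶ C.x j),
      phiA Φ hfib o b (P.obj.mapTop a (z i)) = T.val o (MChart.Has.of_map C a) := fun o _ i j a b => by
    rw [phiA_natural Φ hfib a b (𝟙 (C.x i)), hz, T.compat]
  have hwd : ∀ (o : 𝒵.obj) (_ : IsAffine (sch 𝒵 o)) {i j : C.I} (a : o ⟶ C.x i) (b : o ⟶ C.x j),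
      P.obj.mapTop a (z i) = P.obj.mapTop b (z j) := fun o ho i j a b => by
    obtain ⟨J, _, D, hD⟩ := C.overlap o ho a b
    refine D.eq_of_mapTop P fun l => ?_
    obtain ⟨r, c, hp, hq⟩ := hD l
    rw [← StMod.Mod.mapTop_comp, ← StMod.Mod.mapTop_comp, ← hp, ← hq, StMod.Mod.mapTop_comp, StMod.Mod.mapTop_comp]
    refine congrArg (P.obj.mapTop c) ((bijective_phiA (Φ := Φ) hfib (C.p r) (C.flat r)).injective ?_)
    rw [hzo' (C.w r) (C.p r) (C.p r), hzo' (C.w r) (C.q r) (C.p r)]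
  obtain ⟨ψ, hψ⟩ := exists_hom_of_local hfib (StMod.OQ 𝒵) P C.Has (fun e p => p.mono e) C.cover
    (fun o ho hp =>
      { toFun := fun s => (show Γ(sch 𝒵 o, ⊤) from s) • P.obj.mapTop hp.choose_spec.some (z hp.choose)
        map_add' := fun a b => add_smul (show Γ(sch 𝒵 o, ⊤) from a) b (P.obj.mapTop hp.choose_spec.some (z hp.choose))
        map_smul' := fun r a => mul_smul (show Γ(sch 𝒵 o, ⊤) from r) a (P.obj.mapTop hp.choose_spec.some (z hp.choose)) })
    (fun {o' o} h' h p' p e s => by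
      show P.obj.mapTop e ((show Γ(sch 𝒵 o, ⊤) from s) • P.obj.mapTop p.choose_spec.some (z p.choose)) = _
      rw [StMod.Mod.mapTop_smul, ← StMod.Mod.mapTop_comp, hwd o' h' (e ≫ p.choose_spec.some) p'.choose_spec.some]
      rfl)
  refine ⟨fun o => (ψ.app o).app ⊤ (oneO 𝒵 o), fun {o' o} k => ?_, fun o ho i a => ?_⟩
  · rw [StMod.Mod.mapTop_app, oneO_mapTop]
  · have hp : C.Has o := MChart.Has.of_map C a
    refine (congrArg (phiA Φ hfib o a) ((hψ o ho hp _).trans (one_smul _ _))).trans ?_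
    exact hzo' o hp.choose_spec.some a

/-- Families lift along surjections when compatible families of quasi-coherent modules do. -/
theorem exists_lift (hfib : FibCat.IsFibGrpd 𝒵.p) (hL : CohBC.Lifts 𝒵) {Φ Φ' : FlatFun 𝒵} (η : FlatHom Φ Φ')
    (hη : ∀ i, Function.Surjective (η.app (C.x i))) (T : Fam C Φ') :
    ∃ s : Fam C Φ, ∀ (o : 𝒵.obj) [IsAffine (sch 𝒵 o)] (h : C.Has o), η.app o (s.val o h) = T.val o h := by
  obtain ⟨v, hv, hvs⟩ := MultiExt.exists_extMap (C := C) η hfib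
  obtain ⟨t, ht, htv⟩ := exists_global hfib T
  obtain ⟨s, hs, hst⟩ := hL v (hvs hη) t ht
  refine ⟨⟨fun o _ h => phiA Φ hfib o h.choose_spec.some (s o), fun {o' o} _ _ e h' h => ?_⟩, fun o _ h => ?_⟩
  · rw [← phiA_natural Φ hfib e h'.choose_spec.some h.choose_spec.some, hs e]
  · show η.app o (phiA Φ hfib o h.choose_spec.some (s o)) = _
    rw [← hv o h.choose_spec.some, hst o, htv o h.choose_spec.some]

end Groth.Agent.H14.UB
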