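import Groth.Agent.H14.UB.Proj
import Groth.Agent.H14.CohDesc.Core
import Groth.Agent.H14.GenFam.Transport

/-!
Compatible functions over an affine object mapping to one whose functions are the compatible functions.
-/

set_option autoImplicit false
set_option backward.isDefEq.respectTransparency false
set_option backward.isDefEq.respectTransparency.types false
set_option linter.style.haveILetI false

universe u

open CategoryTheory CategoryTheory.Limits AlgebraicGeometry Opposite TensorProduct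
open StMod (sch bmap fibCat fibFst baseOver)
open Groth.Agent.Lib Groth.Agent.Lib.AlgStack
open Groth.Agent.H14.ModDesc
open Groth.Agent.H14.AffPush
open FibCat (IsFibGrpd)
open Groth.Agent.H14.GenFam (FlatFun Ext Chart2 baseFun str_baseFun resFun beta_ext isFibGrpd_fibCat exists_hom_of_local
  oneO oneO_mapTop isBC_mk bc_induction isAffine_up)
open Groth.Agent.H14.CohBC (Lifts beta beta_spec beta_natural)
open Groth.Agent.H14.MultiExt (MChart)
open Groth.Agent.H14.CohDesc (relSect_mapTop sect_ext mapTop_fib)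

namespace Groth.Agent.H14.UB

variable {S : Scheme.{u}}

/-- A chart as a family of charts with one member. -/
noncomputable def ofChart2 {𝒵 : AlgSt.Cat S} (C : Chart2 𝒵) : MChart 𝒵 where
  I := PUnit.{u + 1}
  x _ := C.x
  affx _ := C.affx
  R _ _ := PUnit.{u + 1}
  w {_ _} _ := C.w
  affw {_ _} _ := C.affw
  p {_ _} _ := C.p
  q {_ _} _ := C.q
  flat {_ _} _ := C.flat
  cover o ho := by
    obtain ⟨n, D, hD⟩ := C.cover o ho
    exact ⟨n, D, fun l => ⟨⟨⟩, hD l⟩⟩
  overlap o ho {_ _} a b := by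
    obtain ⟨J, hJ, D, hD⟩ := C.overlap o ho a b
    exact ⟨J, hJ, D, fun l => ⟨⟨⟩, hD l⟩⟩
  overlap2 o ho {_ _} {_ _} a b h₁ h₂ := by
    obtain ⟨J, D, hD⟩ := C.overlap2 o ho a b h₁ h₂
    exact ⟨J, D, fun l => ⟨C.w2, C.affw2, C.k, C.k', C.hp, C.hq, C.flat2, hD l⟩⟩

instance {𝒵 : AlgSt.Cat S} (C : Chart2 𝒵) : Finite (ofChart2 C).I := inferInstanceAs (Finite PUnit)

variable {𝒳 𝒴 : AlgSt.Cat S} (π : 𝒳 ⥤ᵇ 𝒴)

/-- The functions of the object as functions on the objects over it. -/
noncomputable def astr (η : 𝒴.obj) : AStr (fibCat π η) Γ(sch 𝒴 η, ⊤) where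
  hom o := (baseOver π o.left o.hom).left.appTop.hom
  natural {o' o} e := by
    refine RingHom.ext fun r => ?_
    show (bmap 𝒳 e.left).appTop ((baseOver π o.left o.hom).left.appTop r) = (baseOver π o'.left o'.hom).left.appTop r
    rw [← CostructuredArrow.w e, ← StMod.bmap_comp_baseOver_left, Scheme.Hom.comp_appTop]
    rfl

/-- The unit is bijective over the object. -/
def UnitBij (η : 𝒴.obj) : Prop := Function.Bijective (StMod.unitSect π η)

variable {π} {η : 𝒴.obj}

theorem isUnit'_astr (hX : IsFibGrpd 𝒳.p) (h : UnitBij π η) (C : MChart (fibCat π η)) :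
    (astr π η).IsUnit' C := by
  classical
  have hfib := isFibGrpd_fibCat hX π η
  refine ⟨fun a ha => ?_, fun s hs => ?_⟩
  · refine h.1 (Eq.trans ?_ (map_zero (StMod.unitSect π η)).symm)
    refine StMod.Mod.RelSect.ext _ _ _ fun ξ α => ?_
    refine sect_ext hfib (StMod.OQ (fibCat π η)) (x := CostructuredArrow.mk α) fun o k ho => ?_
    show (bmap 𝒳 k.left).appTop ((baseOver π ξ α).left.appTop a) = (bmap 𝒳 k.left).appTop 0
    rw [show (bmap 𝒳 k.left).appTop ((baseOver π ξ α).left.appTop a) = (astr π η).hom o a from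
      DFunLike.congr_fun ((astr π η).natural k) a]
    obtain ⟨n, D, hD⟩ := C.cover o ho
    haveI : IsAffine (sch (fibCat π η) o) := ho
    rw [show (bmap 𝒳 k.left).appTop (0 : Γ(sch 𝒳 ξ, ⊤)) = 0 from map_zero (bmap 𝒳 k.left).appTop.hom]
    refine D.eq_of_mapTop (StMod.OQ (fibCat π η)) fun j => ?_
    obtain ⟨i, ⟨b⟩⟩ := hD j
    show (bmap (fibCat π η) (D.e j)).appTop ((astr π η).hom o a) = (bmap (fibCat π η) (D.e j)).appTop 0
    rw [show (bmap (fibCat π η) (D.e j)).appTop ((astr π η).hom o a) = (astr π η).hom (D.E j) a from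
      DFunLike.congr_fun ((astr π η).natural (D.e j)) a,
      ← show (bmap (fibCat π η) b).appTop ((astr π η).hom (C.x i) a) = (astr π η).hom (D.E j) a from
      DFunLike.congr_fun ((astr π η).natural b) a, ha i]
    exact (map_zero (bmap (fibCat π η) b).appTop.hom).trans (map_zero (bmap (fibCat π η) (D.e j)).appTop.hom).symm
  · obtain ⟨ψ, hψ⟩ := exists_hom_of_local hfib (StMod.OQ (fibCat π η)) (StMod.OQ (fibCat π η)) C.Has
      (fun e p => p.mono e) C.cover
      (fun o ho hp =>
        { toFun := fun r => (show Γ(sch (fibCat π η) o, ⊤) from r) •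
            (show Γ((StMod.OQ (fibCat π η)).obj.obj o, ⊤) from s o ho hp)
          map_add' := fun a b => add_smul (show Γ(sch (fibCat π η) o, ⊤) from a) b _
          map_smul' := fun r a => mul_smul (show Γ(sch (fibCat π η) o, ⊤) from r) a _ })
      (fun {o' o} h' h p' p e r => by
        show (StMod.OQ (fibCat π η)).obj.mapTop e ((show Γ(sch (fibCat π η) o, ⊤) from r) •
          (show Γ((StMod.OQ (fibCat π η)).obj.obj o, ⊤) from s o h p)) = _
        rw [StMod.Mod.mapTop_smul]
        refine congrArg₂ (· • ·) rfl ?_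
        exact hs h' h e p' p)
    let t : ∀ o : (fibCat π η).obj, Γ((StMod.OQ (fibCat π η)).obj.obj o, ⊤) :=
      fun o => (ψ.app o).app ⊤ (oneO (fibCat π η) o)
    have ht : ∀ {o' o : (fibCat π η).obj} (k : o' ⟶ o), (StMod.OQ (fibCat π η)).obj.mapTop k (t o) = t o' :=
      fun {o' o} k => by
        show (StMod.OQ (fibCat π η)).obj.mapTop k ((ψ.app o).app ⊤ (oneO (fibCat π η) o)) = _
        rw [StMod.Mod.mapTop_app, oneO_mapTop]
    let T : (StMod.O 𝒳).RelSect π η := ⟨fun ξ α => t (CostructuredArrow.mk α), fun ξ' ξ φ α =>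
      ht (o' := CostructuredArrow.mk (π.map φ ≫ α)) (o := CostructuredArrow.mk α) (CostructuredArrow.homMk φ rfl)⟩
    obtain ⟨a, ha⟩ := h.2 T
    refine ⟨a, fun o ho hp => ?_⟩
    refine Eq.trans ?_ (congrArg (fun r : (StMod.O 𝒳).RelSect π η => r.1 o.left o.hom) ha).symm
    exact ((hψ o ho hp _).trans (one_smul _ _)).symm

theorem appTop_sq {X Y Y' Z : Scheme.{u}} {a : X ⟶ Y} {b : Y ⟶ Z} {a' : X ⟶ Y'} {b' : Y' ⟶ Z}
    (h : a ≫ b = a' ≫ b') (r : Γ(Z, ⊤)) : a.appTop (b.appTop r) = a'.appTop (b'.appTop r) :=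
  ((congrArg (fun k => k r) (Scheme.Hom.comp_appTop a b)).symm.trans
    (congrArg (fun k : X ⟶ Z => k.appTop r) h)).trans (congrArg (fun k => k r) (Scheme.Hom.comp_appTop a' b'))

theorem isBC_self {B D : Type u} [CommRing B] [CommRing D] (φ : B →+* D) : IsBC φ φ.toAddMonoidHom := by
  let := φ.toAlgebra
  have hs : IsSL (algebraMap B D) φ.toAddMonoidHom := fun a m => map_mul φ a m
  refine (isBC_iff rfl).2 ⟨hs, ?_⟩
  have : ⇑(bcMap B D φ.toAddMonoidHom hs) = ⇑(TensorProduct.rid B D) := funext fun z => by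
    induction z with
    | zero => rw [map_zero, map_zero]
    | tmul c b =>
      rw [bcMap_tmul, TensorProduct.rid_tmul, Algebra.smul_def]
      exact mul_comm _ _
    | add x y hx hy => rw [map_add, map_add, hx, hy]
  rw [this]
  exact (TensorProduct.rid B D).bijective

variable (hX : IsFibGrpd 𝒳.p) (hY : IsFibGrpd 𝒴.p) {ω : 𝒴.obj} (d : ω ⟶ η)

/-- The object over the smaller object attached to an object over the bigger one. -/
noncomputable def upω (o : (fibCat π η).obj) : (cat (baseFun π η) (𝒴.p.map d)).obj :=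
  up (π := baseFun π η) (g := 𝒴.p.map d) (isFibGrpd_fibCat hX π η) o

/-- Its map to the object. -/
noncomputable def upE (o : (fibCat π η).obj) : (upω hX d o).obj.left ⟶ o :=
  eps (π := baseFun π η) (g := 𝒴.p.map d) (isFibGrpd_fibCat hX π η) o

/-- Its map to the scheme of the smaller object, on functions. -/
noncomputable def upB (o : (fibCat π η).obj) : Γ(sch 𝒴 ω, ⊤) ⟶ Γ(sch (fibCat π η) (upω hX d o).obj.left, ⊤) :=
  (upω hX d o).obj.hom.left.appTop

variable [IsAffine (sch 𝒴 η)] [IsAffine (sch 𝒴 ω)]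

/-- The algebra. -/
noncomputable abbrev algω : Module Γ(sch 𝒴 η, ⊤) Γ(sch 𝒴 ω, ⊤) :=
  Module.compHom _ (bmap 𝒴 d).appTop.hom

set_option maxHeartbeats 800000 in
theorem exists_theta (o : (fibCat π η).obj) [IsAffine (sch (fibCat π η) o)] :
    letI := algω d
    ∃ θ : Ext ((astr π η).hom o) Γ(sch 𝒴 ω, ⊤) →+ Γ(sch (fibCat π η) (upω hX d o).obj.left, ⊤),
      Function.Bijective θ ∧ ∀ (c : Γ(sch (fibCat π η) o, ⊤)) (b : Γ(sch 𝒴 ω, ⊤)),
        θ (c • GenFam.Ext.mk _ _ b) = (bmap (fibCat π η) (upE hX d o)).appTop c * upB hX d o b := by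
  letI := algω d
  have hf := isFibGrpd_fibCat hX π η
  haveI : IsAffine (𝒴.p.obj η).left := ‹IsAffine (sch 𝒴 η)›
  haveI : IsAffine (𝒴.p.obj ω).left := ‹IsAffine (sch 𝒴 ω)›
  haveI : IsAffineHom (𝒴.p.map d).left := inferInstance
  haveI : IsAffine ((fibCat π η).p.obj o).left := ‹IsAffine (sch (fibCat π η) o)›
  have hp := isPullback_eps (π := baseFun π η) (g := 𝒴.p.map d) hf o
  rw [str_baseFun] at hp
  have H : IsPushout (CommRingCat.ofHom ((astr π η).hom o)) (bmap 𝒴 d).appTop
      (bmap (fibCat π η) (upE hX d o)).appTop (upB hX d o) := by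
    haveI : IsAffine (𝒳.p.obj o.left).left := ‹IsAffine (sch (fibCat π η) o)›
    have H0 := @isPushout_appTop_of_isPullback ((fibCat π η).p.obj o).left (𝒴.p.obj ω).left (𝒴.p.obj η).left _ _ _
      (baseOver π o.left o.hom).left (𝒴.p.map d).left ‹_› ‹_› ‹_› hp
    exact H0
  let mD : Module Γ(sch (fibCat π η) o, ⊤) Γ(sch (fibCat π η) (upω hX d o).obj.left, ⊤) :=
    Module.compHom _ (bmap (fibCat π η) (upE hX d o)).appTop.hom
  have hbc : @IsBC _ _ _ _ _ _ _ (algω d) _ mD ((astr π η).hom o) (upB hX d o).hom.toAddMonoidHom :=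
    isBC_of_isPushout H (M := Γ(sch 𝒴 ω, ⊤)) (N := Γ(sch (fibCat π η) (upω hX d o).obj.left, ⊤)) (mA := algω d)
      (mB := mD) (fun _ _ => rfl) (fun _ _ => rfl) (isBC_self (upB hX d o).hom)
  letI := mD
  letI := ((astr π η).hom o).toAlgebra
  obtain ⟨hs, hb⟩ := (isBC_iff rfl).1 hbc
  let θ : Ext ((astr π η).hom o) Γ(sch 𝒴 ω, ⊤) →+ Γ(sch (fibCat π η) (upω hX d o).obj.left, ⊤) :=
    bcMap Γ(sch 𝒴 η, ⊤) Γ(sch (fibCat π η) o, ⊤) _ hs
  refine ⟨θ, hb, fun c b => ?_⟩
  rw [AStr.eq_tmul]
  exact bcMap_tmul _ hs c b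

variable {C : MChart (fibCat π η)} [Finite C.I] (hL : Lifts (fibCat π η))

set_option maxHeartbeats 1600000 in
include hX hY d hL in
/-- The unit is bijective over an affine object mapping to one over which it is. -/
theorem unitBij_of_map (h : UnitBij π η) (C : MChart (fibCat π η)) [Finite C.I] : UnitBij π ω := by
  classical
  letI := algω d
  have hf := isFibGrpd_fibCat hX π η
  haveI : IsAffine (𝒴.p.obj η).left := ‹IsAffine (sch 𝒴 η)›
  haveI : IsAffine (𝒴.p.obj ω).left := ‹IsAffine (sch 𝒴 ω)›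
  haveI : IsAffineHom (𝒴.p.map d).left := inferInstance
  have hU := isUnit'_astr hX h C
  let P := fun o => upω (π := π) hX d o
  choose θ hθb hθ using fun (o : (fibCat π η).obj) (ho : IsAffine (sch (fibCat π η) o)) =>
    exists_theta (π := π) hX d o
  have hθ1 : ∀ o ho (b : Γ(sch 𝒴 ω, ⊤)), θ o ho (GenFam.Ext.mk _ _ b) = upB hX d o b :=
    fun o ho b => by
      have := hθ o ho 1 b
      rw [one_smul, map_one, one_mul] at this
      exact this
  let u : ∀ {o' o : (fibCat π η).obj} (_ : o' ⟶ o), (P o').obj.left ⟶ (P o).obj.left :=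
    fun e => (upMap (π := baseFun π η) (g := 𝒴.p.map d) hf e).hom.left
  have hθnat : ∀ {o' o : (fibCat π η).obj} (ho' : IsAffine (sch (fibCat π η) o'))
      (ho : IsAffine (sch (fibCat π η) o)) (e : o' ⟶ o) (z : Ext ((astr π η).hom o) Γ(sch 𝒴 ω, ⊤)),
      θ o' ho' ((astr π η).res _ e z) = (bmap (fibCat π η) (u e)).appTop (θ o ho z) := fun {o' o} ho' ho e z => by
    refine bc_induction (isBC_mk _ _)
      (P := fun z => θ o' ho' ((astr π η).res _ e z) = (bmap (fibCat π η) (u e)).appTop (θ o ho z))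
      ?_ (fun a b ha hb => ?_) (fun c b => ?_) z
    · rw [map_zero, map_zero, map_zero]
      exact (map_zero (bmap (fibCat π η) (u e)).appTop.hom).symm
    · rw [map_add, map_add, map_add, ha, hb]
      exact (map_add (bmap (fibCat π η) (u e)).appTop.hom _ _).symm
    · rw [(astr π η).res_sl _ e, (astr π η).res_mk, hθ, hθ]
      refine Eq.trans ?_ (map_mul (bmap (fibCat π η) (u e)).appTop.hom _ _).symm
      refine congrArg₂ (· * ·) ?_ ?_
      · refine appTop_sq ?_ c
        rw [← StMod.bmap_comp, ← StMod.bmap_comp]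
        exact congrArg (bmap (fibCat π η)) (upMap_eps (π := baseFun π η) (g := 𝒴.p.map d) hf e).symm
      · have hw := congrArg CommaMorphism.left
          (CostructuredArrow.w (upMap (π := baseFun π η) (g := 𝒴.p.map d) hf e).hom)
        exact ((congrArg (fun k => k b) (Scheme.Hom.comp_appTop _ _)).symm.trans
          (congrArg (fun k : sch (fibCat π η) (P o').obj.left ⟶ sch 𝒴 ω => k.appTop b) hw)).symm
  constructor
  · refine (injective_iff_map_eq_zero _).2 fun (b : Γ(sch 𝒴 ω, ⊤)) hb => ?_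
    refine AStr.eq_zero_of_mk (st := astr π η) (C := C) hf hL hU (N := Γ(sch 𝒴 ω, ⊤)) b fun o ho _ => ?_
    refine (hθb o ho).1 ((hθ1 o ho b).trans ?_)
    rw [map_zero]
    refine (congrArg (fun k : (fibCat π η).p.obj (P o).obj.left ⟶ 𝒴.p.obj ω => k.left.appTop b)
      (beta_spec π hY d (P o)).2).symm.trans ?_
    exact congrArg (fun r : (StMod.O 𝒳).RelSect π ω => r.1 (P o).obj.left.left (beta π hY d (P o))) hb
  · intro t
    let v : ∀ o : (fibCat π η).obj, Γ(sch (fibCat π η) (P o).obj.left, ⊤) :=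
      fun o => t.1 (P o).obj.left.left (beta π hY d (P o))
    have hv : ∀ {o' o : (fibCat π η).obj} (e : o' ⟶ o), (bmap (fibCat π η) (u e)).appTop (v o) = v o' :=
      fun {o' o} e => (t.2 (u e).left (beta π hY d (P o))).trans
        (congrArg (t.1 (P o').obj.left.left) (beta_natural π hY d (upMap (π := baseFun π η) (g := 𝒴.p.map d) hf e)))
    let T : Fam C ((astr π η).tens Γ(sch 𝒴 ω, ⊤)) :=
      { val := fun o ho _ => ((hθb o ho).2 (v o)).choose
        compat := fun {o' o} ho' ho e h' h => (hθb o' ho').1 (by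
          rw [((hθb o' ho').2 (v o')).choose_spec]
          refine (hθnat ho' ho e _).trans ?_
          rw [((hθb o ho).2 (v o)).choose_spec]
          exact hv e) }
    obtain ⟨b, hb⟩ := AStr.exists_eq_mk (st := astr π η) (C := C) hf hL hU (N := Γ(sch 𝒴 ω, ⊤)) T
    have hb' : ∀ o : (fibCat π η).obj, IsAffine (sch (fibCat π η) o) → C.Has o →
        upB hX d o b = v o := fun o ho hh => by
      refine (hθ1 o ho b).symm.trans ?_
      rw [← hb o hh]
      exact ((hθb o ho).2 (v o)).choose_spec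
    refine ⟨b, StMod.Mod.RelSect.ext _ _ _ fun ξ α => ?_⟩
    let oω : (fibCat π ω).obj := CostructuredArrow.mk α
    refine sect_ext (isFibGrpd_fibCat hX π ω) (StMod.OQ (fibCat π ω)) (x := oω) fun p k hp => ?_
    show (bmap 𝒳 k.left).appTop ((StMod.unitSect π ω b).1 ξ α) = (bmap 𝒳 k.left).appTop (t.1 ξ α)
    have e1 : (bmap 𝒳 k.left).appTop (t.1 ξ α) = t.1 p.left p.hom := relSect_mapTop t k
    have e2 : (bmap 𝒳 k.left).appTop ((StMod.unitSect π ω b).1 ξ α) = (baseOver π p.left p.hom).left.appTop b :=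
      relSect_mapTop (StMod.unitSect π ω b) k
    rw [e1, e2]
    let o : (fibCat π η).obj := CostructuredArrow.mk (p.hom ≫ d)
    haveI : IsAffine (sch (fibCat π η) o) := hp
    obtain ⟨n, D, hD⟩ := C.cover o hp
    refine D.eq_of_mapTop (StMod.OQ (fibCat π η)) fun j => ?_
    haveI := D.aff j
    let f : (D.E j).left ⟶ p.left := (D.e j).left
    let α' : π.obj (D.E j).left ⟶ ω := π.map f ≫ p.hom
    show (bmap 𝒳 f).appTop ((baseOver π p.left p.hom).left.appTop b) = (bmap 𝒳 f).appTop (t.1 p.left p.hom)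
    have e3 : (bmap 𝒳 f).appTop (t.1 p.left p.hom) = t.1 (D.E j).left α' := t.2 f p.hom
    have e4 : (bmap 𝒳 f).appTop ((baseOver π p.left p.hom).left.appTop b) = (baseOver π (D.E j).left α').left.appTop b :=
      (StMod.unitSect π ω b).2 f p.hom
    rw [e3, e4]
    have hw : α' ≫ d = (D.E j).hom := by
      rw [Category.assoc]
      exact CostructuredArrow.w (D.e j)
    let q : (cat (baseFun π η) (𝒴.p.map d)).obj := mkObj (π := baseFun π η) (g := 𝒴.p.map d) (D.E j)
      (baseOver π (D.E j).left α') (by rw [str_baseFun, ← StMod.baseOver_comp, hw])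
    let ψ : q ⟶ P (D.E j) := upLift (π := baseFun π η) (g := 𝒴.p.map d) hf (o := q) (𝟙 (D.E j))
    let φ : (D.E j).left ⟶ (P (D.E j)).obj.left.left := ψ.hom.left.left
    have hψ : π.map φ ≫ beta π hY d (P (D.E j)) = α' := by
      refine (beta_natural π hY d ψ).trans (beta_ext hY d ?_ ?_)
      · exact (beta_spec π hY d q).1.trans hw.symm
      · exact (beta_spec π hY d q).2
    have e5 : (bmap 𝒳 φ).appTop (v (D.E j)) = t.1 (D.E j).left α' :=
      (t.2 φ (beta π hY d (P (D.E j)))).trans (congrArg (t.1 (D.E j).left) hψ)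
    rw [← e5, ← hb' (D.E j) (D.aff j) (hD j)]
    refine Eq.trans ?_ (congrArg (fun k => (bmap 𝒳 φ).appTop ((Scheme.Hom.appTop k) b))
      (congrArg CommaMorphism.left (beta_spec π hY d (P (D.E j))).2))
    exact (congrArg (fun a => (baseOver π (D.E j).left a).left.appTop b) hψ).symm.trans
      ((StMod.unitSect π ω b).2 φ (beta π hY d (P (D.E j)))).symm

end Groth.Agent.H14.UB
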