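import Groth.Agent.H14.UB.Closed
import Groth.Agent.H14.Chart.QC2
import Groth.Agent.H14.Chart.LocQ2
import Groth.Agent.H14.GenFam.Lift

/-!
A good moduli space of a stack flat over the base is flat over the base.
-/

set_option autoImplicit false
set_option backward.isDefEq.respectTransparency false
set_option backward.isDefEq.respectTransparency.types false
set_option linter.style.haveILetI false

universe u

open CategoryTheory CategoryTheory.Limits AlgebraicGeometry Opposite TensorProduct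
open StMod (sch bmap fibCat etaOf baseOver)
open Groth.Agent.Lib Groth.Agent.Lib.AlgStack
open Groth.Agent.H14.ModDesc
open FibCat (IsFibGrpd fp fpFst overCat toSelf selfOver)
open AlgSt (IsAlgStack ofSp ofSpMap overMap RepByAlgSpWith)
open AlgSp (LocP)
open Groth.Agent.H14.GenFam (FlatFun Cover exists_obj exists_hom_over isFibGrpd_fibCat)
open Groth.Agent.H14.CohBC (CompactPullbacks lifts_affine exists_univ Univ)
open Groth.Agent.H14.MultiExt (MChart)

namespace Groth.Agent.H14.UB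

variable {S : Scheme.{u}}

/-- The source of a smooth chart of the base is smooth over the base. -/
theorem smooth_of_chart_selfOver {V : Over S} (y : overCat V ⥤ᵇ selfOver (Over S))
    (hy : RepByAlgSpWith (LocP @Smooth) y) : Smooth V.hom := by
  let T : Over S := Over.mk (𝟙 S)
  obtain ⟨i, hi, -, -⟩ := BasedBasic.IsEquivOver.exists_inverse
    (IsAlgFp.isEquivOver_toSelf_overCat (T := T) Over.mkIdTerminal)
  obtain ⟨k, ⟨ι⟩⟩ := H14.Chart.Points.exists_iso_overMap (BasedFunctor.comp y i)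
  have h : RepByAlgSpWith (LocP @Smooth) (overMap k) :=
    Rep.repByAlgSpWith_of_iso ι
      (H14.Chart.LocQ.rep_postcomp_equiv hi hy)
  have hk : Smooth k.left := H14.Chart.LocQ.prop_of_rep_overMap (IsAlgFp.respectsIsoSp_locP H14.Chart.QC.smoothST)
    (IsAlgFp.detected_locP H14.Chart.QC.smoothST) h (𝟙 _) (𝟙 _) k (AlgSp.repWith_id _ _) (AlgSp.repWith_id _ _)
    (by simp)
  have e : k.left = V.hom := by simpa [T] using Over.w k
  rwa [e] at hk

section Pure

variable {𝒵 : AlgSt.Cat S} {A : Type u} [CommRing A] {st : AStr 𝒵 A} {C : MChart 𝒵}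

/-- A tensor killed at the members of flat covers is killed everywhere. -/
theorem eq_zero_of_covers [Finite C.I] (hfib : FibCat.IsFibGrpd 𝒵.p) (hL : CohBC.Lifts 𝒵) (hU : st.IsUnit' C)
    (P : 𝒵.obj → Prop)
    (hP : ∀ o : 𝒵.obj, IsAffine (sch 𝒵 o) → ∃ (J : Type u) (D : Cover o J),
      ∀ j, ∃ d, P d ∧ IsAffine (sch 𝒵 d) ∧ Nonempty (D.E j ⟶ d))
    {N : Type u} [AddCommGroup N] [Module A N] (n : N)
    (h : ∀ (d : 𝒵.obj) (_ : IsAffine (sch 𝒵 d)), P d → GenFam.Ext.mk (st.hom d) N n = 0) : n = 0 := by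
  refine AStr.eq_zero_of_mk (st := st) (C := C) hfib hL hU n fun o _ _ => ?_
  obtain ⟨J, D, hD⟩ := hP o ‹_›
  refine GenFam.eqΦ (st.tens N) D fun j => ?_
  obtain ⟨d, hd, hda, ⟨k⟩⟩ := hD j
  show st.res N (D.e j) (GenFam.Ext.mk (st.hom o) N n) = st.res N (D.e j) 0
  rw [map_zero, st.res_mk, ← st.res_mk N k n, h d hda hd, map_zero]

/-- A ring of functions is flat when the objects covering all affine objects are. -/
theorem flat_of_covers [Finite C.I] (hfib : FibCat.IsFibGrpd 𝒵.p) (hL : CohBC.Lifts 𝒵) (hU : st.IsUnit' C)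
    (P : 𝒵.obj → Prop)
    (hP : ∀ o : 𝒵.obj, IsAffine (sch 𝒵 o) → ∃ (J : Type u) (D : Cover o J),
      ∀ j, ∃ d, P d ∧ IsAffine (sch 𝒵 d) ∧ Nonempty (D.E j ⟶ d))
    (R : Type u) [CommRing R] [Algebra R A]
    (hflat : ∀ (d : 𝒵.obj), IsAffine (sch 𝒵 d) → P d → ((st.hom d).comp (algebraMap R A)).Flat) :
    Module.Flat R A := by
  rw [Module.Flat.iff_lTensor_preserves_injective_linearMap]
  intro N' N _ _ _ _ f hf
  refine (injective_iff_map_eq_zero _).2 fun z hz => ?_
  refine eq_zero_of_covers (st := st) (C := C) hfib hL hU P hP (N := A ⊗[R] N') z fun d hd hPd => ?_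
  let B := GenFam.AlgB (st.hom d)
  letI : Algebra R B := ((st.hom d).comp (algebraMap R A)).toAlgebra
  haveI : IsScalarTower R A B := IsScalarTower.of_algebraMap_eq fun _ => rfl
  haveI : Module.Flat R B := hflat d hd hPd
  let g : A ⊗[R] N' →ₗ[A] A ⊗[R] N := AlgebraTensorModule.lTensor A A f
  have hc : ∀ t : B ⊗[A] (A ⊗[R] N'), AlgebraTensorModule.cancelBaseChange R A B B N (g.lTensor B t) =
      f.lTensor B (AlgebraTensorModule.cancelBaseChange R A B B N' t) := fun t => by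
    induction t with
    | zero => simp
    | tmul b x =>
      induction x with
      | zero => simp
      | tmul a y => simp [g]
      | add u v hu hv => rw [tmul_add, map_add, map_add, map_add, map_add, hu, hv]
    | add u v hu hv => rw [map_add, map_add, map_add, map_add, hu, hv]
  have hz' : g.lTensor B ((1 : B) ⊗ₜ[A] z) = 0 := by
    rw [LinearMap.lTensor_tmul, show g z = 0 from hz, tmul_zero]
  apply (AlgebraTensorModule.cancelBaseChange R A B B N').injective
  rw [map_zero]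
  refine Module.Flat.lTensor_preserves_injective_linearMap (M := B) f hf ?_
  rw [map_zero, ← hc]
  show AlgebraTensorModule.cancelBaseChange R A B B N (g.lTensor B ((1 : B) ⊗ₜ[A] z)) = 0
  rw [hz', map_zero]

end Pure

theorem flat_of_openImm_comp {X Y Z : Scheme.{u}} (f : X ⟶ Y) (g : Y ⟶ Z) [hg : IsOpenImmersion g]
    (h : Flat (f ≫ g)) : Flat f :=
  MorphismProperty.of_postcomp (W := @Flat) (W' := @IsOpenImmersion) f g hg h

variable {𝒳 : AlgSt.Cat S} {M : AlgSp.Space S} {π : 𝒳 ⥤ᵇ ofSp M.obj}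

set_option maxHeartbeats 1600000 in
/-- An etale scheme over the target of a good moduli space of a flat stack is flat over the base. -/
theorem flat_hom_of_etale (h𝒳 : IsAlgStack Scheme.fppfPrecoverage 𝒳) (hM : CompactPullbacks M.obj)
    (hqc : AlgSt.IsQuasiCompactMor Scheme.fppfPrecoverage π) (hqs : AlgSt.IsQuasiSeparatedMor π)
    (h : StMod.IsGoodModuli π) (hfl : AlgSt.LocQ (LocP @Flat) (toSelf 𝒳))
    (U : Over S) (a : (AlgSp.yon S).obj U ⟶ M.obj) (ha : AlgSp.RepWith @Etale a) : Flat U.hom := by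
  classical
  obtain ⟨U₀, V₀, x₀, y₀, h₀, e₀, hxs, hxe, hys, hh⟩ := hfl
  have hV : Smooth V₀.hom := smooth_of_chart_selfOver y₀ hys
  have hh' : Flat h₀.left := AlgSp.locP_yon_map hh
  haveI hU₀ : Flat U₀.hom := by
    rw [← Over.w h₀]
    infer_instance
  have hX := h𝒳.isStack.1
  have hMs := IsAlg.isAlgStack_ofSp M
  let ξ₀ := x₀.obj (Over.mk (𝟙 U₀))
  have hξ₀ : Flat (𝒳.p.obj ξ₀).hom := by
    rw [show 𝒳.p.obj ξ₀ = U₀ from x₀.w_obj _]
    exact hU₀
  choose Sv hSv hvS using fun v : U.left => exists_isAffineOpen_mem_and_subset (X := S)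
    (x := U.hom v) (U := ⊤) trivial
  choose Ov hOv hvO hOS using fun v : U.left => exists_isAffineOpen_mem_and_subset (X := U.left)
    (x := v) (U := U.hom ⁻¹ᵁ Sv v) (hvS v).1
  refine IsZariskiLocalAtSource.of_iSup_eq_top (P := @Flat) Ov
    (eq_top_iff.2 fun v _ => TopologicalSpace.Opens.mem_iSup.2 ⟨v, hvO v⟩) fun v => ?_
  let Sa : S.affineOpens := ⟨Sv v, hSv v⟩
  let Oa : U.left.affineOpens := ⟨Ov v, hOv v⟩
  have hle : Oa.1 ≤ U.hom ⁻¹ᵁ Sa.1 := hOS v
  let O : U.left.Opens := Oa.1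
  haveI : IsAffine O.toScheme := Oa.2
  haveI : IsAffine Sa.1.toScheme := Sa.2
  let UO : Over S := Over.mk (O.ι ≫ U.hom)
  let ιO : UO ⟶ U := Over.homMk O.ι
  have het : Etale ιO.left := inferInstanceAs (Etale O.ι)
  let E : AlgSp.EtOver M.obj :=
    AlgSp.EtOver.mk ((AlgSp.yon S).map ιO ≫ a) (AlgSpace.repWith_yon_map_comp het ha)
  haveI hE : IsAffine (sch (ofSp M.obj) (etaOf E)) := inferInstanceAs (IsAffine O.toScheme)
  let η := etaOf E
  let φ : O.toScheme ⟶ Sa.1.toScheme := U.hom.resLE Sa.1 O hle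
  obtain ⟨C⟩ := GenFam.exists_chart2_at π h𝒳 hMs hqc hqs η hE
  obtain ⟨Z⟩ := exists_univ (π := π) E hX ξ₀
  have hfib := isFibGrpd_fibCat hX π η
  have hz : Flat (𝒳.p.obj Z.z.left).hom := by
    rw [← Over.w (𝒳.p.map Z.m)]
    have := Z.etale
    have := hξ₀
    infer_instance
  let P : (fibCat π η).obj → Prop := fun d => Flat (𝒳.p.obj d.left).hom
  have hP : ∀ o : (fibCat π η).obj, IsAffine (sch (fibCat π η) o) → ∃ (J : Type u) (D : Cover o J),
      ∀ j, ∃ d, P d ∧ IsAffine (sch (fibCat π η) d) ∧ Nonempty (D.E j ⟶ d) := fun o ho => by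
    haveI : IsAffine (sch 𝒳 o.left) := ho
    obtain ⟨n, D₀, hD₀⟩ := GenFam.exists_cover_chart hX hxs hxe o.left
    let oE : Fin n → (fibCat π η).obj := fun j => CostructuredArrow.mk (π.map (D₀.e j) ≫ o.hom)
    let eE : ∀ j, oE j ⟶ o := fun j => CostructuredArrow.homMk (D₀.e j) rfl
    choose f hf using fun j => Z.lift (oE j) (hD₀ j).some
    have hW : ∀ j (v : sch (fibCat π η) (oE j)), ∃ (W : (sch (fibCat π η) Z.z).Opens)
        (Q : (sch (fibCat π η) (oE j)).Opens), IsAffineOpen W ∧ IsAffineOpen Q ∧ v ∈ Q ∧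
          Q ≤ bmap (fibCat π η) (f j) ⁻¹ᵁ W := fun j v => by
      obtain ⟨W, hW, hv, -⟩ := exists_isAffineOpen_mem_and_subset (X := sch (fibCat π η) Z.z)
        (x := bmap (fibCat π η) (f j) v) (U := ⊤) trivial
      obtain ⟨Q, hQ, hvQ, hQW⟩ := exists_isAffineOpen_mem_and_subset (X := sch (fibCat π η) (oE j))
        (x := v) (U := bmap (fibCat π η) (f j) ⁻¹ᵁ W) hv
      exact ⟨W, Q, hW, hQ, hvQ, hQW⟩
    choose W Q hWa hQa hvQ hQW using hW
    let J : Type u := Σ j : ULift.{u} (Fin n), sch (fibCat π η) (oE j.down)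
    choose d θ i hθ using fun t : J => exists_obj hfib Z.z (W t.1.down t.2).ι
    choose q κ i' hκ using fun t : J => exists_obj hfib (oE t.1.down) (Q t.1.down t.2).ι
    have hfac : ∀ t : J, ∃ c : q t ⟶ d t, c ≫ θ t = κ t ≫ f t.1.down := fun t => by
      haveI : IsOpenImmersion (bmap (fibCat π η) (θ t)) := by rw [hθ]; infer_instance
      refine MultiExt.exists_factor hfib (θ t) _ ?_
      rintro _ ⟨y, rfl⟩
      refine ⟨(i t).inv ⟨_, hQW t.1.down t.2 ((i' t).hom y).2⟩, ?_⟩
      rw [hθ, StMod.bmap_comp, hκ, ← Scheme.Hom.comp_apply]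
      simp only [Iso.inv_hom_id_assoc]
      rfl
    refine ⟨J, ⟨q, fun t => ?_, fun t => κ t ≫ eE t.1.down, fun t => ?_, fun v => ?_⟩, fun t => ?_⟩
    · haveI : IsAffine (Q t.1.down t.2).toScheme := hQa t.1.down t.2
      exact IsAffine.of_isIso (i' t).hom
    · rw [StMod.bmap_comp, hκ]
      haveI : Flat (bmap (fibCat π η) (eE t.1.down)) := D₀.flat t.1.down
      infer_instance
    · obtain ⟨j, w, hw⟩ := D₀.surj v
      refine ⟨⟨⟨j⟩, w⟩, (i' ⟨⟨j⟩, w⟩).inv ⟨w, hvQ j w⟩, ?_⟩
      rw [StMod.bmap_comp, hκ, ← Scheme.Hom.comp_apply]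
      simp only [Category.assoc, Iso.inv_hom_id_assoc]
      exact hw
    · refine ⟨d t, ?_, ?_, ⟨(hfac t).choose⟩⟩
      · show Flat (𝒳.p.obj (d t).left).hom
        rw [← Over.w (𝒳.p.map (θ t).left),
          show (𝒳.p.map (θ t).left).left = (i t).hom ≫ (W t.1.down t.2).ι from hθ t]
        have := hz
        infer_instance
      · haveI : IsAffine (W t.1.down t.2).toScheme := hWa t.1.down t.2
        exact IsAffine.of_isIso (i t).hom
  -- rings
  letI : Algebra Γ(Sa.1.toScheme, ⊤) Γ(sch (ofSp M.obj) η, ⊤) := φ.appTop.hom.toAlgebra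
  have hflat := flat_of_covers (st := astr π η) (C := ofChart2 C) hfib (lifts_affine π h𝒳 hM hqc hqs h.1 η hE)
    (isUnit'_astr hX (h.2 E) (ofChart2 C)) P hP Γ(Sa.1.toScheme, ⊤) fun d hd hPd => by
      let g : sch 𝒳 d.left ⟶ Sa.1.toScheme := (baseOver π d.left d.hom).left ≫ φ
      haveI : Flat g := by
        refine flat_of_openImm_comp g Sa.1.ι ?_
        show Flat (((baseOver π d.left d.hom).left ≫ φ) ≫ Sa.1.ι)
        rw [Category.assoc, show φ ≫ Sa.1.ι = O.ι ≫ U.hom from Scheme.Hom.resLE_comp_ι _ _]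
        exact (Over.w (baseOver π d.left d.hom)).symm ▸ hPd
      haveI : IsAffine (sch 𝒳 d.left) := hd
      have h1 : g.appTop.hom.Flat := flat_appTop g
      rwa [Scheme.Hom.comp_appTop, CommRingCat.hom_comp] at h1
  have hφ : φ.appTop.hom.Flat := hflat
  have he : Flat φ := by
    rw [HasRingHomProperty.iff_of_isAffine (P := @Flat)]
    exact hφ
  show Flat (O.ι ≫ U.hom)
  rw [← Scheme.Hom.resLE_comp_ι U.hom hle]
  infer_instance

/-- A good moduli space of a flat stack is flat. -/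
theorem locP_flat_goodModuli (h𝒳 : IsAlgStack Scheme.fppfPrecoverage 𝒳) (hM : CompactPullbacks M.obj)
    (hqc : AlgSt.IsQuasiCompactMor Scheme.fppfPrecoverage π) (hqs : AlgSt.IsQuasiSeparatedMor π)
    (h : StMod.IsGoodModuli π) (hfl : AlgSt.LocQ (LocP @Flat) (toSelf 𝒳))
    (q : M.obj ⟶ (AlgSp.yon S).obj (Over.mk (𝟙 S))) : LocP @Flat q := by
  intro U V a b k ha hb hk
  obtain ⟨b', rfl⟩ := (AlgSp.yon S).map_surjective b
  have hb' : Etale b'.left := (AlgSp.repWith_yon_map_iff @Etale b').1 hb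
  haveI : Etale V.hom := by
    have e : b'.left = V.hom := by simpa using Over.w b'
    rwa [e] at hb'
  refine CohBC.flat_of_comp_etale k.left V.hom (hg := ‹Etale V.hom›) ?_
  rw [Over.w k]
  exact flat_hom_of_etale h𝒳 hM hqc hqs h hfl U a ha

end Groth.Agent.H14.UB
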