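import Groth.Agent.H14.UB.Separate
import Groth.Agent.H14.Chart.UnivTop
import Groth.Agent.Lib.AlgSpDecent.AlgPoint
import Groth.Agent.Lib.AlgSpDecent.QS
import Groth.Agent.Lib.QuotSt.Invariant

/-!
Rational points of quasi-separated spaces.
-/

set_option autoImplicit false
set_option backward.isDefEq.respectTransparency false
set_option backward.isDefEq.respectTransparency.types false

universe u

open CategoryTheory CategoryTheory.Limits AlgebraicGeometry Opposite
open Groth.Agent.Lib Groth.Agent.Lib.AlgStack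
open AlgSt (ofSp ofSpMap)
open FibCat (overCat)

namespace Groth.Agent.H14.UB

variable {S : Scheme.{u}}

/-- Isomorphic functors to the category of a sheaf are equal. -/
theorem eq_of_iso_ofSp {F : AlgSp.Sp S} {𝒳 : AlgSt.Cat S} {Φ Ψ : 𝒳 ⥤ᵇ ofSp F} (e : Φ ≅ Ψ) : Φ = Ψ := by
  refine Groth.Agent.Lib.QuotSt.functor_ext fun a => ?_
  haveI : (ofSp F).p.IsHomLift (𝟙 (𝒳.p.obj a)) (BasedBasic.appIso e a).hom := BasedBasic.appIso_isHomLift e a
  have hk := IsHomLift.fac' (ofSp F).p (𝟙 (𝒳.p.obj a)) (BasedBasic.appIso e a).hom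
  have := Groth.Agent.Lib.QuotSt.map_res (BasedBasic.appIso e a).hom
    (show (Φ.obj a).base = 𝒳.p.obj a from Φ.w_obj a) (show (Ψ.obj a).base = 𝒳.p.obj a from Ψ.w_obj a) (𝟙 _) hk
  rw [Groth.Agent.Lib.QuotSt.eq_mk_res (Φ.obj a) (show (Φ.obj a).base = 𝒳.p.obj a from Φ.w_obj a),
    Groth.Agent.Lib.QuotSt.eq_mk_res (Ψ.obj a) (show (Ψ.obj a).base = 𝒳.p.obj a from Ψ.w_obj a)]
  refine congrArg _ (this.symm.trans ?_)
  simp

variable {k : Type u} [Field k] {str : Spec (CommRingCat.of k) ⟶ S} [IsClosedImmersion str]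
  {M : AlgSp.Space S}

theorem isClosed_kpt (hM : AlgSp.IsDecent M.obj) (y : (AlgSp.yon S).obj (Over.mk str) ⟶ M.obj)
    (t : (Over.mk str).left) : IsClosed ({AlgSp.Points.ofPt y t} : Set (AlgSp.Points M.obj)) := by
  have h := AlgSpDecent.AlgPoint.repWith_isClosedImmersion (p := y) M.property hM
  have hc := AlgSpDecent.AlgPoint.isClosed_range M.property (f := y)
    (AlgSpace.repWith_mono h (fun _ _ f (hf : IsClosedImmersion f) => (inferInstance : IsIntegralHom f)))
  refine (congrArg IsClosed ?_).mp hc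
  refine Set.eq_singleton_iff_unique_mem.2 ⟨⟨_, (AlgSp.Points.ofPt_eq_map_ofScheme y t).symm⟩, ?_⟩
  rintro _ ⟨p, rfl⟩
  obtain ⟨t', rfl⟩ := (AlgSp.Points.schemeEquiv (Over.mk str)).surjective p
  rw [Subsingleton.elim (α := Spec (CommRingCat.of k)) t t']
  exact (AlgSp.Points.ofPt_eq_map_ofScheme y t').symm

theorem kpt_eq (hM : AlgSp.IsDecent M.obj) {y₁ y₂ : (AlgSp.yon S).obj (Over.mk str) ⟶ M.obj}
    {t₁ t₂ : (Over.mk str).left} (h : AlgSp.Points.ofPt y₁ t₁ = AlgSp.Points.ofPt y₂ t₂) : y₁ = y₂ := by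
  have hc := AlgSpDecent.AlgPoint.repWith_isClosedImmersion (p := y₁) M.property hM
  have sq := hc.rep.isPullback' y₂
  obtain ⟨W, a, b, w, -, -, hw⟩ := (AlgSpace.ofPt_eq_ofPt_iff _ _ _ _).1 h
  let c := hc.rep.lift' (g := y₂) a b hw
  let snd := hc.rep.snd y₂
  haveI : IsClosedImmersion snd.left := hc.property y₂ _ _ sq
  haveI : IsReduced (Over.mk str).left := inferInstanceAs (IsReduced (Spec (CommRingCat.of k)))
  haveI : Surjective snd.left := ⟨fun x => ⟨c.left w, Subsingleton.elim (α := Spec (CommRingCat.of k)) _ _⟩⟩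
  haveI : IsIso snd.left := isIso_of_isClosedImmersion_of_surjective snd.left
  haveI : IsIso ((Over.forget S).map snd) := ‹IsIso snd.left›
  haveI : IsIso snd := isIso_of_reflects_iso snd (Over.forget S)
  have hsub : ∀ (x : Over.mk str ⟶ Over.mk str), x = 𝟙 _ := fun x => Over.OverMorphism.ext (by
    haveI : Mono str := inferInstance
    exact (cancel_mono str).1 ((Over.w x).trans (Category.id_comp _).symm))
  have hw' := sq.w
  rw [show hc.rep.fst' y₂ = snd ≫ (inv snd ≫ hc.rep.fst' y₂) by simp, hsub (inv snd ≫ _), Category.comp_id] at hw'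
  haveI : IsIso ((AlgSp.yon S).map snd) := inferInstance
  exact (cancel_epi ((AlgSp.yon S).map snd)).1 hw'

end Groth.Agent.H14.UB
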