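import Groth.Agent.H14.UB.KPoints
import Groth.Agent.Lib.AlgSpDecent.DecentSection
import Groth.Agent.Lib.AlgStack.Space
import Groth.Agent.Lib.AlgSpace.Diag

/-!
Rational points of a good moduli space after base change to an algebraically closed field.
-/

set_option autoImplicit false
set_option backward.isDefEq.respectTransparency false
set_option backward.isDefEq.respectTransparency.types false

universe u

open CategoryTheory CategoryTheory.Limits AlgebraicGeometry Opposite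
open Groth.Agent.Lib Groth.Agent.Lib.AlgStack
open FibCat (IsFibGrpd fp fpFst fpSnd fpLift overCat)
open AlgSt (IsAlgStack ofSp ofSpMap ofOverCat)
open Groth.Agent.H14.CohBC (CompactPullbacks)

namespace Groth.Agent.H14.UB

variable {S : Scheme.{u}}

/-- The map to the final sheaf. -/
noncomputable def toTop (F : AlgSp.Sp S) : F ⟶ (AlgSp.yon S).obj (Over.mk (𝟙 S)) :=
  (Over.mkIdTerminal.isTerminalObj (AlgSp.yon S)).from F

/-- Functors to the final sheaf are equal. -/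
theorem eq_top {𝒳 : AlgSt.Cat S} (Φ Ψ : 𝒳 ⥤ᵇ ofSp ((AlgSp.yon S).obj (Over.mk (𝟙 S)))) : Φ = Ψ := by
  refine Groth.Agent.Lib.QuotSt.functor_ext fun a => ?_
  rw [Groth.Agent.Lib.QuotSt.eq_mk_res (Φ.obj a) (show (Φ.obj a).base = 𝒳.p.obj a from Φ.w_obj a),
    Groth.Agent.Lib.QuotSt.eq_mk_res (Ψ.obj a) (show (Ψ.obj a).base = 𝒳.p.obj a from Ψ.w_obj a)]
  exact congrArg _ (ULift.ext _ _ (Over.mkIdTerminal.hom_ext _ _))

/-- Isomorphisms of functors to the category of a sheaf are unique. -/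
theorem iso_eq {F : AlgSp.Sp S} {𝒳 : AlgSt.Cat S} {Φ Ψ : 𝒳 ⥤ᵇ ofSp F} (e e' : Φ ≅ Ψ) : e = e' := by
  apply Iso.ext
  ext a
  haveI : (ofSp F).p.IsHomLift (𝟙 (𝒳.p.obj a)) (e.hom.toNatTrans.app a) := BasedNatTrans.isHomLift e.hom rfl
  haveI : (ofSp F).p.IsHomLift (𝟙 (𝒳.p.obj a)) (e'.hom.toNatTrans.app a) := BasedNatTrans.isHomLift e'.hom rfl
  exact congrArg (fun m => Over.Hom.left (Stk.EltObj.Hom.hom m)) (sp_eq_of_lift (M := F) (𝟙 (𝒳.p.obj a)) (e.hom.toNatTrans.app a) (e'.hom.toNatTrans.app a))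

variable {k : Type u} [Field k] {t : Spec (CommRingCat.of k) ⟶ S}

section Section

variable {P : AlgSp.Space S} (q : P.obj ⟶ (AlgSp.yon S).obj (Over.mk t))

theorem isClosed_section (hd : AlgSp.IsDecent P.obj) (e : (AlgSp.yon S).obj (Over.mk t) ⟶ P.obj)
    (he : e ≫ q = 𝟙 _) (v : (Over.mk t).left) : IsClosed ({AlgSp.Points.ofPt e v} : Set (AlgSp.Points P.obj)) := by
  have h := AlgSpDecent.DecentSection.repWith_isClosedImmersion_section P.property hd q e he
  have hc := AlgSpDecent.AlgPoint.isClosed_range P.property (f := e)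
    (AlgSpace.repWith_mono h (fun _ _ f (hf : IsClosedImmersion f) => (inferInstance : IsIntegralHom f)))
  refine (congrArg IsClosed ?_).mp hc
  refine Set.eq_singleton_iff_unique_mem.2 ⟨⟨_, (AlgSp.Points.ofPt_eq_map_ofScheme e v).symm⟩, ?_⟩
  rintro _ ⟨p, rfl⟩
  obtain ⟨t', rfl⟩ := (AlgSp.Points.schemeEquiv (Over.mk t)).surjective p
  rw [Subsingleton.elim (α := Spec (CommRingCat.of k)) v t']
  exact (AlgSp.Points.ofPt_eq_map_ofScheme e t').symm

theorem section_eq (hd : AlgSp.IsDecent P.obj) {e₁ e₂ : (AlgSp.yon S).obj (Over.mk t) ⟶ P.obj}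
    (he₁ : e₁ ≫ q = 𝟙 _) (he₂ : e₂ ≫ q = 𝟙 _) {v₁ v₂ : (Over.mk t).left}
    (h : AlgSp.Points.ofPt e₁ v₁ = AlgSp.Points.ofPt e₂ v₂) : e₁ = e₂ := by
  have hc := AlgSpDecent.DecentSection.repWith_isClosedImmersion_section P.property hd q e₁ he₁
  have sq := hc.rep.isPullback' e₂
  obtain ⟨W, a, b, w, -, -, hw⟩ := (AlgSpace.ofPt_eq_ofPt_iff _ _ _ _).1 h
  let c := hc.rep.lift' (g := e₂) a b hw
  let snd := hc.rep.snd e₂
  haveI : IsClosedImmersion snd.left := hc.property e₂ _ _ sq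
  haveI : IsReduced (Over.mk t).left := inferInstanceAs (IsReduced (Spec (CommRingCat.of k)))
  haveI : Surjective snd.left := ⟨fun x => ⟨c.left w, Subsingleton.elim (α := Spec (CommRingCat.of k)) _ _⟩⟩
  haveI : IsIso snd.left := isIso_of_isClosedImmersion_of_surjective snd.left
  haveI : IsIso ((Over.forget S).map snd) := ‹IsIso snd.left›
  haveI : IsIso snd := isIso_of_reflects_iso snd (Over.forget S)
  have hw' := sq.w
  rw [show hc.rep.fst' e₂ = snd ≫ (inv snd ≫ hc.rep.fst' e₂) by simp, Functor.map_comp, Category.assoc] at hw'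
  have h2 := (cancel_epi ((AlgSp.yon S).map snd)).1 hw'
  have h3 := congrArg (fun m => m ≫ q) h2
  simp only [Category.assoc, he₁, he₂, Category.comp_id] at h3
  rw [h3, Category.id_comp] at h2
  exact h2

end Section

variable {𝒳 : AlgSt.Cat S} {M : AlgSp.Space S} {π : 𝒳 ⥤ᵇ ofSp M.obj}
  (τ : 𝒳 ⥤ᵇ AlgSt.ofSch (Over.mk (𝟙 S)))

/-- The map of the field to the base. -/
noncomputable abbrev toBase (t : Spec (CommRingCat.of k) ⟶ S) :
    (AlgSp.yon S).obj (Over.mk t) ⟶ (AlgSp.yon S).obj (Over.mk (𝟙 S)) :=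
  (AlgSp.yon S).map (Over.homMk t (Category.comp_id t) : Over.mk t ⟶ Over.mk (𝟙 S))

theorem eq_of_closure_fp (h𝒳 : IsAlgStack Scheme.fppfPrecoverage 𝒳) (hd : AlgSp.IsDecent M.obj)
    (x₁ x₂ : overCat (Over.mk t) ⥤ᵇ 𝒳)
    (e₁ : BasedFunctor.comp x₁ τ ≅ BasedFunctor.comp (ofOverCat (Over.mk t)) (ofSpMap (toBase t)))
    (e₂ : BasedFunctor.comp x₂ τ ≅ BasedFunctor.comp (ofOverCat (Over.mk t)) (ofSpMap (toBase t)))
    (v : (Over.mk t).left) (c : AlgSt.Points (fp τ (ofSpMap (toBase t))))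
    (hc₁ : c ∈ closure {AlgSt.Points.ofChart (fpLift x₁ (ofOverCat (Over.mk t)) e₁) v})
    (hc₂ : c ∈ closure {AlgSt.Points.ofChart (fpLift x₂ (ofOverCat (Over.mk t)) e₂) v}) :
    BasedFunctor.comp x₁ π = BasedFunctor.comp x₂ π := by
  let T : Over S := Over.mk t
  let a : M.obj ⟶ (AlgSp.yon S).obj (Over.mk (𝟙 S)) := toTop M.obj
  have sq := IsPullback.of_hasPullback a (toBase t)
  have hA : AlgSp.IsAlgSpace (pullback a (toBase t)) := AlgSpace.isAlgSpace_of_isPullback sq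
    ((AlgSp.ofScheme S).obj (Over.mk (𝟙 S))).property.diag M.property (AlgSp.IsAlgSpace.yon_obj T)
  let P : AlgSp.Space S := ⟨_, hA⟩
  have hrep : AlgSp.Representable (pullback.fst a (toBase t)) :=
    AlgSpace.representable_baseChange sq.flip
      (AlgSp.representable_yon_map (Over.homMk t (Category.comp_id t) : T ⟶ Over.mk (𝟙 S)))
  have hdP : AlgSp.IsDecent P.obj := AlgSpDecent.Decent.isDecent_of_representable hrep hd
  have hE := Space.isEquivOver_sqLift (sq.map (sheafToPresheaf _ _))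
  obtain ⟨i, -, -, ⟨η⟩⟩ := BasedBasic.IsEquivOver.exists_inverse hE
  let Φ : fp τ (ofSpMap (toBase t)) ⥤ᵇ fp (ofSpMap a) (ofSpMap (toBase t)) :=
    fpLift (BasedFunctor.comp (fpFst τ (ofSpMap (toBase t))) π) (fpSnd τ (ofSpMap (toBase t))) (eqToIso (eq_top _ _))
  let Ψ : fp τ (ofSpMap (toBase t)) ⥤ᵇ ofSp P.obj := BasedFunctor.comp Φ i
  have hP := IsAlg.isAlgStack_ofSp P
  have key : ∀ (x : overCat T ⥤ᵇ 𝒳)
      (e : BasedFunctor.comp x τ ≅ BasedFunctor.comp (ofOverCat T) (ofSpMap (toBase t))),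
      SpMapProp.ofPoint (BasedFunctor.comp (fpLift x (ofOverCat T) e) Ψ) ≫ pullback.fst a (toBase t) =
        SpMapProp.ofPoint (BasedFunctor.comp x π) ∧
      SpMapProp.ofPoint (BasedFunctor.comp (fpLift x (ofOverCat T) e) Ψ) ≫ pullback.snd a (toBase t) = 𝟙 _ :=
    fun x e => by
    let c := BasedFunctor.comp (fpLift x (ofOverCat T) e) Φ
    constructor
    · refine (SpMapProp.ofPoint_comp _ _).symm.trans (SpMapProp.ofPoint_eq_of_iso ?_)
      exact BasedBasic.isoWhiskerLeft c (BasedBasic.isoWhiskerRight η (fpFst (ofSpMap a) (ofSpMap (toBase t))))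
    · refine (SpMapProp.ofPoint_comp _ _).symm.trans ((SpMapProp.ofPoint_eq_of_iso (x' := ofOverCat T) ?_).trans
        (SpMapProp.ofPoint_atlas (𝟙 ((AlgSp.yon S).obj T))))
      exact BasedBasic.isoWhiskerLeft c (BasedBasic.isoWhiskerRight η (fpSnd (ofSpMap a) (ofSpMap (toBase t))))
  have hmap : ∀ (x : overCat T ⥤ᵇ 𝒳)
      (e : BasedFunctor.comp x τ ≅ BasedFunctor.comp (ofOverCat T) (ofSpMap (toBase t))),
      c ∈ closure {AlgSt.Points.ofChart (fpLift x (ofOverCat T) e) v} →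
      Chart.UnivTop.toSp P (AlgSt.Points.map Ψ c) =
        AlgSp.Points.ofPt (SpMapProp.ofPoint (BasedFunctor.comp (fpLift x (ofOverCat T) e) Ψ)) v := fun x e hx => by
    have hcont : Continuous (fun q => Chart.UnivTop.toSp P (AlgSt.Points.map Ψ q)) :=
      (Chart.UnivTop.isHomeomorph_toSp P).continuous.comp (Chart.Basic.continuous_map hP Ψ)
    have h1 := image_closure_subset_closure_image hcont ⟨c, hx, rfl⟩
    rw [Set.image_singleton, Chart.Points.map_ofChart, Chart.UnivTop.toSp_ofChart,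
      (isClosed_section (P := P) (pullback.snd a (toBase t)) hdP _ (key x e).2 v).closure_eq] at h1
    exact h1
  have := section_eq (P := P) (pullback.snd a (toBase t)) hdP (key x₁ e₁).2 (key x₂ e₂).2
    ((hmap x₁ e₁ hc₁).symm.trans (hmap x₂ e₂ hc₂))
  have h2 : SpMapProp.ofPoint (BasedFunctor.comp x₁ π) = SpMapProp.ofPoint (BasedFunctor.comp x₂ π) := by
    rw [← (key x₁ e₁).1, ← (key x₂ e₂).1, this]
  exact eq_of_iso_ofSp (SpMapProp.isoOfPoint _ ≪≫
    eqToIso (congrArg (fun g => BasedFunctor.comp (ofOverCat T) (ofSpMap g)) h2) ≪≫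
    (SpMapProp.isoOfPoint _).symm)

/-- In the fibre over a field-valued point any two closures meet. -/
theorem closure_inter_fp (h𝒳 : IsAlgStack Scheme.fppfPrecoverage 𝒳) (hM : CompactPullbacks M.obj)
    (hqc : AlgSt.IsQuasiCompactMor Scheme.fppfPrecoverage π) (hqs : AlgSt.IsQuasiSeparatedMor π)
    (h : StMod.IsGoodModuli π) (x₁ x₂ : overCat (Over.mk t) ⥤ᵇ 𝒳)
    (e₁ : BasedFunctor.comp x₁ τ ≅ BasedFunctor.comp (ofOverCat (Over.mk t)) (ofSpMap (toBase t)))
    (e₂ : BasedFunctor.comp x₂ τ ≅ BasedFunctor.comp (ofOverCat (Over.mk t)) (ofSpMap (toBase t)))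
    (he : BasedFunctor.comp x₁ π = BasedFunctor.comp x₂ π) (v : (Over.mk t).left) :
    (closure {AlgSt.Points.ofChart (fpLift x₁ (ofOverCat (Over.mk t)) e₁) v} ∩
      closure {AlgSt.Points.ofChart (fpLift x₂ (ofOverCat (Over.mk t)) e₂) v}).Nonempty := by
  let T : Over S := Over.mk t
  haveI : IsAffine T.left := inferInstanceAs (IsAffine (Spec (CommRingCat.of k)))
  let y := SpMapProp.ofPoint (BasedFunctor.comp x₁ π)
  let i₁ : BasedFunctor.comp (ofOverCat T) (ofSpMap y) ≅ BasedFunctor.comp x₁ π := (SpMapProp.isoOfPoint _).symm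
  let d₁ := fpLift (ofOverCat T) x₁ i₁
  let d₂ := fpLift (ofOverCat T) x₂ (i₁ ≪≫ eqToIso he)
  have hT := IsAlg.isAlgStack_ofSp ((AlgSp.ofScheme S).obj T)
  have htop := IsAlg.isAlgStack_ofSp ((AlgSp.ofScheme S).obj (Over.mk (𝟙 S)))
  let Θ : fp (ofSpMap y) π ⥤ᵇ fp τ (ofSpMap (toBase t)) :=
    fpLift (fpSnd (ofSpMap y) π) (fpFst (ofSpMap y) π) (eqToIso (eq_top _ _))
  have hΘ₁ : BasedFunctor.comp d₁ Θ = fpLift x₁ (ofOverCat T) e₁ :=
    (rfl : _ = fpLift (F := τ) (G := ofSpMap (toBase t)) x₁ (ofOverCat T)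
      (show BasedFunctor.comp x₁ τ ≅ BasedFunctor.comp (ofOverCat T) (ofSpMap (toBase t)) from
        BasedBasic.isoWhiskerLeft d₁ (eqToIso (eq_top (BasedFunctor.comp (fpSnd (ofSpMap y) π) τ)
          (BasedFunctor.comp (fpFst (ofSpMap y) π) (ofSpMap (toBase t))))))).trans
      (congrArg (fpLift x₁ (ofOverCat T)) (iso_eq _ _))
  have hΘ₂ : BasedFunctor.comp d₂ Θ = fpLift x₂ (ofOverCat T) e₂ :=
    (rfl : _ = fpLift (F := τ) (G := ofSpMap (toBase t)) x₂ (ofOverCat T)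
      (show BasedFunctor.comp x₂ τ ≅ BasedFunctor.comp (ofOverCat T) (ofSpMap (toBase t)) from
        BasedBasic.isoWhiskerLeft d₂ (eqToIso (eq_top (BasedFunctor.comp (fpSnd (ofSpMap y) π) τ)
          (BasedFunctor.comp (fpFst (ofSpMap y) π) (ofSpMap (toBase t))))))).trans
      (congrArg (fpLift x₂ (ofOverCat T)) (iso_eq _ _))
  by_contra hne
  have hcont := Chart.Basic.continuous_map (Chart.Basic.isAlgStack_fp htop h𝒳 hT τ (ofSpMap (toBase t))) Θ
  obtain ⟨f, hf₁, hf₂⟩ := exists_sep (g := ofSpMap y) (ofOverCat T) h𝒳 hM hqc hqs h hT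
    (isClosed_closure (s := {AlgSt.Points.ofChart d₁ v})) (isClosed_closure (s := {AlgSt.Points.ofChart d₂ v}))
    fun c hc hc' => by
      have p₁ := image_closure_subset_closure_image hcont ⟨c, hc, rfl⟩
      have p₂ := image_closure_subset_closure_image hcont ⟨c, hc', rfl⟩
      rw [Set.image_singleton, Chart.Points.map_ofChart, hΘ₁] at p₁
      rw [Set.image_singleton, Chart.Points.map_ofChart, hΘ₂] at p₂
      exact hne ⟨_, p₁, p₂⟩
  exact hf₂ (AlgSt.Points.ofChart d₂ v) v rfl (subset_closure rfl)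
    (hf₁ (AlgSt.Points.ofChart d₁ v) v rfl (subset_closure rfl))

end Groth.Agent.H14.UB
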