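import Groth.Agent.H14.UB.Flat
import Groth.Agent.H14.CohDesc.UnitLocal
import Mathlib.Data.DFinsupp.WellFounded

/-!
A good moduli space of a locally Noetherian stack is locally Noetherian.
-/

set_option autoImplicit false
set_option backward.isDefEq.respectTransparency false
set_option backward.isDefEq.respectTransparency.types false
set_option linter.style.haveILetI false

universe u

open CategoryTheory CategoryTheory.Limits AlgebraicGeometry Opposite TensorProduct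
open StMod (sch bmap fibCat etaOf baseOver)
open Groth.Agent.Lib Groth.Agent.Lib.AlgStack
open Groth.Agent.H14.ModDesc
open FibCat (IsFibGrpd fp fpFst overCat toSelf)
open AlgSt (IsAlgStack ofSp ofSpMap overMap RepByAlgSpWith)
open AlgSp (LocP)
open Groth.Agent.H14.GenFam (FlatFun Cover exists_obj isFibGrpd_fibCat Chart2)
open Groth.Agent.H14.CohBC (CompactPullbacks lifts_affine exists_univ Univ)
open Groth.Agent.H14.MultiExt (MChart)

namespace Groth.Agent.H14.UB

variable {S : Scheme.{u}}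

/-- A finite family of members for a chart. -/
theorem isNoetherianRing_of_finite_covers {𝒵 : AlgSt.Cat S} (hfib : FibCat.IsFibGrpd 𝒵.p) (hL : CohBC.Lifts 𝒵)
    {A : Type u} [CommRing A] {st : AStr 𝒵 A} (C : Chart2 𝒵) (hU : st.IsUnit' (ofChart2 C))
    {K : Type u} [Finite K] (D : Cover C.x K) (d : K → 𝒵.obj) (hd : ∀ k, IsAffine (sch 𝒵 (d k)))
    (c : ∀ k, D.E k ⟶ d k) (hN : ∀ k, IsNoetherianRing Γ(sch 𝒵 (d k), ⊤)) : IsNoetherianRing A := by
  classical
  haveI := Fintype.ofFinite K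
  haveI := hN
  let f : Ideal A → ∀ k, Ideal Γ(sch 𝒵 (d k), ⊤) := fun I k => I.map (st.hom (d k))
  have hmono : ∀ I J, I ≤ J → f I ≤ f J := fun I J h k => Ideal.map_mono h
  have hinj : ∀ I J, I ≤ J → f J ≤ f I → J ≤ I := fun I J _ hle a ha => by
    rw [← Ideal.Quotient.eq_zero_iff_mem]
    refine AStr.eq_zero_of_mk (st := st) (C := ofChart2 C) hfib hL hU _ fun o ho hh => ?_
    have hx : GenFam.Ext.mk (st.hom C.x) (A ⧸ I) (Ideal.Quotient.mk I a) = 0 := by
      haveI := C.affx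
      refine GenFam.eqΦ (st.tens (A ⧸ I)) D fun k => ?_
      haveI := hd k
      show st.res _ (D.e k) _ = st.res _ (D.e k) 0
      rw [map_zero, st.res_mk, ← st.res_mk _ (c k)]
      have hm : st.hom (d k) a ∈ I.map (st.hom (d k)) := hle k (Ideal.mem_map_of_mem _ ha)
      have key : ∀ b ∈ I.map (st.hom (d k)),
          (show GenFam.AlgB (st.hom (d k)) from b) ⊗ₜ[A] (1 : A ⧸ I) = 0 := fun b hb => by
        refine Submodule.span_induction (p := fun b _ =>
          (show GenFam.AlgB (st.hom (d k)) from b) ⊗ₜ[A] (1 : A ⧸ I) = 0) ?_ (zero_tmul _ _)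
          (fun a b _ _ ha hb => (add_tmul _ _ _).trans (by rw [ha, hb, add_zero])) (fun e b _ hb => ?_) hb
        · rintro _ ⟨i, hi, rfl⟩
          show algebraMap A (GenFam.AlgB (st.hom (d k))) i ⊗ₜ[A] (1 : A ⧸ I) = 0
          rw [Algebra.algebraMap_eq_smul_one, smul_tmul, Algebra.smul_def, mul_one,
            show algebraMap A (A ⧸ I) i = 0 from Ideal.Quotient.eq_zero_iff_mem.2 hi, tmul_zero]
        · show ((show GenFam.AlgB (st.hom (d k)) from e) * (show GenFam.AlgB (st.hom (d k)) from b)) ⊗ₜ[A] (1 : A ⧸ I) = 0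
          rw [← smul_eq_mul, ← smul_tmul', hb, smul_zero]
      have e : GenFam.Ext.mk (st.hom (d k)) (A ⧸ I) (Ideal.Quotient.mk I a) =
          algebraMap A (GenFam.AlgB (st.hom (d k))) a ⊗ₜ[A] (1 : A ⧸ I) := by
        rw [Algebra.algebraMap_eq_smul_one, smul_tmul, Algebra.smul_def, mul_one]
        rfl
      rw [e, show algebraMap A (GenFam.AlgB (st.hom (d k))) a ⊗ₜ[A] (1 : A ⧸ I) = 0 from key _ hm, map_zero]
    obtain ⟨i, ⟨b⟩⟩ := hh
    rw [← st.res_mk _ b]
    exact (congrArg (st.res _ b) hx).trans (map_zero _)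
  rw [isNoetherianRing_iff, _root_.isNoetherian_iff]
  haveI : ∀ k, WellFoundedGT (Ideal Γ(sch 𝒵 (d k), ⊤)) := fun k => inferInstance
  haveI : WellFoundedLT (∀ k, (Ideal Γ(sch 𝒵 (d k), ⊤))ᵒᵈ) := Pi.wellFoundedLT
  have hw : WellFoundedLT (Ideal A)ᵒᵈ :=
    StrictMono.wellFoundedLT (f := fun I : (Ideal A)ᵒᵈ => fun k => OrderDual.toDual (f (OrderDual.ofDual I) k))
      (fun I J hlt => lt_of_le_not_ge (fun k => hmono _ _ (OrderDual.ofDual_lt_ofDual.2 hlt).le k)
        fun h => (OrderDual.ofDual_lt_ofDual.2 hlt).not_ge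
          (hinj _ _ (OrderDual.ofDual_lt_ofDual.2 hlt).le fun k => h k))
  exact hw.wf

variable {𝒳 : AlgSt.Cat S} {M : AlgSp.Space S} {π : 𝒳 ⥤ᵇ ofSp M.obj}

set_option maxHeartbeats 1600000 in
/-- The functions of an affine etale scheme over the target form a Noetherian ring. -/
theorem isNoetherianRing_etale (h𝒳 : IsAlgStack Scheme.fppfPrecoverage 𝒳) (hM : CompactPullbacks M.obj)
    (hqc : AlgSt.IsQuasiCompactMor Scheme.fppfPrecoverage π) (hqs : AlgSt.IsQuasiSeparatedMor π)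
    (h : StMod.IsGoodModuli π) (hN : AlgSt.SmoothLocally (fun T => IsLocallyNoetherian T) 𝒳)
    (E : AlgSp.EtOver M.obj) (hE : IsAffine E.obj.left.left) :
    IsNoetherianRing Γ(E.obj.left.left, ⊤) := by
  classical
  obtain ⟨U₀, x₀, hxs, hxe⟩ := h𝒳.atlas
  haveI hU₀ : IsLocallyNoetherian U₀.left := hN U₀ x₀ hxs
  have hX := h𝒳.isStack.1
  have hMs := IsAlg.isAlgStack_ofSp M
  let ξ₀ := x₀.obj (Over.mk (𝟙 U₀))
  haveI hE' : IsAffine (sch (ofSp M.obj) (etaOf E)) := hE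
  let η := etaOf E
  obtain ⟨C⟩ := GenFam.exists_chart2_at π h𝒳 hMs hqc hqs η hE
  obtain ⟨Z⟩ := exists_univ (π := π) E hX ξ₀
  have hfib := isFibGrpd_fibCat hX π η
  haveI hZn : IsLocallyNoetherian (sch (fibCat π η) Z.z) := by
    have := Z.etale
    haveI : IsLocallyNoetherian (sch 𝒳 ξ₀) := by
      show IsLocallyNoetherian (𝒳.p.obj ξ₀).left
      rw [show 𝒳.p.obj ξ₀ = U₀ from x₀.w_obj _]
      exact hU₀
    exact LocallyOfFiniteType.isLocallyNoetherian (bmap 𝒳 Z.m)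
  haveI : IsAffine (sch 𝒳 C.x.left) := C.affx
  obtain ⟨n, D₀, hD₀⟩ := GenFam.exists_cover_chart hX hxs hxe C.x.left
  let oE : Fin n → (fibCat π η).obj := fun j => CostructuredArrow.mk (π.map (D₀.e j) ≫ C.x.hom)
  let eE : ∀ j, oE j ⟶ C.x := fun j => CostructuredArrow.homMk (D₀.e j) rfl
  choose f hf using fun j => Z.lift (oE j) (hD₀ j).some
  have hW : ∀ j (v : sch (fibCat π η) (oE j)), ∃ (W : (sch (fibCat π η) Z.z).Opens)
      (Q : (sch (fibCat π η) (oE j)).Opens), IsAffineOpen W ∧ IsAffineOpen Q ∧ v ∈ Q ∧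
        Q ≤ bmap (fibCat π η) (f j) ⁻¹ᵁ W := fun j v => by
    obtain ⟨W, hW, hv, -⟩ := exists_isAffineOpen_mem_and_subset (X := sch (fibCat π η) Z.z)
      (x := bmap (fibCat π η) (f j) v) (U := ⊤) trivial
    obtain ⟨Q, hQ, hvQ, hQW⟩ := exists_isAffineOpen_mem_and_subset (X := sch (fibCat π η) (oE j))
      (x := v) (U := bmap (fibCat π η) (f j) ⁻¹ᵁ W) hv
    exact ⟨W, Q, hW, hQ, hvQ, hQW⟩
  choose W Q hWa hQa hvQ hQW using hW
  have hfin : ∀ j, ∃ F : Finset (sch (fibCat π η) (oE j)), ∀ v, ∃ w ∈ F, v ∈ Q j w := fun j => by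
    haveI : IsAffine (sch (fibCat π η) (oE j)) := D₀.aff j
    obtain ⟨F, hF⟩ := isCompact_univ.elim_finite_subcover (fun v => (Q j v : Set (sch (fibCat π η) (oE j))))
      (fun v => (Q j v).2) fun v _ => Set.mem_iUnion.2 ⟨v, hvQ j v⟩
    exact ⟨F, fun v => by simpa using hF (Set.mem_univ v)⟩
  choose F hF using hfin
  let J : Type u := Σ j : ULift.{u} (Fin n), { v // v ∈ F j.down }
  choose d θ i hθ using fun t : J => exists_obj hfib Z.z (W t.1.down t.2.1).ι
  choose q κ i' hκ using fun t : J => exists_obj hfib (oE t.1.down) (Q t.1.down t.2.1).ι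
  have hfac : ∀ t : J, ∃ c : q t ⟶ d t, c ≫ θ t = κ t ≫ f t.1.down := fun t => by
    haveI : IsOpenImmersion (bmap (fibCat π η) (θ t)) := by rw [hθ]; infer_instance
    refine MultiExt.exists_factor hfib (θ t) _ ?_
    rintro _ ⟨y, rfl⟩
    refine ⟨(i t).inv ⟨_, hQW t.1.down t.2.1 ((i' t).hom y).2⟩, ?_⟩
    rw [hθ, StMod.bmap_comp, hκ, ← Scheme.Hom.comp_apply]
    simp only [Iso.inv_hom_id_assoc]
    rfl
  choose c hc using hfac
  refine isNoetherianRing_of_finite_covers (st := astr π η) hfib (lifts_affine π h𝒳 hM hqc hqs h.1 η hE) C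
    (isUnit'_astr hX (h.2 E) (ofChart2 C)) (K := J)
    ⟨q, fun t => ?_, fun t => κ t ≫ eE t.1.down, fun t => ?_, fun v => ?_⟩ d (fun t => ?_) c (fun t => ?_)
  · haveI : IsAffine (Q t.1.down t.2.1).toScheme := hQa t.1.down t.2.1
    exact IsAffine.of_isIso (i' t).hom
  · rw [StMod.bmap_comp, hκ]
    haveI : Flat (bmap (fibCat π η) (eE t.1.down)) := D₀.flat t.1.down
    infer_instance
  · obtain ⟨j, w, hw⟩ := D₀.surj v
    obtain ⟨v', hv', hwv'⟩ := hF j w
    refine ⟨⟨⟨j⟩, v', hv'⟩, (i' ⟨⟨j⟩, v', hv'⟩).inv ⟨w, hwv'⟩, ?_⟩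
    rw [StMod.bmap_comp, hκ, ← Scheme.Hom.comp_apply]
    simp only [Category.assoc, Iso.inv_hom_id_assoc]
    exact hw
  · haveI : IsAffine (W t.1.down t.2.1).toScheme := hWa t.1.down t.2.1
    exact IsAffine.of_isIso (i t).hom
  · haveI : IsAffine (W t.1.down t.2.1).toScheme := hWa t.1.down t.2.1
    haveI : IsAffine (sch (fibCat π η) (d t)) := IsAffine.of_isIso (i t).hom
    haveI : IsOpenImmersion (bmap (fibCat π η) (θ t)) := by rw [hθ]; infer_instance
    haveI : IsLocallyNoetherian (sch (fibCat π η) (d t)) := isLocallyNoetherian_of_isOpenImmersion (bmap (fibCat π η) (θ t))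
    exact IsLocallyNoetherian.component_noetherian ⟨⊤, isAffineOpen_top _⟩

/-- A good moduli space of a locally Noetherian stack is locally Noetherian. -/
theorem isLocNoethSp_goodModuli (h𝒳 : IsAlgStack Scheme.fppfPrecoverage 𝒳) (hM : CompactPullbacks M.obj)
    (hqc : AlgSt.IsQuasiCompactMor Scheme.fppfPrecoverage π) (hqs : AlgSt.IsQuasiSeparatedMor π)
    (h : StMod.IsGoodModuli π) (hN : AlgSt.SmoothLocally (fun T => IsLocallyNoetherian T) 𝒳) :
    AlgSp.IsLocNoethSp M.obj := by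
  obtain ⟨U, p, hp, hs⟩ := M.property.atlas
  refine ⟨U, p, hp, hs, (isLocallyNoetherian_iff_of_iSup_eq_top (S := fun i : U.left.affineOpens => i)
    (iSup_affineOpens_eq_top _)).2 fun O => ?_⟩
  haveI : IsAffine O.1.toScheme := O.2
  let ιO : Over.mk (O.1.ι ≫ U.hom) ⟶ U := Over.homMk O.1.ι
  have het : Etale ιO.left := inferInstanceAs (Etale O.1.ι)
  let E : AlgSp.EtOver M.obj :=
    AlgSp.EtOver.mk ((AlgSp.yon S).map ιO ≫ p) (AlgSpace.repWith_yon_map_comp het hp)
  have hn : IsNoetherianRing Γ(O.1.toScheme, ⊤) := isNoetherianRing_etale h𝒳 hM hqc hqs h hN E O.2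
  exact @isNoetherianRing_of_ringEquiv _ _ _ _ O.1.topIso.commRingCatIsoToRingEquiv hn

end Groth.Agent.H14.UB
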