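import Groth.Agent.H14.UB.Tens

/-!
The projection formula for global functions.
-/

set_option autoImplicit false
set_option backward.isDefEq.respectTransparency false
set_option backward.isDefEq.respectTransparency.types false
set_option linter.style.haveILetI false

universe u

open CategoryTheory CategoryTheory.Limits AlgebraicGeometry Opposite
open StMod (sch bmap)
open Groth.Agent.Lib.AlgStack
open Groth.Agent.H14.ModDesc
open Groth.Agent.H14.GenFam (FlatFun Ext)
open Groth.Agent.H14.CohBC (imgFlat toImg toImg_surjective Lifts)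
open Groth.Agent.H14.MultiExt (MChart FlatHom)

namespace Groth.Agent.H14.UB.AStr

variable {S : Scheme.{u}} {𝒵 : AlgSt.Cat S} {A : Type u} [CommRing A] (st : AStr 𝒵 A) (C : MChart 𝒵)

/-- The ring is the ring of compatible functions on the affine objects reached by the chart. -/
structure IsUnit' : Prop where
  inj : ∀ a : A, (∀ i, st.hom (C.x i) a = 0) → a = 0
  surj : ∀ s : ∀ o : 𝒵.obj, IsAffine (sch 𝒵 o) → C.Has o → Γ(sch 𝒵 o, ⊤),
    (∀ {o' o : 𝒵.obj} (ho' : IsAffine (sch 𝒵 o')) (ho : IsAffine (sch 𝒵 o)) (e : o' ⟶ o) (h' : C.Has o')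
      (h : C.Has o), (bmap 𝒵 e).appTop (s o ho h) = s o' ho' h') →
    ∃ a : A, ∀ (o : 𝒵.obj) (ho : IsAffine (sch 𝒵 o)) (h : C.Has o), s o ho h = st.hom o a

variable {st C} (hfib : FibCat.IsFibGrpd 𝒵.p) (hL : Lifts 𝒵) (hU : st.IsUnit' C)

include hU in
theorem exists_eq_mk_free [Finite C.I] {J : Type u} (T : Fam C (st.tens (J →₀ A))) :
    ∃ m : J →₀ A, ∀ (o : 𝒵.obj) [IsAffine (sch 𝒵 o)] (h : C.Has o), T.val o h = GenFam.Ext.mk (st.hom o) _ m := by
  classical
  have hj : ∀ j, ∃ a : A, ∀ (o : 𝒵.obj) (ho : IsAffine (sch 𝒵 o)) (h : C.Has o),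
      (haveI := ho; st.coord J o j (T.val o h)) = st.hom o a := fun j =>
    hU.surj (fun o ho h => haveI := ho; st.coord J o j (T.val o h)) fun {o' o} ho' ho e h' h => by
      haveI := ho
      haveI := ho'
      refine (st.coord_res J e j _).trans (congrArg (st.coord J o' j) ?_)
      exact T.compat e h' h
  choose a ha using hj
  choose Ts hTs using fun i => st.exists_support J (C.x i) (T.val (C.x i) (MChart.Has.of_map C (𝟙 _)))
  haveI := Fintype.ofFinite C.I
  have h0 : ∀ j, a j ≠ 0 → j ∈ Finset.univ.biUnion Ts := fun j hne => by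
    by_contra hnm
    refine hne (hU.inj _ fun i => ?_)
    rw [← ha j (C.x i) (C.affx i) (MChart.Has.of_map C (𝟙 _))]
    exact hTs i j fun h => hnm (Finset.mem_biUnion.2 ⟨i, Finset.mem_univ i, h⟩)
  refine ⟨Finsupp.onFinset _ a h0, fun o _ h => st.eq_of_coord J o fun j => ?_⟩
  rw [st.coord_mk, Finsupp.onFinset_apply]
  exact ha j o ‹_› h

variable {N : Type u} [AddCommGroup N] [Module A N]

/-- A presentation. -/
noncomputable def cover (N : Type u) [AddCommGroup N] [Module A N] : (N →₀ A) →ₗ[A] N :=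
  Finsupp.linearCombination A id

theorem cover_surjective : Function.Surjective (cover (A := A) N) :=
  Finsupp.linearCombination_id_surjective A N

include hfib hL hU in
/-- Compatible families of a tensor product come from the module. -/
theorem exists_eq_mk [Finite C.I] (T : Fam C (st.tens N)) :
    ∃ n : N, ∀ (o : 𝒵.obj) [IsAffine (sch 𝒵 o)] (h : C.Has o), T.val o h = GenFam.Ext.mk (st.hom o) N n := by
  obtain ⟨s, hs⟩ := exists_lift hfib hL (st.tensHom (cover N))
    (fun i => st.tensHom_surjective _ cover_surjective (C.x i)) T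
  obtain ⟨m, hm⟩ := exists_eq_mk_free hU s
  exact ⟨cover N m, fun o _ h => by rw [← hs o h, hm o h, st.tensHom_mk]⟩

include hfib hL hU in
theorem exists_preimage_of_mk [Finite C.I] {J K : Type u} [AddCommGroup K] [Module A K]
    (g : K →ₗ[A] (J →₀ A)) (f : (J →₀ A) →ₗ[A] N) (hgf : Function.Exact g f) (hf : Function.Surjective f)
    (m : J →₀ A) (h : ∀ (o : 𝒵.obj) [IsAffine (sch 𝒵 o)], C.Has o → GenFam.Ext.mk (st.hom o) N (f m) = 0) :
    f m = 0 := by
  have hmem : ∀ (o : 𝒵.obj) [IsAffine (sch 𝒵 o)], C.Has o →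
      GenFam.Ext.mk (st.hom o) (J →₀ A) m ∈ LinearMap.range ((st.tensHom g).app o) := fun o _ ho =>
    st.mem_range_of_tensHom_eq_zero g f hgf hf o ((st.tensHom_mk f o m).trans (h o ho))
  let T : Fam C (imgFlat (st.tensHom g)) :=
    { val := fun o _ ho => ⟨GenFam.Ext.mk (st.hom o) (J →₀ A) m, hmem o ho⟩
      compat := fun {o' o} _ _ e h' h => Subtype.ext (st.res_mk (J →₀ A) e m) }
  obtain ⟨s, hs⟩ := exists_lift hfib hL (toImg (st.tensHom g)) (fun i => toImg_surjective (st.tensHom g) (C.x i)) T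
  obtain ⟨k, hk⟩ := exists_eq_mk hfib hL hU s
  have hmk : m = g k := Finsupp.ext fun j => sub_eq_zero.1 (hU.inj _ fun i => by
    have hi : C.Has (C.x i) := MChart.Has.of_map C (𝟙 _)
    have h1 : (st.tensHom g).app (C.x i) (s.val (C.x i) hi) = GenFam.Ext.mk (st.hom (C.x i)) (J →₀ A) m :=
      congrArg Subtype.val (hs (C.x i) hi)
    rw [hk (C.x i) hi, st.tensHom_mk] at h1
    have e' := congrArg (st.coord J (C.x i) j) h1
    rw [st.coord_mk, st.coord_mk] at e'
    rw [map_sub, e', sub_self])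
  rw [hmk]
  exact hgf.apply_apply_eq_zero k

include hfib hL hU in
/-- The module injects into the compatible families. -/
theorem eq_zero_of_mk [Finite C.I] (n : N)
    (h : ∀ (o : 𝒵.obj) [IsAffine (sch 𝒵 o)], C.Has o → GenFam.Ext.mk (st.hom o) N n = 0) : n = 0 := by
  obtain ⟨m, rfl⟩ := cover_surjective (A := A) n
  exact exists_preimage_of_mk hfib hL hU (K := LinearMap.ker (cover (A := A) N))
    (LinearMap.ker (cover (A := A) N)).subtype (cover N) (LinearMap.exact_subtype_ker_map _) cover_surjective m h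

end Groth.Agent.H14.UB.AStr
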