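import Groth.Agent.H14.UB.Desc
import Groth.Agent.H14.Chart.Points
import Groth.Agent.H14.Chart.Basic

/-!
Points of stacks given by objects over affine schemes.
-/

set_option autoImplicit false
set_option backward.isDefEq.respectTransparency false
set_option backward.isDefEq.respectTransparency.types false
set_option linter.style.haveILetI false

universe u

open CategoryTheory CategoryTheory.Limits AlgebraicGeometry Opposite
open StMod (sch bmap fibCat baseOver)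
open Groth.Agent.Lib Groth.Agent.Lib.AlgStack
open FibCat (IsFibGrpd fp fpFst fpSnd overCat)
open AlgSt (ofSp ofSpMap overMap)

namespace Groth.Agent.H14.UB

variable {S : Scheme.{u}}

/-- Morphisms in the category of a sheaf over the same morphism are equal. -/
theorem sp_eq_of_lift {M : AlgSp.Sp S} {a b : (ofSp M).obj} {R R' : Over S} (h : R ⟶ R') (f f' : a ⟶ b)
    [(ofSp M).p.IsHomLift h f] [(ofSp M).p.IsHomLift h f'] : f = f' :=
  Stk.EltObj.hom_ext (((IsHomLift.fac' (ofSp M).p h f).trans (IsHomLift.fac' (ofSp M).p h f').symm))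

/-- The chart of an object. -/
noncomputable abbrev objFun {𝒵 : AlgSt.Cat S} (hZ : IsFibGrpd 𝒵.p) (z : 𝒵.obj) : overCat (𝒵.p.obj z) ⥤ᵇ 𝒵 :=
  Yoneda.fromObj hZ (rfl : 𝒵.p.obj z = 𝒵.p.obj z)

/-- A morphism of tautological objects relates the points of two charts. -/
theorem ofChart_eq_of_hom {𝒵 : AlgSt.Cat S} (hZ : IsFibGrpd 𝒵.p) {W W' : Over S} (y : overCat W ⥤ᵇ 𝒵)
    (y' : overCat W' ⥤ᵇ 𝒵) (b : W ⟶ W') (h : y.obj (Over.mk (𝟙 W)) ⟶ y'.obj (Over.mk (𝟙 W')))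
    [𝒵.p.IsHomLift b h] (w : W.left) : AlgSt.Points.ofChart y w = AlgSt.Points.ofChart y' (b.left w) := by
  let g : Over.mk (W.left.fromSpecResidueField w ≫ W.hom) ⟶ W := Over.homMk (W.left.fromSpecResidueField w) rfl
  have h1 : 𝒵.p.IsHomLift g (y.map (Yoneda.toId (Over.mk g))) := Yoneda.map_toId_isHomLift y (Over.mk g)
  have h2 : 𝒵.p.IsHomLift (g ≫ b) (y.map (Yoneda.toId (Over.mk g)) ≫ h) := inferInstance
  have h3 : 𝒵.p.IsHomLift (g ≫ b) (y'.map (Yoneda.toId (Over.mk (g ≫ b)))) :=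
    Yoneda.map_toId_isHomLift y' (Over.mk (g ≫ b))
  haveI := Yoneda.stronglyCartesian hZ (g ≫ b) (y'.map (Yoneda.toId (Over.mk (g ≫ b))))
  let θ := Functor.IsStronglyCartesian.map 𝒵.p (g ≫ b) (y'.map (Yoneda.toId (Over.mk (g ≫ b))))
    (g := 𝟙 _) (Category.id_comp (g ≫ b)).symm (y.map (Yoneda.toId (Over.mk g)) ≫ h)
  refine Eq.trans ?_ ((Chart.Points.mk_obj_eq_ofChart y' (g ≫ b)).trans (congrArg _ ?_))
  · exact AlgSt.Points.sound ⟨{ K := ↥(W.left.residueField w), str := W.left.fromSpecResidueField w ≫ W.hom, obj := y.obj (Over.mk g), lies := y.w_obj _ }, 𝟙 _, θ, trivial⟩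
  · exact (Scheme.Hom.comp_apply g.left b.left _).trans (congrArg b.left (Scheme.fromSpecResidueField_apply w _))

theorem ofChart_objFun_eq {𝒵 : AlgSt.Cat S} (hZ : IsFibGrpd 𝒵.p) {z' z : 𝒵.obj} (h : z' ⟶ z)
    (w : (𝒵.p.obj z').left) :
    AlgSt.Points.ofChart (objFun hZ z') w = AlgSt.Points.ofChart (objFun hZ z) (bmap 𝒵 h w) := by
  obtain ⟨e', he'⟩ := Yoneda.exists_fromObj_iso hZ (rfl : 𝒵.p.obj z' = 𝒵.p.obj z')
  obtain ⟨e, he⟩ := Yoneda.exists_fromObj_iso hZ (rfl : 𝒵.p.obj z = 𝒵.p.obj z)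
  haveI := he'
  haveI : 𝒵.p.IsHomLift (𝟙 (𝒵.p.obj z)) e.inv := inferInstance
  haveI : 𝒵.p.IsHomLift (𝒵.p.map h) h := IsHomLift.map 𝒵.p h
  haveI : 𝒵.p.IsHomLift (𝒵.p.map h) (e'.hom ≫ h ≫ e.inv) := by
    have := (inferInstance : 𝒵.p.IsHomLift (𝟙 (𝒵.p.obj z') ≫ 𝒵.p.map h ≫ 𝟙 (𝒵.p.obj z)) (e'.hom ≫ h ≫ e.inv))
    simpa using this
  exact ofChart_eq_of_hom hZ (objFun hZ z') (objFun hZ z) (𝒵.p.map h) (e'.hom ≫ h ≫ e.inv) w

theorem left_apply {A B C : Over S} (f : A ⟶ B) (g : B ⟶ C) (u : A.left) :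
    g.left (f.left u) = (f ≫ g).left u :=
  (Scheme.Hom.comp_apply f.left g.left u).symm

section Fp

variable {𝒳 𝒵 : AlgSt.Cat S} {M : AlgSp.Sp S} {π : 𝒳 ⥤ᵇ ofSp M} {g : 𝒵 ⥤ᵇ ofSp M} {V : Over S}
  (zV : overCat V ⥤ᵇ 𝒵)

/-- The object of the base under the tautological object. -/
noncomputable abbrev etaV : (ofSp M).obj := g.obj (zV.obj (Over.mk (𝟙 V)))

theorem etaV_base : (ofSp M).p.obj (etaV (g := g) zV) = V := (g.w_obj _).trans (zV.w_obj _)

/-- The map to the affine scheme. -/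
noncomputable def toV (o : (fibCat π (etaV (g := g) zV)).obj) : 𝒳.p.obj o.left ⟶ V :=
  baseOver π o.left o.hom ≫ eqToHom (etaV_base zV)

theorem toV_map {o' o : (fibCat π (etaV (g := g) zV)).obj} (k : o' ⟶ o) :
    𝒳.p.map k.left ≫ toV zV o = toV zV o' := by
  rw [toV, toV, ← Category.assoc, StMod.map_comp_baseOver, CostructuredArrow.w k]

theorem isHomLift_hom (o : (fibCat π (etaV (g := g) zV)).obj) :
    (ofSp M).p.IsHomLift (toV zV o) o.hom :=
  IsHomLift.of_fac _ _ _ (π.w_obj o.left) (etaV_base zV) (by simp [toV, StMod.baseOver])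

/-- The first component. -/
noncomputable abbrev fstAt (o : (fibCat π (etaV (g := g) zV)).obj) : 𝒵.obj :=
  zV.obj (Over.mk (toV zV o))

theorem fstAt_obj (o : (fibCat π (etaV (g := g) zV)).obj) : 𝒵.p.obj (fstAt zV o) = 𝒳.p.obj o.left :=
  zV.w_obj _

theorem exists_iso (o : (fibCat π (etaV (g := g) zV)).obj) :
    ∃ e : g.obj (fstAt zV o) ≅ π.obj o.left, (ofSp M).p.IsHomLift (𝟙 (𝒵.p.obj (fstAt zV o))) e.hom := by
  have h1 : (ofSp M).p.IsHomLift (toV zV o) (g.map (zV.map (Yoneda.toId (Over.mk (toV zV o))))) := by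
    haveI : 𝒵.p.IsHomLift (toV zV o) (zV.map (Yoneda.toId (Over.mk (toV zV o)))) := Yoneda.map_toId_isHomLift zV (Over.mk (toV zV o))
    exact BasedFunctor.preserves_isHomLift g _ _
  have h2 := isHomLift_hom zV o
  have hM : IsFibGrpd (ofSp M).p := Stk.isFibGrpd_ofPsh M.obj
  haveI := Yoneda.stronglyCartesian hM (toV zV o) o.hom
  let θ := Functor.IsStronglyCartesian.map (ofSp M).p (toV zV o) o.hom (g := 𝟙 _)
    (Category.id_comp (toV zV o)).symm (g.map (zV.map (Yoneda.toId (Over.mk (toV zV o)))))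
  haveI : IsIso θ := BasedBasic.isIso_of_isHomLift_id hM (R := 𝒳.p.obj o.left) θ
  refine ⟨asIso θ, ?_⟩
  rw [fstAt_obj]
  show (ofSp M).p.IsHomLift (𝟙 (𝒳.p.obj o.left)) θ
  exact Functor.IsStronglyCartesian.map_isHomLift _ _ _ _ _

/-- The object of the fibre product attached to an object over the affine scheme. -/
noncomputable def pObj (o : (fibCat π (etaV (g := g) zV)).obj) : (fp g π).obj :=
  ⟨{ fst := fstAt zV o, snd := o.left, iso := (exists_iso zV o).choose }, (exists_iso zV o).choose_spec⟩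

theorem pObj_base (o : (fibCat π (etaV (g := g) zV)).obj) : (fp g π).p.obj (pObj zV o) = 𝒳.p.obj o.left :=
  fstAt_obj zV o

/-- A morphism of the fibre product from its components over one morphism. -/
theorem exists_fp_hom {P P' : (fp g π).obj} {R R' : Over S} (b : R ⟶ R') (hR : (fp g π).p.obj P = R)
    (hR' : (fp g π).p.obj P' = R') (m : P.obj.fst ⟶ P'.obj.fst) [𝒵.p.IsHomLift b m] (n : P.obj.snd ⟶ P'.obj.snd)
    [𝒳.p.IsHomLift b n] : ∃ f : P ⟶ P', (fp g π).p.IsHomLift b f := by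
  haveI := BasedFunctor.preserves_isHomLift g b m
  haveI := BasedFunctor.preserves_isHomLift π b n
  haveI : (ofSp M).p.IsHomLift (𝟙 R) P.obj.iso.hom := hR ▸ P.property
  haveI : (ofSp M).p.IsHomLift (𝟙 R') P'.obj.iso.hom := hR' ▸ P'.property
  haveI : (ofSp M).p.IsHomLift b (g.map m ≫ P'.obj.iso.hom) := by
    simpa using (inferInstance : (ofSp M).p.IsHomLift (b ≫ 𝟙 R') (g.map m ≫ P'.obj.iso.hom))
  haveI : (ofSp M).p.IsHomLift b (P.obj.iso.hom ≫ π.map n) := by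
    simpa using (inferInstance : (ofSp M).p.IsHomLift (𝟙 R ≫ b) (P.obj.iso.hom ≫ π.map n))
  refine ⟨ObjectProperty.homMk ⟨m, n, sp_eq_of_lift b _ _⟩, ?_⟩
  have : 𝒵.p.IsHomLift b m := inferInstance
  exact IsHomLift.of_fac _ _ _ hR hR' (IsHomLift.fac 𝒵.p b m)

theorem exists_pMap {o' o : (fibCat π (etaV (g := g) zV)).obj} (k : o' ⟶ o) :
    ∃ f : pObj zV o' ⟶ pObj zV o, (fp g π).p.IsHomLift (𝒳.p.map k.left) f := by
  let m : Over.mk (toV zV o') ⟶ Over.mk (toV zV o) := Over.homMk (𝒳.p.map k.left) (toV_map zV k)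
  haveI : 𝒵.p.IsHomLift (𝒳.p.map k.left) (zV.map m) := Yoneda.map_isHomLift zV m
  haveI : 𝒳.p.IsHomLift (𝒳.p.map k.left) k.left := IsHomLift.map 𝒳.p _
  exact exists_fp_hom (𝒳.p.map k.left) (pObj_base zV o') (pObj_base zV o) (P := pObj zV o') (P' := pObj zV o)
    (zV.map m) k.left

variable (hF : IsFibGrpd (fp g π).p)

/-- The point of the fibre product at a point of an object over the affine scheme. -/
noncomputable def ptAt (o : (fibCat π (etaV (g := g) zV)).obj) (u : sch 𝒳 o.left) : AlgSt.Points (fp g π) :=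
  AlgSt.Points.ofChart (objFun hF (pObj zV o)) ((eqToHom (pObj_base zV o).symm).left u)

theorem bmap_of_lift {𝒲 : AlgSt.Cat S} {a b : 𝒲.obj} {R R' : Over S} (h : R ⟶ R') (f : a ⟶ b) [𝒲.p.IsHomLift h f]
    (u : R.left) : bmap 𝒲 f ((eqToHom (IsHomLift.domain_eq 𝒲.p h f).symm).left u) =
      (eqToHom (IsHomLift.codomain_eq 𝒲.p h f).symm).left (h.left u) := by
  refine ((left_apply _ (𝒲.p.map f) u).trans ?_).trans (left_apply h _ u).symm
  refine congrArg (fun k : R ⟶ 𝒲.p.obj b => k.left u) ?_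
  rw [IsHomLift.fac' 𝒲.p h f]
  simp

theorem ptAt_map {o' o : (fibCat π (etaV (g := g) zV)).obj} (k : o' ⟶ o) (u : sch 𝒳 o'.left) :
    ptAt zV hF o' u = ptAt zV hF o (bmap 𝒳 k.left u) := by
  obtain ⟨f, hf⟩ := exists_pMap zV k
  refine (ofChart_objFun_eq hF f _).trans (congrArg _ ?_)
  exact bmap_of_lift (𝒳.p.map k.left) f u

theorem map_fst_ptAt (hZ : IsFibGrpd 𝒵.p) (o : (fibCat π (etaV (g := g) zV)).obj) (u : sch 𝒳 o.left) :
    AlgSt.Points.map (fpFst g π) (ptAt zV hF o u) = AlgSt.Points.ofChart zV ((toV zV o).left u) := by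
  let w := BasedFunctor.comp (objFun hF (pObj zV o)) (fpFst g π)
  obtain ⟨e, he⟩ := Yoneda.exists_fromObj_iso hF (rfl : (fp g π).p.obj (pObj zV o) = (fp g π).p.obj (pObj zV o))
  haveI := he
  haveI := BasedFunctor.preserves_isHomLift (fpFst g π) (𝟙 ((fp g π).p.obj (pObj zV o))) e.hom
  let b : (fp g π).p.obj (pObj zV o) ⟶ V := eqToHom (pObj_base zV o) ≫ toV zV o
  haveI : 𝒵.p.IsHomLift b (zV.map (Yoneda.toId (Over.mk (toV zV o)))) := by
    have h' : 𝒵.p.IsHomLift (toV zV o) (zV.map (Yoneda.toId (Over.mk (toV zV o)))) := Yoneda.map_toId_isHomLift zV (Over.mk (toV zV o))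
    exact IsHomLift.of_fac _ _ _ rfl (zV.w_obj _) (by
      rw [IsHomLift.fac' 𝒵.p (toV zV o) (zV.map (Yoneda.toId (Over.mk (toV zV o))))]
      simp [b])
  haveI : 𝒵.p.IsHomLift b ((fpFst g π).map e.hom ≫ zV.map (Yoneda.toId (Over.mk (toV zV o)))) := by
    simpa using (inferInstance : 𝒵.p.IsHomLift (𝟙 _ ≫ b)
      ((fpFst g π).map e.hom ≫ zV.map (Yoneda.toId (Over.mk (toV zV o)))))
  rw [ptAt, Chart.Points.map_ofChart]
  refine (ofChart_eq_of_hom hZ w zV b ((fpFst g π).map e.hom ≫ zV.map (Yoneda.toId (Over.mk (toV zV o)))) _).trans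
    (congrArg _ ?_)
  rw [← Scheme.Hom.comp_apply, ← Over.comp_left]
  refine congrArg (fun k : 𝒳.p.obj o.left ⟶ V => k.left u) ?_
  simp [b]

variable [IsAffine V.left]

/-- A point of the fibre product over the affine scheme lies on an object over it. -/
theorem exists_ptAt_eq (hX : IsFibGrpd 𝒳.p) (hZ : IsFibGrpd 𝒵.p) (c : AlgSt.Points (fp g π)) (v : V.left)
    (h : AlgSt.Points.ofChart zV v = AlgSt.Points.map (fpFst g π) c) :
    ∃ (o : (fibCat π (etaV (g := g) zV)).obj) (_ : IsAffine (sch 𝒳 o.left)) (u : sch 𝒳 o.left),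
      (toV zV o).left u = v ∧ ptAt zV hF o u = c := by
  obtain ⟨W₀, cc, u₀, rfl⟩ := Chart.Points.exists_ofChart_eq hF c
  rw [Chart.Points.map_ofChart] at h
  obtain ⟨W, a, b, w, ha, hb, ⟨ε⟩⟩ := Chart.Points.exists_of_ofChart_eq hZ h
  obtain ⟨O, hO, hwO, -⟩ := exists_isAffineOpen_mem_and_subset (X := W.left) (x := w) (U := ⊤) trivial
  haveI : IsAffine O.toScheme := hO
  let W₁ : Over S := Over.mk (O.ι ≫ W.hom)
  let ι : W₁ ⟶ W := Over.homMk O.ι
  let P₁ := cc.obj (Over.mk (ι ≫ b))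
  have hP₁ : (fp g π).p.obj P₁ = W₁ := cc.w_obj _
  have hs : 𝒳.p.obj P₁.obj.snd = W₁ := ((fpSnd g π).w_obj P₁).trans hP₁
  let e₂ := (BasedBasic.appIso ε (Over.mk ι)).hom
  haveI h2 : 𝒵.p.IsHomLift (𝟙 W₁) e₂ := BasedBasic.appIso_isHomLift ε (Over.mk ι)
  haveI : IsIso e₂ := inferInstance
  haveI : 𝒵.p.IsHomLift (𝟙 W₁) (inv e₂) := inferInstance
  haveI := BasedFunctor.preserves_isHomLift g (𝟙 W₁) (inv e₂)
  have h3 : 𝒵.p.IsHomLift (ι ≫ a) (zV.map (Yoneda.toId (Over.mk (ι ≫ a)))) := Yoneda.map_toId_isHomLift zV (Over.mk (ι ≫ a))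
  haveI := h3
  haveI := BasedFunctor.preserves_isHomLift g (ι ≫ a) (zV.map (Yoneda.toId (Over.mk (ι ≫ a))))
  haveI : (ofSp M).p.IsHomLift (𝟙 W₁) P₁.obj.iso.hom := hP₁ ▸ P₁.property
  haveI : (ofSp M).p.IsHomLift (𝟙 W₁) P₁.obj.iso.inv := inferInstance
  let α : π.obj P₁.obj.snd ⟶ etaV (g := g) zV :=
    P₁.obj.iso.inv ≫ g.map (inv e₂) ≫ g.map (zV.map (Yoneda.toId (Over.mk (ι ≫ a))))
  haveI hα : (ofSp M).p.IsHomLift (ι ≫ a) α := by
    simpa using (inferInstance : (ofSp M).p.IsHomLift (𝟙 W₁ ≫ 𝟙 W₁ ≫ ι ≫ a) α)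
  let o : (fibCat π (etaV (g := g) zV)).obj := CostructuredArrow.mk α
  have hto : toV zV o = eqToHom hs ≫ ι ≫ a := by
    show baseOver π P₁.obj.snd α ≫ eqToHom _ = _
    rw [StMod.baseOver, IsHomLift.fac' (ofSp M).p (ι ≫ a) α]
    simp
  haveI : IsAffine W₁.left := ‹IsAffine O.toScheme›
  refine ⟨o, ?_, (eqToHom hs.symm).left ⟨w, hwO⟩, ?_, ?_⟩
  · show IsAffine (𝒳.p.obj P₁.obj.snd).left
    rw [hs]
    infer_instance
  · refine ((left_apply _ (toV zV o) _).trans (congrArg (fun k : W₁ ⟶ V => k.left _) ?_)).trans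
      ((left_apply ι a ⟨w, hwO⟩).symm.trans ha)
    rw [hto, ← Category.assoc, eqToHom_trans, eqToHom_refl, Category.id_comp]
  · let m : Over.mk (toV zV o) ⟶ Over.mk (ι ≫ a) := Over.homMk (eqToHom hs) hto.symm
    haveI : 𝒵.p.IsHomLift (eqToHom hs) (zV.map m) := Yoneda.map_isHomLift zV m
    haveI : 𝒵.p.IsHomLift (eqToHom hs) (zV.map m ≫ e₂) := by
      simpa using (inferInstance : 𝒵.p.IsHomLift (eqToHom hs ≫ 𝟙 W₁) (zV.map m ≫ e₂))
    haveI : 𝒳.p.IsHomLift (eqToHom hs) (𝟙 P₁.obj.snd) :=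
      IsHomLift.of_fac _ _ _ rfl hs (by simp)
    obtain ⟨f, hf⟩ := exists_fp_hom (eqToHom hs) (pObj_base zV o) hP₁ (P := pObj zV o) (P' := P₁)
      (zV.map m ≫ e₂) (𝟙 P₁.obj.snd)
    refine (ofChart_objFun_eq hF f _).trans ?_
    obtain ⟨e, he⟩ := Yoneda.exists_fromObj_iso hF (rfl : (fp g π).p.obj P₁ = (fp g π).p.obj P₁)
    haveI := he
    haveI : (fp g π).p.IsHomLift (ι ≫ b) (cc.map (Yoneda.toId (Over.mk (ι ≫ b)))) := Yoneda.map_toId_isHomLift cc (Over.mk (ι ≫ b))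
    let b' : (fp g π).p.obj P₁ ⟶ W₀ := eqToHom hP₁ ≫ ι ≫ b
    haveI : (fp g π).p.IsHomLift b' (e.hom ≫ cc.map (Yoneda.toId (Over.mk (ι ≫ b)))) := by
      have h' : (fp g π).p.IsHomLift b' (cc.map (Yoneda.toId (Over.mk (ι ≫ b)))) :=
        IsHomLift.of_fac _ _ _ rfl (cc.w_obj _) (by
          rw [IsHomLift.fac' (fp g π).p (ι ≫ b) (cc.map (Yoneda.toId (Over.mk (ι ≫ b))))]
          simp [b'])
      haveI := h'
      simpa using (inferInstance : (fp g π).p.IsHomLift (𝟙 _ ≫ b') (e.hom ≫ cc.map (Yoneda.toId (Over.mk (ι ≫ b)))))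
    refine (ofChart_eq_of_hom hF (objFun hF P₁) cc b' (e.hom ≫ cc.map (Yoneda.toId (Over.mk (ι ≫ b)))) _).trans
      (congrArg _ ?_)
    refine Eq.trans ?_ hb
    refine (congrArg b'.left (bmap_of_lift (eqToHom hs) f _)).trans ?_
    simp only [left_apply]
    refine Eq.trans ?_ (left_apply ι b ⟨w, hwO⟩).symm
    exact congrArg (fun k : W₁ ⟶ W₀ => k.left ⟨w, hwO⟩) (by simp [b'])

end Fp

end Groth.Agent.H14.UB
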