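import Groth.Agent.H14.UB.AffComp
import Groth.Agent.H14.ModDesc.Equiv
import Groth.Agent.H14.GenFam.Alg
import Groth.Agent.H14.GenFam.Chart
import Groth.Prelude.Def_StMod6

/-!
Generating families pull back to generating families along affine morphisms.
-/

set_option autoImplicit false
set_option backward.isDefEq.respectTransparency false
set_option backward.isDefEq.respectTransparency.types false
set_option linter.style.haveILetI false

universe v u

open CategoryTheory CategoryTheory.Limits AlgebraicGeometry Opposite TopologicalSpace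
open StMod (sch bmap fibCat fibFst baseOver)
open Groth.Agent.Lib Groth.Agent.Lib.AlgStack
open Groth.Agent.H14.GenFam
open Groth.Agent.H14.ModDesc
open FibCat (IsFibGrpd)

namespace Groth.Agent.H14.UB.AffComp

variable {S : Scheme.{u}} {𝒲 𝒳 : AlgSt.Cat S} {f : 𝒲 ⥤ᵇ 𝒳}
  (hW : IsFibGrpd 𝒲.p) (hX : IsFibGrpd 𝒳.p) (hf : AlgSt.RepByAlgSpWith AlgSp.IsAffineMor f)

/-- The map to the final object over the image. -/
noncomputable def unitHom (w : 𝒲.obj) : w ⟶ (up hW hX hf (f.obj w)).left :=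
  (toUp hW hX hf (CostructuredArrow.mk (𝟙 (f.obj w)))).left

theorem unitHom_w (w : 𝒲.obj) : f.map (unitHom hW hX hf w) ≫ (up hW hX hf (f.obj w)).hom = 𝟙 _ :=
  CostructuredArrow.w (toUp hW hX hf (CostructuredArrow.mk (𝟙 (f.obj w))))

theorem bmap_unitHom (w : 𝒲.obj) :
    bmap 𝒲 (unitHom hW hX hf w) ≫ eps hW hX hf (f.obj w) = eqToHom (StMod.sch_obj_eq f w).symm := by
  have h : 𝒲.p.map (unitHom hW hX hf w) ≫ base hW hX hf (f.obj w) = eqToHom (f.w_obj w).symm := by
    rw [base, StMod.map_comp_baseOver, unitHom_w]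
    simp [baseOver]
  exact (congrArg CommaMorphism.left h).trans (by simp [sch])

theorem unitHom_natural {w' w : 𝒲.obj} (k : w' ⟶ w) :
    k ≫ unitHom hW hX hf w = unitHom hW hX hf w' ≫ upMap hW hX hf (f.map k) :=
  left_up hW hX hf _ _ (by
    rw [f.toFunctor.map_comp, f.toFunctor.map_comp, Category.assoc, Category.assoc, upMap_w, unitHom_w,
      reassoc_of% (unitHom_w hW hX hf w')]
    simp)

theorem upMap_hom_unit (x : 𝒳.obj) :
    unitHom hW hX hf (up hW hX hf x).left ≫ upMap hW hX hf (up hW hX hf x).hom = 𝟙 _ :=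
  left_up hW hX hf _ _ (by
    rw [f.toFunctor.map_comp, Category.assoc, upMap_w, reassoc_of% (unitHom_w hW hX hf (up hW hX hf x).left)]
    simp)

section Adjunct

variable {E : StMod.QCoh 𝒳} {F : StMod.QCoh 𝒲} (φ : E.obj ⟶ (pushQ hW hX hf F).obj)

/-- The value of the adjoint morphism. -/
noncomputable def adjVal (w : 𝒲.obj) : Γ(E.obj.obj (f.obj w), ⊤) →+ Γ(F.obj.obj w, ⊤) :=
  (mapHom F.obj (unitHom hW hX hf w)).comp
    (show Γ(E.obj.obj (f.obj w), ⊤) →+ Γ(F.obj.obj (up hW hX hf (f.obj w)).left, ⊤) from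
      ((φ.app (f.obj w)).app ⊤).hom)

set_option maxHeartbeats 1600000 in
theorem adjVal_smul (w : 𝒲.obj) (r : Γ(sch 𝒳 (f.obj w), ⊤)) (y : Γ(E.obj.obj (f.obj w), ⊤)) :
    adjVal hW hX hf φ w (r • y) =
      (eqToHom (StMod.sch_obj_eq f w).symm).appTop.hom r • adjVal hW hX hf φ w y := by
  show F.obj.mapTop _ ((φ.app (f.obj w)).app ⊤ (r • y)) = _
  rw [Scheme.Modules.Hom.app_smul]
  refine (StMod.Mod.mapTop_smul F.obj (unitHom hW hX hf w) ((eps hW hX hf (f.obj w)).app ⊤ r) _).trans ?_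
  refine congrArg (· • F.obj.mapTop (unitHom hW hX hf w) ((φ.app (f.obj w)).app ⊤ y)) ?_
  rw [← bmap_unitHom hW hX hf w, appTop_comp_hom]
  rfl

theorem adjVal_natural {w' w : 𝒲.obj} (k : w' ⟶ w) (y : Γ(E.obj.obj (f.obj w), ⊤)) :
    F.obj.mapTop k (adjVal hW hX hf φ w y) = adjVal hW hX hf φ w' (E.obj.mapTop (f.map k) y) := by
  show F.obj.mapTop k (F.obj.mapTop (unitHom hW hX hf w) _) = F.obj.mapTop (unitHom hW hX hf w') _
  rw [← StMod.Mod.mapTop_comp, unitHom_natural, StMod.Mod.mapTop_comp]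
  refine congrArg (F.obj.mapTop (unitHom hW hX hf w')) ((mapTop_push hW hX hf F (f.map k) _).symm.trans ?_)
  exact StMod.Mod.mapTop_app φ (f.map k) y

end Adjunct

set_option maxHeartbeats 800000 in
/-- The adjoint of a morphism to a direct image. -/
theorem exists_adjunct {E : StMod.QCoh 𝒳} {F : StMod.QCoh 𝒲} (φ : E.obj ⟶ (pushQ hW hX hf F).obj) :
    ∃ ψ : ((StMod.comapQ f).obj E).obj ⟶ F.obj, ∀ (w : 𝒲.obj), IsAffine (sch 𝒲 w) → ∀ y : Γ(E.obj.obj (f.obj w), ⊤),
      (ψ.app w).app ⊤ (castTop (StMod.sch_obj_eq f w) _ y) =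
        F.obj.mapTop (unitHom hW hX hf w)
          (show Γ(F.obj.obj (up hW hX hf (f.obj w)).left, ⊤) from (φ.app (f.obj w)).app ⊤ y) := by
  let θ : ∀ w : 𝒲.obj, Γ(E.obj.obj (f.obj w), ⊤) ≃+ Γ(((StMod.comapQ f).obj E).obj.obj w, ⊤) := fun w =>
    AddEquiv.ofBijective (castTop (StMod.sch_obj_eq f w) _) (castTop_bijective _ _)
  let T := adjVal hW hX hf φ
  obtain ⟨ψ, hψ⟩ := GenFam.exists_hom_of_affine hW ((StMod.comapQ f).obj E) F (fun w _ =>
    { toFun := fun x => T w ((θ w).symm x)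
      map_add' := fun a b => by rw [map_add, map_add]
      map_smul' := fun r x => by
        obtain ⟨y, rfl⟩ := (θ w).surjective x
        obtain ⟨r', rfl⟩ := (bijective_appTop (eqToHom (StMod.sch_obj_eq f w).symm)).surjective r
        have e : (eqToHom (StMod.sch_obj_eq f w).symm).appTop.hom r' • θ w y = θ w (r' • y) :=
          (castTop_smul (StMod.sch_obj_eq f w) _ r' y).symm
        rw [e, AddEquiv.symm_apply_apply, AddEquiv.symm_apply_apply]
        exact adjVal_smul hW hX hf φ w r' y })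
    fun {w' w} _ _ k x => by
      obtain ⟨y, rfl⟩ := (θ w).surjective x
      show F.obj.mapTop k (T w ((θ w).symm (θ w y))) =
        T w' ((θ w').symm ((StMod.Mod.comap f E.obj).mapTop k (castTop (StMod.sch_obj_eq f w) _ y)))
      rw [mapTop_comap]
      show _ = T w' ((θ w').symm (θ w' _))
      rw [AddEquiv.symm_apply_apply, AddEquiv.symm_apply_apply]
      exact adjVal_natural hW hX hf φ k y
  refine ⟨ψ, fun w hw y => (hψ w hw _).trans ?_⟩
  show T w ((θ w).symm (θ w y)) = _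
  rw [AddEquiv.symm_apply_apply]
  rfl

include hW hX hf in
/-- Separating families pull back to separating families along affine morphisms. -/
theorem isGenFam_comap {ι : Type v} (E : ι → StMod.QCoh 𝒳) (h : StMod.IsGenFam E) :
    StMod.IsGenFam (fun i => (StMod.comapQ f).obj (E i)) := by
  rw [StMod.isGenFam_iff] at h ⊢
  intro M N u hu
  obtain ⟨v, hv⟩ := exists_pushMap hW hX hf u
  have hv0 : v = 0 := h v fun i φ => ModDesc.hom_ext_affine hX (pushQ hW hX hf N).property fun o ho s => by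
    haveI := ho
    show (v.hom.app o).app ⊤ ((φ.app o).app ⊤ s) = 0
    refine (hv o ho _).trans ?_
    let w := (up hW hX hf o).left
    haveI : IsAffine (sch 𝒲 w) := isAffine_up hW hX hf o ho
    obtain ⟨ψ, hψ⟩ := exists_adjunct hW hX hf φ
    let y := (E i).obj.mapTop (up hW hX hf o).hom s
    have h1 := hψ w inferInstance y
    have h2 : (ψ.app w).app ⊤ (castTop (StMod.sch_obj_eq f w) _ y) =
        (show Γ(M.obj.obj w, ⊤) from (φ.app o).app ⊤ s) := by
      refine h1.trans ?_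
      have h3 : (pushQ hW hX hf M).obj.mapTop (up hW hX hf o).hom ((φ.app o).app ⊤ s) = (φ.app (f.obj w)).app ⊤ y :=
        StMod.Mod.mapTop_app φ _ s
      rw [mapTop_push] at h3
      refine (congrArg (M.obj.mapTop (unitHom hW hX hf w)) h3.symm).trans ?_
      refine (StMod.Mod.mapTop_comp M.obj _ _ _).symm.trans ?_
      rw [upMap_hom_unit]
      exact StMod.Mod.mapTop_id M.obj _ _
    refine (congrArg ((u.hom.app w).app ⊤) h2).symm.trans ?_
    exact congrArg (fun q => (q.app w).app ⊤ (castTop (StMod.sch_obj_eq f w) _ y)) (hu i ψ)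
  refine InducedCategory.hom_ext (ModDesc.hom_ext_affine hW N.property fun w hw s => ?_)
  haveI := hw
  have ho : IsAffine (sch 𝒳 (f.obj w)) := by
    rw [StMod.sch_obj_eq f w]
    exact hw
  haveI := isAffine_up hW hX hf (f.obj w) ho
  show (u.hom.app w).app ⊤ s = 0
  refine GenFam.bc_induction (GenFam.isBC_mapHom M (unitHom hW hX hf w)) (P := fun z => (u.hom.app w).app ⊤ z = 0)
    (map_zero _) (fun a b ha hb => by rw [map_add, ha, hb, add_zero]) (fun r m => ?_) s
  rw [Scheme.Modules.Hom.app_smul]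
  show r • (u.hom.app w).app ⊤ (M.obj.mapTop (unitHom hW hX hf w) m) = 0
  rw [← StMod.Mod.mapTop_app]
  have hm : (u.hom.app (up hW hX hf (f.obj w)).left).app ⊤ m = 0 :=
    (hv (f.obj w) ho m).symm.trans (by rw [hv0]; rfl)
  rw [hm]
  exact (congrArg (r • ·) (N.obj.mapTop_zero _)).trans (smul_zero r)

end Groth.Agent.H14.UB.AffComp
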