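import Groth.Agent.H14.UB.ToQ
import Groth.Agent.H14.UB.Sep
import Groth.Agent.H14.GerbeDesc.LocFree
import Groth.Agent.H14.GerbeDesc.Stack
import Groth.Agent.H81.ResEmbed.FiniteSub
import Groth.Agent.Lib.QCoh.Closure
import Groth.Agent.Lib.TensorMod.LocFree
import Groth.Agent.Lib.ResDescend36.Family

/-!
A separating family of locally free modules on the category over a scheme gives the resolution property.
-/

set_option autoImplicit false
set_option backward.isDefEq.respectTransparency false
set_option backward.isDefEq.respectTransparency.types false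
set_option linter.style.haveILetI false

universe v u

open CategoryTheory CategoryTheory.Limits AlgebraicGeometry Opposite TopologicalSpace
open StMod (sch bmap)
open FibCat (overCat)
open Groth.Agent.Lib Groth.Agent.Lib.Modules.StalkModule

namespace Groth.Agent.H14.UB.Resolution

variable {S : Scheme.{u}} {X : Over S}

theorem toMap_comm {M N : X.left.Modules} (q : M ⟶ N) {g' g : (overCat X).obj} (φ : g' ⟶ g)
    {k : sch (overCat X) g' ⟶ sch (overCat X) g} (hk : bmap (overCat X) φ = k) :
    ToQ.pbMap M (ToQ.overCat_w φ hk) ≫ (Scheme.Modules.pushforward k).map ((Scheme.Modules.pullback g'.hom.left).map q) =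
      (Scheme.Modules.pullback g.hom.left).map q ≫ ToQ.pbMap N (ToQ.overCat_w φ hk) := by
  rw [ToQ.pbMap, ToQ.pbMap, ← Adjunction.homEquiv_naturality_right, ← Adjunction.homEquiv_naturality_left]
  refine congrArg _ ?_
  exact (((Scheme.Modules.pullbackComp k g.hom.left) ≪≫ Scheme.Modules.pullbackCongr (ToQ.overCat_w φ hk)).hom.naturality q).symm

/-- The morphism attached to a morphism of modules on the scheme. -/
noncomputable def toMap {M N : X.left.Modules} (hM : Coh.IsQCoh M) (hN : Coh.IsQCoh N) (q : M ⟶ N) :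
    ToQ.toQ M hM ⟶ ToQ.toQ N hN :=
  ObjectProperty.homMk
    { app := fun g => (Scheme.Modules.pullback g.hom.left).map q
      comm := fun {g' g} φ k hk => toMap_comm q φ hk }

/-- Morphisms out of a quasi-coherent module are detected at the top object. -/
theorem eq_zero_of_top {F : StMod.QCoh (overCat X)} {G : StMod.Mod (overCat X)} (u : F.obj ⟶ G)
    (h : u.app (Over.mk (𝟙 X)) = 0) : u = 0 := by
  refine StMod.Mod.hom_ext fun g => ?_
  let φ : g ⟶ Over.mk (𝟙 X) := Over.homMk g.hom (Category.comp_id _)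
  let adj := Scheme.Modules.pullbackPushforwardAdjunction (bmap (overCat X) φ)
  have hc := F.property.1 φ (g := bmap (overCat X) φ) rfl
  have hz : F.obj.map φ rfl ≫ (Scheme.Modules.pushforward (bmap (overCat X) φ)).map (u.app g) = 0 := by
    rw [u.comm φ rfl, h, zero_comp]
  have h2 : (adj.homEquiv _ _).symm (F.obj.map φ rfl) ≫ u.app g = 0 := by
    rw [← Adjunction.homEquiv_naturality_right_symm, hz, Adjunction.homEquiv_counit]
    rw [Functor.map_zero, zero_comp]
  haveI : IsIso ((adj.homEquiv _ _).symm (F.obj.map φ rfl)) := hc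
  show u.app g = 0
  exact (cancel_epi ((adj.homEquiv _ _).symm (F.obj.map φ rfl))).1 (h2.trans comp_zero.symm)

theorem isFinLocFree_castMod {A B : Scheme.{u}} (h : A = B) (M : A.Modules) (hM : FlatMod.IsFinLocFree M) :
    FlatMod.IsFinLocFree (StMod.castMod h M) := by
  subst h
  exact hM

set_option maxHeartbeats 800000 in
/-- A separating family of locally free modules of finite type resolves every module of finite type. -/
theorem exists_resolution [CompactSpace X.left] {ι : Type v} (E : ι → StMod.QCoh (overCat X))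
    (hE : ∀ i, FlatMod.IsFinLocFree ((E i).obj.obj (Over.mk (𝟙 X)))) (h : StMod.IsGenFam E)
    (M : X.left.Modules) (hM : Coh.IsQCoh M) (hMft : CohB1.IsFT M) :
    ∃ (E₀ : X.left.Modules) (π : E₀ ⟶ M), FlatMod.IsFinLocFree E₀ ∧ Epi π := by
  classical
  rw [StMod.isGenFam_iff] at h
  let j : (Scheme.Modules.pullback (𝟙 X.left)).obj M ≅ M := (Scheme.Modules.pullbackId (X := X.left)).app M
  let top : (overCat X).obj := Over.mk (𝟙 X)
  let R : Set (Σ x : X.left, M.presheaf.stalk x) :=
    { p | ∃ (i : ι) (φ : (E i).obj.obj top ⟶ M), p.2 ∈ LinearMap.range (stalkMapₗ φ p.1) }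
  choose i φ hφ using fun p : R => p.2
  let P : R → X.left.Modules := fun p => (E (i p)).obj.obj top
  let π : (∐ P) ⟶ M := Sigma.desc φ
  haveI : ∀ p, (P p).IsQuasicoherent := fun p => (E (i p)).property.2 top
  haveI hsum : (∐ P).IsQuasicoherent := QCoh.Closure.isQCoh_colimit (Discrete.functor P) fun k => (E (i k.as)).property.2 top
  haveI : M.IsQuasicoherent := hM
  have hQ : Coh.IsQCoh (cokernel π) := QCoh.Closure.isQCoh_cokernel π
  let q : M ⟶ cokernel π := cokernel.π π
  have hkill : ∀ (i₀ : ι) (ψ : (E i₀).obj.obj top ⟶ M), ψ ≫ q = 0 := fun i₀ ψ => by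
    refine hom_ext_stalkMapₗ fun x => LinearMap.ext fun z => ?_
    let p : R := ⟨⟨x, stalkMapₗ ψ x z⟩, i₀, ψ, ⟨z, rfl⟩⟩
    obtain ⟨z', hz'⟩ := hφ p
    have hp : φ p = Sigma.ι P p ≫ π := (Sigma.ι_desc _ _).symm
    have e1 : stalkMapₗ (φ p ≫ q) x z' = stalkMapₗ (ψ ≫ q) x z := by
      rw [stalkMapₗ_comp, stalkMapₗ_comp, LinearMap.comp_apply, LinearMap.comp_apply]
      exact congrArg _ hz'
    rw [← e1, show φ p ≫ q = 0 by rw [hp, Category.assoc, cokernel.condition, comp_zero]]
    rw [stalkMapₗ_zero, stalkMapₗ_zero]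
    rfl
  have hu : toMap hM hQ q = 0 := h _ fun i₀ ψ => eq_zero_of_top _ (by
    show ψ.app top ≫ (Scheme.Modules.pullback (𝟙 X.left)).map q = 0
    have e := hkill i₀ (ψ.app top ≫ j.hom)
    have nat := (Scheme.Modules.pullbackId (X := X.left)).hom.naturality q
    rw [← cancel_mono ((Scheme.Modules.pullbackId (X := X.left)).hom.app (cokernel π)), Category.assoc, nat, zero_comp]
    exact (Category.assoc _ _ _).symm.trans e)
  have hq : q = 0 := by
    have e : (Scheme.Modules.pullback (𝟙 X.left)).map q = 0 :=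
      congrArg (fun w : ToQ.toQ M hM ⟶ ToQ.toQ _ hQ => w.hom.app top) hu
    have nat := (Scheme.Modules.pullbackId (X := X.left)).hom.naturality q
    rw [e, zero_comp] at nat
    exact (cancel_epi j.hom).1 (nat.symm.trans comp_zero.symm)
  haveI : Epi π := Abelian.epi_of_cokernel_π_eq_zero π hq
  obtain ⟨s, hs⟩ := H81.ResEmbed.FiniteSub.exists_finset_epi P π hMft
  have key : ∀ t : Finset R, ∃ (E' : X.left.Modules) (π' : E' ⟶ M), FlatMod.IsFinLocFree E' ∧
      ∀ p ∈ t, ∃ l : P p ⟶ E', l ≫ π' = Sigma.ι P p ≫ π := fun t => by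
    induction t using Finset.induction with
    | empty => exact ⟨FlatMod.freeMod X.left 0, 0,
        TensorMod.LocFree.of_rank (TensorMod.LocFree.isFinLocFree_freeMod X.left 0), by simp⟩
    | @insert a t ha ih =>
      obtain ⟨E', π', hE', hl⟩ := ih
      refine ⟨P a ⨿ E', coprod.desc (Sigma.ι P a ≫ π) π',
        TensorMod.LocFree.isFinLocFree_biprod (hE (i a)) hE', fun b hb => ?_⟩
      rcases Finset.mem_insert.1 hb with rfl | hb
      · exact ⟨coprod.inl, coprod.inl_desc _ _⟩
      · obtain ⟨l, hl⟩ := hl b hb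
        exact ⟨l ≫ coprod.inr, by rw [Category.assoc, coprod.inr_desc, hl]⟩
  obtain ⟨E', π', hE', hl⟩ := key s
  choose l hl using hl
  refine ⟨E', π', hE', ?_⟩
  have e : H81.ResEmbed.FiniteSub.sub P π s = (Sigma.desc fun e : {e // e ∈ s} => l e.1 e.2) ≫ π' := by
    refine Sigma.hom_ext _ _ fun e => ?_
    rw [H81.ResEmbed.FiniteSub.sub, Sigma.ι_desc_assoc, Sigma.ι_desc_assoc, hl]
  rw [e] at hs
  exact epi_of_epi (Sigma.desc fun e : {e // e ∈ s} => l e.1 e.2) π'

end Groth.Agent.H14.UB.Resolution
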