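import Groth.Agent.H14.UB.Closed

/-!
Disjoint closed sets are separated by functions on the good moduli space.
-/

set_option autoImplicit false
set_option backward.isDefEq.respectTransparency false
set_option backward.isDefEq.respectTransparency.types false
set_option linter.style.haveILetI false

universe u

open CategoryTheory CategoryTheory.Limits AlgebraicGeometry Opposite TensorProduct
open StMod (sch bmap fibCat baseOver)
open Groth.Agent.Lib Groth.Agent.Lib.AlgStack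
open Groth.Agent.H14.ModDesc
open FibCat (IsFibGrpd fp fpFst fpSnd overCat)
open AlgSt (IsAlgStack ofSp ofSpMap overMap)
open Groth.Agent.H14.CohBC (CompactPullbacks lifts_affine Lifts)
open Groth.Agent.H14.GenFam (FlatFun isFibGrpd_fibCat exists_chart2_at Chart Chart2 bc_induction bc_extend)
open Groth.Agent.H14.MultiExt (MChart FlatHom)

namespace Groth.Agent.H14.UB

variable {S : Scheme.{u}}

section Quot

variable {𝒵 : AlgSt.Cat S}

/-- A system of ideals compatible with flat base change. -/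
structure ISys (𝒵 : AlgSt.Cat S) where
  /-- the ideals -/
  J : ∀ o : 𝒵.obj, Ideal Γ(sch 𝒵 o, ⊤)
  res : ∀ {o' o : 𝒵.obj} (e : o' ⟶ o), (J o).map (bmap 𝒵 e).appTop.hom ≤ J o'
  flat : ∀ {o' o : 𝒵.obj} [IsAffine (sch 𝒵 o')] [IsAffine (sch 𝒵 o)] (e : o' ⟶ o),
    Flat (bmap 𝒵 e) → J o' = (J o).map (bmap 𝒵 e).appTop.hom

theorem ISys.isBC_quot (P : ISys 𝒵) {o' o : 𝒵.obj} [IsAffine (sch 𝒵 o')] [IsAffine (sch 𝒵 o)]
    (e : o' ⟶ o) (he : Flat (bmap 𝒵 e)) :
    IsBC (bmap 𝒵 e).appTop.hom (Ideal.quotientMap (P.J o') (bmap 𝒵 e).appTop.hom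
      (Ideal.map_le_iff_le_comap.1 (P.res e))).toAddMonoidHom := by
  let A := Γ(sch 𝒵 o, ⊤)
  let B := Γ(sch 𝒵 o', ⊤)
  let J := P.J o
  let J' := P.J o'
  letI : Algebra A B := (bmap 𝒵 e).appTop.hom.toAlgebra
  have hs : IsSL (algebraMap A B) (Ideal.quotientMap J' (bmap 𝒵 e).appTop.hom
      (Ideal.map_le_iff_le_comap.1 (P.res e))).toAddMonoidHom := fun a m => by
    obtain ⟨m, rfl⟩ := Ideal.Quotient.mk_surjective m
    exact congrArg (Ideal.Quotient.mk J') (map_mul (bmap 𝒵 e).appTop.hom a m)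
  refine (isBC_iff rfl).2 ⟨hs, ?_⟩
  refine ⟨fun x y hxy => ?_, fun y => ?_⟩
  · have key : ∀ z : B ⊗[A] (A ⧸ J), ∃ b : B, z = b ⊗ₜ[A] (1 : A ⧸ J) := fun z => by
      induction z with
      | zero => exact ⟨0, by rw [zero_tmul]⟩
      | tmul b a =>
        obtain ⟨a, rfl⟩ := Ideal.Quotient.mk_surjective a
        refine ⟨algebraMap A B a * b, ?_⟩
        rw [← Algebra.smul_def, smul_tmul, Algebra.smul_def, mul_one]
        rfl
      | add u v hu hv =>
        obtain ⟨u', rfl⟩ := hu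
        obtain ⟨v', rfl⟩ := hv
        exact ⟨u' + v', (add_tmul _ _ _).symm⟩
    obtain ⟨b, hb⟩ := key (x - y)
    rw [← sub_eq_zero, hb]
    have hb0 : b ∈ J' := by
      rw [← Ideal.Quotient.eq_zero_iff_mem]
      have := congrArg (bcMap A B _ hs) hb
      rw [map_sub, sub_eq_zero.2 hxy] at this
      refine Eq.trans ?_ this.symm
      rw [bcMap_tmul]
      show Ideal.Quotient.mk J' b = Ideal.Quotient.mk J' (b * (bmap 𝒵 e).appTop.hom 1)
      rw [map_one, mul_one]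
    rw [show J' = J.map (algebraMap A B) from P.flat e he] at hb0
    refine Submodule.span_induction (p := fun b _ => b ⊗ₜ[A] (1 : A ⧸ J) = 0) ?_ (zero_tmul _ _)
      (fun a b _ _ ha hb => by rw [add_tmul, ha, hb, add_zero]) (fun c b _ hb => ?_) hb0
    · rintro _ ⟨a, ha, rfl⟩
      rw [Algebra.algebraMap_eq_smul_one, smul_tmul, Algebra.smul_def, mul_one,
        show algebraMap A (A ⧸ J) a = 0 from Ideal.Quotient.eq_zero_iff_mem.2 ha, tmul_zero]
    · show (c • b) ⊗ₜ[A] (1 : A ⧸ J) = 0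
      rw [← smul_tmul', hb, smul_zero]
  · obtain ⟨b, rfl⟩ := Ideal.Quotient.mk_surjective y
    refine ⟨b ⊗ₜ (1 : A ⧸ J), ?_⟩
    rw [bcMap_tmul]
    show Ideal.Quotient.mk J' (b * (bmap 𝒵 e).appTop.hom 1) = Ideal.Quotient.mk J' b
    rw [map_one, mul_one]

/-- Functions modulo a system of ideals. -/
noncomputable def ISys.quot (P : ISys 𝒵) : FlatFun 𝒵 where
  obj o := Γ(sch 𝒵 o, ⊤) ⧸ P.J o
  res := fun {o' o} _ _ e => (Ideal.quotientMap (P.J o') (bmap 𝒵 e).appTop.hom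
    (Ideal.map_le_iff_le_comap.1 (P.res e))).toAddMonoidHom
  sl := fun {o' o} _ _ e a m => by
    obtain ⟨m, rfl⟩ := Ideal.Quotient.mk_surjective m
    exact congrArg (Ideal.Quotient.mk (P.J o')) (map_mul (bmap 𝒵 e).appTop.hom a m)
  res_id o _ s := by
    obtain ⟨s, rfl⟩ := Ideal.Quotient.mk_surjective s
    show Ideal.Quotient.mk _ ((bmap 𝒵 (𝟙 o)).appTop.hom s) = _
    rw [show (bmap 𝒵 (𝟙 o)) = 𝟙 _ from congrArg CommaMorphism.left (𝒵.p.map_id o)]
    rfl
  res_comp := fun {o'' o' o} _ _ _ e' e s => by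
    obtain ⟨s, rfl⟩ := Ideal.Quotient.mk_surjective s
    show Ideal.Quotient.mk _ ((bmap 𝒵 (e' ≫ e)).appTop.hom s) = _
    rw [appTop_bmap_comp]
    rfl
  bc := fun {_ _} _ _ e he => P.isBC_quot e he

variable {A : Type u} [CommRing A] {st : AStr 𝒵 A} {M : MChart 𝒵}

/-- A family of values modulo the ideals comes from the ring. -/
theorem exists_mod (hfib : FibCat.IsFibGrpd 𝒵.p) (hL : Lifts 𝒵) (hU : st.IsUnit' M) [Finite M.I] (P : ISys 𝒵)
    (v : ∀ o : 𝒵.obj, IsAffine (sch 𝒵 o) → M.Has o → Γ(sch 𝒵 o, ⊤))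
    (hv : ∀ {o' o : 𝒵.obj} (ho' : IsAffine (sch 𝒵 o')) (ho : IsAffine (sch 𝒵 o)) (e : o' ⟶ o) (h' : M.Has o')
      (h : M.Has o), (bmap 𝒵 e).appTop.hom (v o ho h) - v o' ho' h' ∈ P.J o') :
    ∃ f : A, ∀ (o : 𝒵.obj) (ho : IsAffine (sch 𝒵 o)) (h : M.Has o), st.hom o f - v o ho h ∈ P.J o := by
  classical
  have happ : ∀ o : 𝒵.obj, ∃ F : GenFam.Ext (st.hom o) A →ₗ[Γ(sch 𝒵 o, ⊤)] Γ(sch 𝒵 o, ⊤) ⧸ P.J o,
      ∀ y : A, F (GenFam.Ext.mk _ _ y) = Ideal.Quotient.mk (P.J o) (st.hom o y) := fun o =>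
    bc_extend (GenFam.isBC_mk (st.hom o) A) (AddMonoidHom.mk' (fun y : A => Ideal.Quotient.mk (P.J o) (st.hom o y))
      fun a b => by rw [map_add, map_add]) fun a y => by
        show Ideal.Quotient.mk (P.J o) (st.hom o (a * y)) = _
        rw [map_mul]
        rfl
  choose F hF using happ
  let η : FlatHom (st.tens A) P.quot :=
    { app := fun o _ => F o
      natural := fun {o' o} _ _ e z => by
        refine bc_induction (GenFam.isBC_mk (st.hom o) A)
          (P := fun z => F o' (st.res A e z) = P.quot.res e (F o z))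
          (by rw [map_zero, map_zero, map_zero, map_zero]) (fun a b ha hb => by
            rw [map_add, map_add, map_add, map_add, ha, hb]) (fun c y => ?_) z
        rw [st.res_sl A e, map_smul, map_smul, P.quot.sl e, st.res_mk, hF, hF]
        refine congrArg (_ • ·) ?_
        show _ = Ideal.Quotient.mk (P.J o') ((bmap 𝒵 e).appTop.hom (st.hom o y))
        exact congrArg (Ideal.Quotient.mk (P.J o')) (DFunLike.congr_fun (st.natural e) y).symm }
  have hsurj : ∀ i, Function.Surjective (η.app (M.x i)) := fun i y => by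
    obtain ⟨c, rfl⟩ := Ideal.Quotient.mk_surjective y
    refine ⟨c • GenFam.Ext.mk _ A 1, ?_⟩
    rw [map_smul]
    show c • F (M.x i) (GenFam.Ext.mk _ A 1) = _
    rw [hF, map_one]
    exact congrArg (Ideal.Quotient.mk (P.J (M.x i))) (mul_one c)
  let T : Fam M P.quot :=
    { val := fun o ho h => Ideal.Quotient.mk (P.J o) (v o ho h)
      compat := fun {o' o} ho' ho e h' h => Ideal.Quotient.eq.2 (hv ho' ho e h' h) }
  obtain ⟨t, ht⟩ := exists_lift hfib hL η hsurj T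
  obtain ⟨f, hf⟩ := AStr.exists_eq_mk (st := st) (C := M) hfib hL hU t
  refine ⟨f, fun o ho h => Ideal.Quotient.eq.1 ?_⟩
  have := ht o h
  rw [hf o h] at this
  exact (hF o f).symm.trans this

end Quot

theorem sep_alg {R : Type*} [CommRing R] {J₁ J₂ p : Ideal R} (hp : p.IsPrime) {x e e' : R}
    (hx : x - e ∈ J₁ * J₂) (he : e ∈ J₁) (he' : e' ∈ J₂) (hee : e + e' = 1) :
    (J₁ ≤ p → x ∈ p) ∧ (J₂ ≤ p → x ∉ p) := by
  have h1 : x - e ∈ J₁ := (Ideal.mul_le_left : J₁ * J₂ ≤ J₁) hx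
  have h2 : x - e ∈ J₂ := (Ideal.mul_le_right : J₁ * J₂ ≤ J₂) hx
  constructor
  · intro h
    have := p.add_mem (h h1) (h he)
    rwa [sub_add_cancel] at this
  · intro h hxp
    refine hp.ne_top ((Ideal.eq_top_iff_one p).2 ?_)
    have := p.add_mem (p.sub_mem hxp (h h2)) (h he')
    rwa [sub_sub_cancel, hee] at this

variable {𝒳 𝒵 : AlgSt.Cat S} {M : AlgSp.Space S} {π : 𝒳 ⥤ᵇ ofSp M.obj} {g : 𝒵 ⥤ᵇ ofSp M.obj}

variable (hfp : IsAlgStack Scheme.fppfPrecoverage (fp g π)) {V : Over S} (zV : overCat V ⥤ᵇ 𝒵)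

set_option maxHeartbeats 1600000 in
/-- The ideal at a chart of a closed set of the fibre product. -/
theorem exists_ideal_chart (hX : IsFibGrpd 𝒳.p) (C : Chart2 (fibCat π (etaV (g := g) zV)))
    {D : Set (AlgSt.Points (fp g π))} (hD : IsClosed D) :
    ∃ I : Ideal Γ(sch (fibCat π (etaV (g := g) zV)) C.x, ⊤),
      (∀ u : sch (fibCat π (etaV (g := g) zV)) C.x, ptAt zV hfp.isStack.1 C.x u ∈ D →
        idealAt C.toChart I C.x ≤ ptIdeal _ u) ∧
      ∀ u : sch (fibCat π (etaV (g := g) zV)) C.x, idealAt C.toChart I C.x ≤ ptIdeal _ u →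
        ptAt zV hfp.isStack.1 C.x u ∈ D := by
  have hF := hfp.isStack.1
  let η := etaV (g := g) zV
  let o : (fibCat π η).obj := C.x
  haveI : IsAffine (sch 𝒳 o.left) := C.affx
  have hfib := isFibGrpd_fibCat hX π η
  have hcl : IsClosed ((fun u => ptAt zV hF o u) ⁻¹' D) :=
    hD.preimage ((Chart.Points.continuous_ofChart hfp _).comp (eqToHom (pObj_base zV o).symm).left.continuous)
  obtain ⟨I, hI⟩ := exists_ideal_of_isClosed (sch 𝒳 o.left) hcl
  refine ⟨I, fun u hu r hr => (hI u).1 hu ?_, fun u hu => ?_⟩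
  · have := (mem_idealAt C.toChart I).1 hr o C.affx (𝟙 o) (𝟙 o)
    rw [show bmap (fibCat π η) (𝟙 o) = 𝟙 _ from congrArg CommaMorphism.left ((fibCat π η).p.map_id o),
      Scheme.Hom.id_appTop] at this
    erw [CommRingCat.hom_id, Ideal.map_id] at this
    exact this
  obtain ⟨T⟩ := exists_test C.toChart I hfib o C.affx
  haveI : ∀ l, IsAffine (sch 𝒳 (T.ξ l).left) := T.aff
  obtain ⟨l, hl⟩ := mem_closure_of_iInf_comap_le (fun l => (bmap (fibCat π η) (T.k l)).appTop.hom)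
    (fun l => I.map (bmap (fibCat π η) (T.m l)).appTop.hom) ((sch 𝒳 o.left).toSpecΓ u) (fun r hr => hu
      (T.enough r fun l => Submodule.mem_iInf (p := fun l => Ideal.comap (bmap (fibCat π η) (T.k l)).appTop.hom
        (I.map (bmap (fibCat π η) (T.m l)).appTop.hom)) |>.1 hr l))
  have hsub : PrimeSpectrum.comap (bmap (fibCat π η) (T.k l)).appTop.hom ''
      PrimeSpectrum.zeroLocus (I.map (bmap (fibCat π η) (T.m l)).appTop.hom) ⊆
      (sch 𝒳 o.left).toSpecΓ '' ((fun u => ptAt zV hF o u) ⁻¹' D) := by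
    rintro _ ⟨q, hq, rfl⟩
    obtain ⟨w, hw⟩ := exists_pt (sch 𝒳 (T.ξ l).left) q.asIdeal (hq := q.isPrime)
    refine ⟨bmap 𝒳 (T.k l).left w, ?_, PrimeSpectrum.ext ?_⟩
    · show ptAt zV hF o _ ∈ D
      rw [← ptAt_map zV hF (T.k l) w, ptAt_map zV hF (T.m l) w]
      refine (hI _).2 ?_
      rw [ptIdeal_map, hw]
      exact Ideal.map_le_iff_le_comap.1 hq
    · exact (ptIdeal_map (bmap 𝒳 (T.k l).left) w).trans (congrArg (Ideal.comap _) hw)
  have hclosed : IsClosed ((sch 𝒳 o.left).toSpecΓ '' ((fun u => ptAt zV hF o u) ⁻¹' D)) :=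
    (sch 𝒳 o.left).isoSpec.hom.homeomorph.isClosedMap _ hcl
  obtain ⟨u', hu', hue⟩ := hclosed.closure_subset_iff.2 hsub hl
  rwa [(sch 𝒳 o.left).isoSpec.hom.homeomorph.injective hue] at hu'

variable [IsAffine V.left]

theorem exists_key (hX : IsFibGrpd 𝒳.p) (hZ : IsFibGrpd 𝒵.p) (C : Chart2 (fibCat π (etaV (g := g) zV)))
    (f : Γ(sch (ofSp M.obj) (etaV (g := g) zV), ⊤)) (c : AlgSt.Points (fp g π)) (w : V.left)
    (hcw : AlgSt.Points.ofChart zV w = AlgSt.Points.map (fpFst g π) c) :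
    ∃ u : sch (fibCat π (etaV (g := g) zV)) C.x, ptAt zV hfp.isStack.1 C.x u = c ∧
      ((eqToHom (etaV_base (g := g) zV).symm).left.appTop.hom f ∈ ptIdeal V.left w ↔
        (astr π (etaV (g := g) zV)).hom C.x f ∈ ptIdeal _ u) := by
  have hF := hfp.isStack.1
  let η := etaV (g := g) zV
  let o : (fibCat π η).obj := C.x
  let E := eqToHom (etaV_base (g := g) zV).symm
  obtain ⟨o', ho', u', hu', hc⟩ := exists_ptAt_eq zV hF hX hZ c w hcw
  obtain ⟨n, D', hD'⟩ := C.cover o' ho'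
  obtain ⟨j, w', hw'⟩ := D'.surj u'
  obtain ⟨a⟩ := hD' j
  refine ⟨bmap 𝒳 a.left w', ?_, ?_⟩
  · rw [← ptAt_map zV hF a w', ptAt_map zV hF (D'.e j) w', show bmap 𝒳 (D'.e j).left w' = u' from hw', hc]
  · have hvv : (toV zV o).left (bmap 𝒳 a.left w') = w := by
      rw [← hu', ← hw']
      refine ((left_apply (𝒳.p.map a.left) (toV zV o) w').trans ?_).trans
        (left_apply (𝒳.p.map (D'.e j).left) (toV zV o') w').symm
      exact congrArg (fun k : 𝒳.p.obj (D'.E j).left ⟶ V => k.left w')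
        ((toV_map zV a).trans (toV_map zV (D'.e j)).symm)
    have hto : (baseOver π o.left o.hom).left (bmap 𝒳 a.left w') = E.left ((toV zV o).left (bmap 𝒳 a.left w')) := by
      rw [left_apply]
      exact congrArg (fun k : 𝒳.p.obj o.left ⟶ (ofSp M.obj).p.obj η => k.left (bmap 𝒳 a.left w'))
        (by simp [toV, E])
    have e1 := SetLike.ext_iff.1 (ptIdeal_map E.left w) f
    have e2 := SetLike.ext_iff.1 (ptIdeal_map (baseOver π o.left o.hom).left (bmap 𝒳 a.left w')) f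
    rw [hto, hvv] at e2
    exact (e1.symm.trans e2)

set_option maxHeartbeats 1600000 in
/-- Disjoint closed sets over an affine scheme are separated by a function. -/
theorem exists_sep (h𝒳 : IsAlgStack Scheme.fppfPrecoverage 𝒳) (hM : CompactPullbacks M.obj)
    (hqc : AlgSt.IsQuasiCompactMor Scheme.fppfPrecoverage π) (hqs : AlgSt.IsQuasiSeparatedMor π)
    (h : StMod.IsGoodModuli π) (h𝒵 : IsAlgStack Scheme.fppfPrecoverage 𝒵) {C₁ C₂ : Set (AlgSt.Points (fp g π))} (h₁ : IsClosed C₁) (h₂ : IsClosed C₂)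
    (hd : ∀ c ∈ C₁, c ∉ C₂) :
    ∃ f : Γ(V.left, ⊤), (∀ (c : AlgSt.Points (fp g π)) (v : V.left),
        AlgSt.Points.ofChart zV v = AlgSt.Points.map (fpFst g π) c → c ∈ C₁ → f ∈ ptIdeal V.left v) ∧
      ∀ (c : AlgSt.Points (fp g π)) (v : V.left),
        AlgSt.Points.ofChart zV v = AlgSt.Points.map (fpFst g π) c → c ∈ C₂ → f ∉ ptIdeal V.left v := by
  classical
  have hMs := IsAlg.isAlgStack_ofSp M
  have hX := h𝒳.isStack.1
  have hfp := Chart.Basic.isAlgStack_fp hMs h𝒵 h𝒳 g π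
  have hF := hfp.isStack.1
  let η := etaV (g := g) zV
  haveI hη : IsAffine (sch (ofSp M.obj) η) := by
    show IsAffine ((ofSp M.obj).p.obj η).left
    rw [etaV_base]
    infer_instance
  obtain ⟨C⟩ := exists_chart2_at π h𝒳 hMs hqc hqs η hη
  let o : (fibCat π η).obj := C.x
  haveI : IsAffine (sch (fibCat π η) o) := C.affx
  have hfib := isFibGrpd_fibCat hX π η
  obtain ⟨I₁, hI₁, hI₁'⟩ := exists_ideal_chart hfp zV hX C h₁
  obtain ⟨I₂, hI₂, hI₂'⟩ := exists_ideal_chart hfp zV hX C h₂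
  let J₁ := idealAt C.toChart I₁
  let J₂ := idealAt C.toChart I₂
  have hcop : J₁ o ⊔ J₂ o = ⊤ := by
    by_contra hne
    obtain ⟨m, hm, hle⟩ := Ideal.exists_le_maximal _ hne
    obtain ⟨u, hu⟩ := exists_pt (sch (fibCat π η) o) m (hq := hm.isPrime)
    exact hd _ (hI₁' u (hu ▸ le_sup_left.trans hle)) (hI₂' u (hu ▸ le_sup_right.trans hle))
  obtain ⟨e, he, e', he', hee⟩ := Submodule.mem_sup.1 (show (1 : Γ(sch (fibCat π η) o, ⊤)) ∈ J₁ o ⊔ J₂ o by
    rw [hcop]; trivial)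
  let P : ISys (fibCat π η) :=
    { J := fun o => J₁ o * J₂ o
      res := fun k => by
        rw [Ideal.map_mul]
        exact Ideal.mul_mono (idealAt_res C.toChart I₁ k) (idealAt_res C.toChart I₂ k)
      flat := fun k hk => by
        rw [Ideal.map_mul, ← idealAt_flat C.toChart I₁ hfib k hk, ← idealAt_flat C.toChart I₂ hfib k hk] }
  have hmem : ∀ {d : (fibCat π η).obj} (a : d ⟶ o),
      (bmap (fibCat π η) a).appTop.hom e ∈ J₁ d ∧ 1 - (bmap (fibCat π η) a).appTop.hom e ∈ J₂ d := fun {d} a => by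
    refine ⟨idealAt_res C.toChart I₁ a (Ideal.mem_map_of_mem _ he), ?_⟩
    have h2 := idealAt_res C.toChart I₂ a (Ideal.mem_map_of_mem _ he')
    rwa [show e' = 1 - e from eq_sub_of_add_eq' hee, map_sub, map_one] at h2
  have hdiff : ∀ {d : (fibCat π η).obj} (a b : d ⟶ o),
      (bmap (fibCat π η) a).appTop.hom e - (bmap (fibCat π η) b).appTop.hom e ∈ P.J d := fun {d} a b => by
    show _ ∈ J₁ d * J₂ d
    rw [Ideal.mul_eq_inf_of_coprime (Ideal.eq_top_iff_one _ |>.2 (Submodule.mem_sup.2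
      ⟨_, (hmem a).1, _, (hmem a).2, add_sub_cancel _ _⟩))]
    refine ⟨(J₁ d).sub_mem (hmem a).1 (hmem b).1, ?_⟩
    have := (J₂ d).sub_mem (hmem b).2 (hmem a).2
    rwa [sub_sub_sub_cancel_left] at this
  let st := astr π η
  let v : ∀ d : (fibCat π η).obj, IsAffine (sch (fibCat π η) d) → (ofChart2 C).Has d → Γ(sch (fibCat π η) d, ⊤) :=
    fun d _ hd => (bmap (fibCat π η) (hd.choose_spec.some : d ⟶ o)).appTop.hom e
  obtain ⟨f, hf⟩ := exists_mod (st := st) (M := ofChart2 C) hfib (lifts_affine π h𝒳 hM hqc hqs h.1 η hη)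
    (isUnit'_astr hX (unitBij_affine π h𝒳 hM hqc hqs h η hη) (ofChart2 C)) P v (fun {d' d} hd' hd k p' p => by
      show (bmap (fibCat π η) k).appTop.hom ((bmap (fibCat π η) _).appTop.hom e) - _ ∈ _
      rw [← RingHom.comp_apply, ← appTop_bmap_comp]
      exact hdiff _ _)
  have hfx : st.hom o f - e ∈ J₁ o * J₂ o := by
    have hh : (ofChart2 C).Has o := MultiExt.MChart.Has.of_map (ofChart2 C) (i := ⟨⟩) (𝟙 C.x)
    have h1 : st.hom o f - (bmap (fibCat π η) (hh.choose_spec.some : o ⟶ o)).appTop.hom e ∈ J₁ o * J₂ o :=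
      hf o C.affx hh
    have h2 : (bmap (fibCat π η) (hh.choose_spec.some : o ⟶ o)).appTop.hom e -
        (bmap (fibCat π η) (𝟙 o)).appTop.hom e ∈ J₁ o * J₂ o :=
      hdiff (hh.choose_spec.some : o ⟶ o) (𝟙 o)
    rw [show bmap (fibCat π η) (𝟙 o) = 𝟙 _ from congrArg CommaMorphism.left ((fibCat π η).p.map_id o),
      Scheme.Hom.id_appTop] at h2
    exact (congrArg (· ∈ J₁ o * J₂ o) (sub_add_sub_cancel _ _ _)).mp ((J₁ o * J₂ o).add_mem h1 h2)
  let E := eqToHom (etaV_base (g := g) zV).symm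
  refine ⟨E.left.appTop.hom f, fun c w hcw hc => ?_, fun c w hcw hc => ?_⟩
  · obtain ⟨u, hu, hiff⟩ := exists_key hfp zV hX h𝒵.isStack.1 C f c w hcw
    exact hiff.2 ((sep_alg (ptIdeal_isPrime _ u) hfx he he' hee).1 (hI₁ u (hu ▸ hc)))
  · obtain ⟨u, hu, hiff⟩ := exists_key hfp zV hX h𝒵.isStack.1 C f c w hcw
    exact fun hfw => (sep_alg (ptIdeal_isPrime _ u) hfx he he' hee).2 (hI₂ u (hu ▸ hc)) (hiff.1 hfw)

omit zV [IsAffine V.left] in
/-- Points with the same image in a good moduli space have closures which meet. -/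
theorem closure_inter_nonempty (h𝒳 : IsAlgStack Scheme.fppfPrecoverage 𝒳) (hM : CompactPullbacks M.obj)
    (hqc : AlgSt.IsQuasiCompactMor Scheme.fppfPrecoverage π) (hqs : AlgSt.IsQuasiSeparatedMor π)
    (h : StMod.IsGoodModuli π) (x₁ x₂ : AlgSt.Points 𝒳) (he : AlgSt.Points.map π x₁ = AlgSt.Points.map π x₂) :
    (closure {x₁} ∩ closure {x₂}).Nonempty := by
  by_contra hne
  have hMs := IsAlg.isAlgStack_ofSp M
  obtain ⟨U, cc, u₀, hy⟩ := Chart.Points.exists_ofChart_eq hMs.isStack.1 (AlgSt.Points.map π x₁)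
  obtain ⟨O, hO, huO, -⟩ := exists_isAffineOpen_mem_and_subset (X := U.left) (x := u₀) (U := ⊤) trivial
  let V : Over S := Over.mk (O.ι ≫ U.hom)
  haveI : IsAffine V.left := hO
  let ι : V ⟶ U := Over.homMk O.ι
  let zV := BasedFunctor.comp (overMap ι) cc
  have hv : AlgSt.Points.ofChart zV (⟨u₀, huO⟩ : V.left) = AlgSt.Points.map π x₁ :=
    (Chart.Points.ofChart_overMap ι cc _).trans hy
  have hfp := Chart.Basic.isAlgStack_fp hMs hMs h𝒳 (BasedFunctor.id (ofSp M.obj)) π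
  let C : AlgSt.Points 𝒳 → Set (AlgSt.Points (fp (BasedFunctor.id (ofSp M.obj)) π)) :=
    fun x => AlgSt.Points.map (fpSnd (BasedFunctor.id (ofSp M.obj)) π) ⁻¹' closure {x}
  have hC : ∀ x, IsClosed (C x) := fun x => isClosed_closure.preimage (Chart.Basic.continuous_map h𝒳 _)
  obtain ⟨f, hf₁, hf₂⟩ := exists_sep (g := BasedFunctor.id (ofSp M.obj)) zV h𝒳 hM hqc hqs h hMs (hC x₁) (hC x₂)
    fun c h₁ h₂ => hne ⟨_, h₁, h₂⟩
  obtain ⟨c₁, hc₁, hc₁'⟩ := Chart.Basic.exists_points_fp h𝒳.isStack.1 hMs.isStack.1 hMs.isStack.1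
    (g := BasedFunctor.id (ofSp M.obj)) (f := π) (q := x₁) (Chart.Basic.map_id _)
  obtain ⟨c₂, hc₂, hc₂'⟩ := Chart.Basic.exists_points_fp h𝒳.isStack.1 hMs.isStack.1 hMs.isStack.1
    (g := BasedFunctor.id (ofSp M.obj)) (f := π) (q := x₂) ((Chart.Basic.map_id _).trans he)
  exact hf₂ c₂ _ (hv.trans hc₂.symm) (hc₂'.symm ▸ subset_closure rfl)
    (hf₁ c₁ _ (hv.trans hc₁.symm) (hc₁'.symm ▸ subset_closure rfl))

end Groth.Agent.H14.UB
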