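import Groth.Agent.H14.UB.Closed
import Groth.Agent.H14.Chart.UnivInj
import Groth.Agent.H14.Chart.UnivTop
import Groth.Agent.H14.Chart.QC2
import Groth.Agent.Lib.AlgStack.Prod
import Groth.Agent.Lib.AlgStack.Rep
import Groth.Agent.Lib.AlgStack.LargestOpen
import Groth.Agent.Lib.AlgSpDecent.AlgPoint
import Groth.Agent.Lib.AlgSpace.Diag

/-!
Separatedness of a tame moduli space and closedness of the image of the diagonal.
-/

set_option autoImplicit false
set_option backward.isDefEq.respectTransparency false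
set_option backward.isDefEq.respectTransparency.types false
set_option linter.style.haveILetI false

universe u

open CategoryTheory CategoryTheory.Limits AlgebraicGeometry Opposite
open Groth.Agent.Lib Groth.Agent.Lib.AlgStack
open Groth.Agent.Lib.AlgStack.Diag (pair isoToProd toSelf_unique)
open Groth.Agent.Lib.AlgStack.Prod (prodMap prodPullback isEquivOver_prodPullback)
open FibCat (IsEquivOver IsFibGrpd fp fpFst fpSnd fpLift fpIso toSelf diag selfOver overCat)
open AlgSt (IsAlgStack ofSp ofSpMap)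
open Groth.Agent.H14.CohBC (CompactPullbacks)

namespace Groth.Agent.H14.UB

variable {S : Scheme.{u}}

theorem full_toSelf_top :
    (toSelf (ofSp ((AlgSp.yon S).obj (Over.mk (𝟙 S))))).toFunctor.Full :=
  ⟨fun {a b} m => ⟨⟨m, ULift.ext _ _ (Over.mkIdTerminal.hom_ext _ _)⟩, rfl⟩⟩

theorem faithful_toSelf (F : AlgSp.Sp S) : (toSelf (ofSp F)).toFunctor.Faithful :=
  ⟨fun {_ _ _ _} h => Stk.EltObj.hom_ext h⟩

variable (M : AlgSp.Space S)

/-- The stack of a product of a space with itself. -/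
noncomputable def prodSp : ofSp (M.obj ⨯ M.obj) ⥤ᵇ fp (toSelf (ofSp M.obj)) (toSelf (ofSp M.obj)) :=
  pair (ofSpMap prod.fst) (ofSpMap prod.snd)

theorem isEquivOver_prodSp : IsEquivOver (prodSp M) := by
  let top := (AlgSp.yon S).obj (Over.mk (𝟙 S))
  have ht : IsTerminal top := Over.mkIdTerminal.isTerminalObj (AlgSp.yon S)
  let a : M.obj ⟶ top := ht.from _
  have sq : IsPullback (prod.fst : M.obj ⨯ M.obj ⟶ M.obj) prod.snd a a := by
    convert IsPullback.of_isLimit_binaryFan_of_isTerminal (prodIsProd M.obj M.obj) ht using 1 <;> rfl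
  have h1 := Space.isEquivOver_sqLift (sq.map (sheafToPresheaf _ _))
  have := full_toSelf_top (S := S)
  have := faithful_toSelf top
  have h2 := FibProd.isEquivOver_fpMap (F := toSelf (ofSp M.obj)) (G := toSelf (ofSp M.obj)) (F' := ofSpMap a)
    (G' := ofSpMap a) (BasedFunctor.id (ofSp M.obj)) (BasedFunctor.id (ofSp M.obj)) (toSelf (ofSp top))
    (eqToIso (toSelf_unique _ _)) (eqToIso (toSelf_unique _ _)) BasedBasic.isEquivOver_id BasedBasic.isEquivOver_id
  exact BasedBasic.IsEquivOver.of_iso (BasedBasic.IsEquivOver.comp h1 h2) (isoToProd (Iso.refl _) (Iso.refl _))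

theorem isAlgStack_prod {𝒳 : AlgSt.Cat S} (h : IsAlgStack Scheme.fppfPrecoverage 𝒳) :
    IsAlgStack Scheme.fppfPrecoverage (fp (toSelf 𝒳) (toSelf 𝒳)) :=
  Chart.Basic.isAlgStack_fp Chart.QC2.isAlgStack_selfOver h h _ _

variable {M} {𝒳 : AlgSt.Cat S} {π : 𝒳 ⥤ᵇ ofSp M.obj}

theorem prodMap_closed_surjective (h𝒳 : IsAlgStack Scheme.fppfPrecoverage 𝒳)
    (hcl : AlgSt.IsUnivClosed Scheme.fppfPrecoverage π) (hs : AlgSt.IsSurjective π) :
    IsClosedMap (AlgSt.Points.map (prodMap π π)) ∧ AlgSt.IsSurjective (prodMap π π) := by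
  have hMs := IsAlg.isAlgStack_ofSp M
  have hM2 := isAlgStack_prod hMs
  have hT := isAlgStack_prod h𝒳
  let y := BasedFunctor.id (fp (toSelf (ofSp M.obj)) (toSelf (ofSp M.obj)))
  let g₁ := BasedFunctor.comp y (fpFst (toSelf (ofSp M.obj)) (toSelf (ofSp M.obj)))
  let g₂ := BasedFunctor.comp y (fpSnd (toSelf (ofSp M.obj)) (toSelf (ofSp M.obj)))
  have hA := Chart.Basic.isAlgStack_fp hMs hM2 h𝒳 g₁ π
  have hB := Chart.Basic.isAlgStack_fp hMs hM2 h𝒳 g₂ π
  have hW := Chart.Basic.isAlgStack_fp hM2 hA hB (fpFst g₁ π) (fpFst g₂ π)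
  have hPI := Chart.Basic.isAlgStack_fp hM2 hM2 hT y (prodMap π π)
  have hq := Rep.isEquivOver_pasteBase (fpFst g₁ π) g₂ π
  have h1 : IsClosedMap (AlgSt.Points.map (fpFst (fpFst g₁ π) (fpFst g₂ π))) := by
    have e : AlgSt.Points.map (fpFst (fpFst g₁ π) (fpFst g₂ π)) =
        AlgSt.Points.map (fpFst (BasedFunctor.comp (fpFst g₁ π) g₂) π) ∘
          AlgSt.Points.map (Rep.pasteBase (fpFst g₁ π) g₂ π) := funext fun p => by
      rw [Function.comp_apply, ← Chart.Basic.map_comp, Rep.pasteBase_fst]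
    rw [e]
    exact (hcl _ hA _).comp (Chart.UnivTop.isHomeomorph_map_of_isEquivOver hW
      (Chart.Basic.isAlgStack_fp hMs hA h𝒳 _ π) hq).isClosedMap
  have s1 : AlgSt.IsSurjective (fpFst (fpFst g₁ π) (fpFst g₂ π)) :=
    Chart.Basic.surjective_fpFst hB.isStack.1 hM2.isStack.1 hA.isStack.1 _
      (Chart.Basic.surjective_fpFst h𝒳.isStack.1 hMs.isStack.1 hM2.isStack.1 g₂ hs)
  have hE := isEquivOver_prodPullback π π y
  have hY : ∀ r, AlgSt.Points.map (fpFst y (prodMap π π)) r =
      AlgSt.Points.map (prodMap π π) (AlgSt.Points.map (fpSnd y (prodMap π π)) r) := fun r => by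
    rw [← Chart.Basic.map_comp, ← Chart.Basic.map_iso (fpIso y (prodMap π π)), Chart.Basic.map_comp,
      Chart.Basic.map_id]
  have hcomp : AlgSt.Points.map (fpFst y (prodMap π π)) ∘ AlgSt.Points.map (prodPullback π π y) =
      AlgSt.Points.map (fpFst g₁ π) ∘ AlgSt.Points.map (fpFst (fpFst g₁ π) (fpFst g₂ π)) := funext fun p => by
    rw [Function.comp_apply, Function.comp_apply, ← Chart.Basic.map_comp, ← Chart.Basic.map_comp]
    rfl
  have hc : IsClosedMap (AlgSt.Points.map (fpFst g₁ π) ∘ AlgSt.Points.map (fpFst (fpFst g₁ π) (fpFst g₂ π))) :=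
    (hcl _ hM2 g₁).comp h1
  have hsnd : Function.Surjective (AlgSt.Points.map (fpSnd y (prodMap π π))) :=
    Chart.Basic.surjective_fpSnd hT.isStack.1 hM2.isStack.1 hM2.isStack.1 (prodMap π π)
      fun p => ⟨p, Chart.Basic.map_id p⟩
  constructor
  · intro C hC
    have e : AlgSt.Points.map (prodMap π π) '' C = AlgSt.Points.map (fpFst y (prodMap π π)) ''
        (AlgSt.Points.map (prodPullback π π y) ''
          (AlgSt.Points.map (prodPullback π π y) ⁻¹' (AlgSt.Points.map (fpSnd y (prodMap π π)) ⁻¹' C))) := by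
      rw [Set.image_preimage_eq _ (Chart.UnivTop.bijective_map_of_isEquivOver hE).2]
      ext z
      constructor
      · rintro ⟨c, hc', rfl⟩
        obtain ⟨r, rfl⟩ := hsnd c
        exact ⟨r, hc', hY r⟩
      · rintro ⟨r, hr, rfl⟩
        exact ⟨_, hr, (hY r).symm⟩
    rw [e, ← Set.image_comp, hcomp]
    exact hc _ ((hC.preimage (Chart.Basic.continuous_map hT _)).preimage (Chart.Basic.continuous_map hPI _))
  · intro z
    obtain ⟨a, ha⟩ := Chart.Basic.surjective_fpFst h𝒳.isStack.1 hMs.isStack.1 hM2.isStack.1 g₁ hs z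
    obtain ⟨w, hw⟩ := s1 a
    refine ⟨AlgSt.Points.map (fpSnd y (prodMap π π)) (AlgSt.Points.map (prodPullback π π y) w), ?_⟩
    rw [← hY]
    exact (congrFun hcomp w).trans ((congrArg _ hw).trans ha)

theorem preimage_range_diag (h𝒳 : IsAlgStack Scheme.fppfPrecoverage 𝒳) (hd : AlgSt.IsSurjective (diag π)) :
    AlgSt.Points.map (prodMap π π) ⁻¹' Set.range (AlgSt.Points.map (diag (toSelf (ofSp M.obj)))) =
      Set.range (AlgSt.Points.map (diag (toSelf 𝒳))) := by
  have hMs := IsAlg.isAlgStack_ofSp M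
  ext p
  constructor
  · rintro ⟨m, hm⟩
    obtain ⟨r, -, rfl⟩ := Chart.Basic.exists_points_fp (isAlgStack_prod h𝒳).isStack.1
      (isAlgStack_prod hMs).isStack.1 hMs.isStack.1 (g := diag (toSelf (ofSp M.obj))) (f := prodMap π π) hm
    let D := diag (toSelf (ofSp M.obj))
    let i := fpIso D (prodMap π π)
    let G : fp D (prodMap π π) ⥤ᵇ fp π π :=
      fpLift (BasedFunctor.comp (fpSnd D (prodMap π π)) (fpFst (toSelf 𝒳) (toSelf 𝒳)))
        (BasedFunctor.comp (fpSnd D (prodMap π π)) (fpSnd (toSelf 𝒳) (toSelf 𝒳)))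
        ((show _ ≅ fpFst D (prodMap π π) from
            (BasedBasic.isoWhiskerRight i (fpFst (toSelf (ofSp M.obj)) (toSelf (ofSp M.obj)))).symm) ≪≫
          BasedBasic.isoWhiskerRight i (fpSnd (toSelf (ofSp M.obj)) (toSelf (ofSp M.obj))))
    let K : fp π π ⥤ᵇ fp (toSelf 𝒳) (toSelf 𝒳) := pair (fpFst π π) (fpSnd π π)
    obtain ⟨x, hx⟩ := hd (AlgSt.Points.map G r)
    refine ⟨x, ?_⟩
    calc AlgSt.Points.map (diag (toSelf 𝒳)) x
        = AlgSt.Points.map (BasedFunctor.comp (diag π) K) x :=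
          Chart.Basic.map_iso (show diag (toSelf 𝒳) ≅ BasedFunctor.comp (diag π) K from isoToProd (Iso.refl _) (Iso.refl _)) x
      _ = AlgSt.Points.map (BasedFunctor.comp G K) r := by
          rw [Chart.Basic.map_comp, hx, ← Chart.Basic.map_comp]
      _ = _ := Chart.Basic.map_iso (show BasedFunctor.comp G K ≅ fpSnd D (prodMap π π) from isoToProd (Iso.refl _) (Iso.refl _)) r
  · rintro ⟨x, rfl⟩
    refine ⟨AlgSt.Points.map π x, ?_⟩
    rw [← Chart.Basic.map_comp, ← Chart.Basic.map_comp]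
    exact Chart.Basic.map_iso (show BasedFunctor.comp π (diag (toSelf (ofSp M.obj))) ≅
      BasedFunctor.comp (diag (toSelf 𝒳)) (prodMap π π) from isoToProd (Iso.refl _) (Iso.refl _)) x

theorem isSeparatedSp_iff_isClosed_range (hls : AlgSp.IsLocallySeparatedSp M.obj) :
    AlgSp.IsSeparatedSp M.obj ↔
      IsClosed (Set.range (AlgSt.Points.map (diag (toSelf (ofSp M.obj))))) := by
  let P : AlgSp.Space S := ⟨M.obj ⨯ M.obj, AlgSpace.isAlgSpace_prod M.property M.property⟩
  have hP := IsAlg.isAlgStack_ofSp P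
  have hh : IsHomeomorph (AlgSt.Points.map (prodSp M)) := Chart.UnivTop.isHomeomorph_map_of_isEquivOver hP
    (isAlgStack_prod (IsAlg.isAlgStack_ofSp M)) (isEquivOver_prodSp M)
  have hrange : Set.range (AlgSt.Points.map (diag (toSelf (ofSp M.obj)))) = AlgSt.Points.map (prodSp M) ''
      (Chart.UnivTop.toSp P ⁻¹' Set.range (AlgSp.Points.map (Limits.diag M.obj))) := by
    have e : BasedFunctor.comp (ofSpMap (Limits.diag M.obj)) (prodSp M) ≅ diag (toSelf (ofSp M.obj)) :=
      isoToProd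
        (eqToIso (show BasedFunctor.comp (ofSpMap (Limits.diag M.obj)) (ofSpMap prod.fst) = BasedFunctor.id _ by
          rw [← LargestOpen.ofSpMap_comp, prod.lift_fst]; rfl))
        (eqToIso (show BasedFunctor.comp (ofSpMap (Limits.diag M.obj)) (ofSpMap prod.snd) = BasedFunctor.id _ by
          rw [← LargestOpen.ofSpMap_comp, prod.lift_snd]; rfl))
    ext z
    constructor
    · rintro ⟨m, rfl⟩
      exact ⟨AlgSt.Points.map (ofSpMap (Limits.diag M.obj)) m, ⟨Chart.UnivTop.toSp M m,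
        (Chart.UnivTop.toSp_map (F := M) (G := P) _ m).symm⟩,
        (Chart.Basic.map_comp _ _ m).symm.trans (Chart.Basic.map_iso e m)⟩
    · rintro ⟨q, ⟨m', hm'⟩, rfl⟩
      obtain ⟨m, rfl⟩ := Chart.UnivTop.surjective_toSp M m'
      obtain rfl : AlgSt.Points.map (ofSpMap (Limits.diag M.obj)) m = q :=
        Chart.UnivTop.injective_toSp P ((Chart.UnivTop.toSp_map (F := M) (G := P) _ m).trans hm')
      exact ⟨m, (Chart.Basic.map_iso e m).symm.trans (Chart.Basic.map_comp _ _ m)⟩
  have key : IsClosed (Set.range (AlgSt.Points.map (diag (toSelf (ofSp M.obj))))) ↔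
      IsClosed (Set.range (AlgSp.Points.map (Limits.diag M.obj))) := by
    rw [hrange]
    refine ⟨fun h => ?_, fun h => hh.isClosedMap _ (h.preimage (Chart.UnivTop.isHomeomorph_toSp P).continuous)⟩
    have := h.preimage hh.continuous
    rw [Set.preimage_image_eq _ hh.injective] at this
    have h' := (Chart.UnivTop.isHomeomorph_toSp P).isClosedMap _ this
    rwa [Set.image_preimage_eq _ (Chart.UnivTop.surjective_toSp P)] at h'
  rw [key]
  refine ⟨fun h => AlgSpDecent.AlgPoint.isClosed_range P.property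
    (AlgSpace.repWith_mono h fun _ _ f (hf : IsClosedImmersion f) => (inferInstance : IsIntegralHom f)),
    fun h => ⟨hls.rep, fun {a b} g fst snd sq => ?_⟩⟩
  haveI : IsImmersion snd.left := hls.property g fst snd sq
  refine IsClosedImmersion.of_isPreimmersion snd.left ?_
  have e := AlgSpace.preimage_image_map sq Set.univ
  rw [Set.image_univ, Set.preimage_univ, Set.image_univ] at e
  rw [← e]
  exact h.preimage (AlgSp.Points.continuous_ofPt g)

end Groth.Agent.H14.UB
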