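import Groth.Agent.H14.UB.Fam

/-!
The functor of modules obtained from a module over a ring mapping to all the rings of functions.
-/

set_option autoImplicit false
set_option backward.isDefEq.respectTransparency false
set_option backward.isDefEq.respectTransparency.types false
set_option linter.style.haveILetI false

universe u

open CategoryTheory CategoryTheory.Limits AlgebraicGeometry Opposite TensorProduct
open StMod (sch bmap)
open Groth.Agent.Lib.AlgStack
open Groth.Agent.H14.ModDesc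
open Groth.Agent.H14.GenFam (FlatFun Ext isBC_mk bc_induction bc_extend sl_extend sl_ext)
open Groth.Agent.H14.MultiExt (MChart FlatHom)

namespace Groth.Agent.H14.UB

variable {S : Scheme.{u}}

/-- A ring mapping compatibly to the functions of all objects. -/
structure AStr (𝒵 : AlgSt.Cat S) (A : Type u) [CommRing A] where
  /-- the maps -/
  hom : ∀ o : 𝒵.obj, A →+* Γ(sch 𝒵 o, ⊤)
  natural : ∀ {o' o : 𝒵.obj} (e : o' ⟶ o), (bmap 𝒵 e).appTop.hom.comp (hom o) = hom o'

namespace AStr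

variable {𝒵 : AlgSt.Cat S} {A : Type u} [CommRing A] (st : AStr 𝒵 A) (N : Type u) [AddCommGroup N] [Module A N]

theorem exists_res {o' o : 𝒵.obj} (e : o' ⟶ o) :
    ∃ F : Ext (st.hom o) N →+ Ext (st.hom o') N, IsSL (bmap 𝒵 e).appTop.hom F ∧
      ∀ m, F (GenFam.Ext.mk _ N m) = GenFam.Ext.mk _ N m :=
  sl_extend (isBC_mk (st.hom o) N) (GenFam.Ext.mk (st.hom o') N) ((st.natural e).symm ▸ (isBC_mk (st.hom o') N).sl)

/-- Restriction. -/
noncomputable def res {o' o : 𝒵.obj} (e : o' ⟶ o) : Ext (st.hom o) N →+ Ext (st.hom o') N :=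
  (st.exists_res N e).choose

theorem res_sl {o' o : 𝒵.obj} (e : o' ⟶ o) : IsSL (bmap 𝒵 e).appTop.hom (st.res N e) :=
  (st.exists_res N e).choose_spec.1

theorem res_mk {o' o : 𝒵.obj} (e : o' ⟶ o) (m : N) :
    st.res N e (GenFam.Ext.mk _ N m) = GenFam.Ext.mk _ N m :=
  (st.exists_res N e).choose_spec.2 m

theorem isBC_res {o' o : 𝒵.obj} (e : o' ⟶ o) : IsBC (bmap 𝒵 e).appTop.hom (st.res N e) := by
  refine (isBC_comp_iff (isBC_mk (st.hom o) N)).1 ⟨?_, st.res_sl N e⟩
  exact (isBC_mk (st.hom o') N).congr (st.natural e).symm (AddMonoidHom.ext fun m => (st.res_mk N e m).symm)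

/-- The functor of modules. -/
noncomputable def tens : FlatFun 𝒵 where
  obj o := Ext (st.hom o) N
  res := fun {_ _} _ _ e => st.res N e
  sl := fun {_ _} _ _ e => st.res_sl N e
  res_id o _ s := by
    refine DFunLike.congr_fun (sl_ext (isBC_mk (st.hom o) N) (ψ := (bmap 𝒵 (𝟙 o)).appTop.hom)
      (F := st.res N (𝟙 o)) (G := AddMonoidHom.id _) (st.res_sl N _) (fun r t => ?_) fun m => st.res_mk N (𝟙 o) m) s
    show r • t = _
    rw [show (bmap 𝒵 (𝟙 o)) = 𝟙 _ from congrArg CommaMorphism.left (𝒵.p.map_id o)]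
    rfl
  res_comp := fun {o'' o' o} _ _ _ e' e s => by
    refine DFunLike.congr_fun (sl_ext (isBC_mk (st.hom o) N) (ψ := (bmap 𝒵 (e' ≫ e)).appTop.hom)
      (F := st.res N (e' ≫ e)) (G := (st.res N e').comp (st.res N e)) (st.res_sl N _) (fun r t => ?_) fun m => ?_) s
    · show st.res N e' (st.res N e (r • t)) = _
      rw [st.res_sl N e, st.res_sl N e', StMod.bmap_comp, Scheme.Hom.comp_appTop]
      rfl
    · show st.res N (e' ≫ e) _ = st.res N e' (st.res N e _)
      rw [st.res_mk, st.res_mk, st.res_mk]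
  bc := fun {_ _} _ _ e _ => st.isBC_res N e

variable {N} {N' : Type u} [AddCommGroup N'] [Module A N']

theorem exists_tensApp (f : N →ₗ[A] N') (o : 𝒵.obj) :
    ∃ F : Ext (st.hom o) N →ₗ[Γ(sch 𝒵 o, ⊤)] Ext (st.hom o) N',
      ∀ m, F (GenFam.Ext.mk _ N m) = GenFam.Ext.mk _ N' (f m) :=
  bc_extend (isBC_mk (st.hom o) N) ((GenFam.Ext.mk (st.hom o) N').comp f.toAddMonoidHom) fun a m => by
    show GenFam.Ext.mk (st.hom o) N' (f (a • m)) = _
    rw [map_smul]
    exact (isBC_mk (st.hom o) N').sl a (f m)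

/-- The map given by a linear map. -/
noncomputable def tensHom (f : N →ₗ[A] N') : FlatHom (st.tens N) (st.tens N') where
  app o _ := (st.exists_tensApp f o).choose
  natural := fun {o' o} _ _ e s => by
    refine bc_induction (isBC_mk (st.hom o) N)
      (P := fun s => (st.exists_tensApp f o').choose (st.res N e s) = st.res N' e ((st.exists_tensApp f o).choose s))
      (by rw [map_zero, map_zero, map_zero, map_zero]) (fun a b ha hb => ?_) (fun c m => ?_) s
    · rw [map_add, map_add, map_add, map_add, ha, hb]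
    · rw [st.res_sl N e, map_smul, map_smul, st.res_sl N' e, st.res_mk, (st.exists_tensApp f o).choose_spec,
        (st.exists_tensApp f o').choose_spec, st.res_mk]

theorem tensHom_mk (f : N →ₗ[A] N') (o : 𝒵.obj) [IsAffine (sch 𝒵 o)] (m : N) :
    (st.tensHom f).app o (GenFam.Ext.mk _ N m) = GenFam.Ext.mk _ N' (f m) :=
  (st.exists_tensApp f o).choose_spec m

theorem tensHom_surjective (f : N →ₗ[A] N') (hf : Function.Surjective f) (o : 𝒵.obj) [IsAffine (sch 𝒵 o)] :
    Function.Surjective ((st.tensHom f).app o) := fun y =>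
  bc_induction (isBC_mk (st.hom o) N') (P := fun y => ∃ x, (st.tensHom f).app o x = y) ⟨0, map_zero _⟩
    (fun _ _ ⟨a, ha⟩ ⟨b, hb⟩ => ⟨a + b, by rw [map_add, ha, hb]⟩) (fun c m => by
      obtain ⟨m', rfl⟩ := hf m
      exact ⟨c • GenFam.Ext.mk _ N m', by rw [map_smul, st.tensHom_mk]⟩) y

theorem eq_tmul (o : 𝒵.obj) (c : Γ(sch 𝒵 o, ⊤)) (m : N) :
    c • GenFam.Ext.mk (st.hom o) N m = (show GenFam.AlgB (st.hom o) from c) ⊗ₜ[A] m := by
  show c • ((1 : GenFam.AlgB (st.hom o)) ⊗ₜ[A] m) = _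
  rw [smul_tmul']
  exact congrArg (fun x : GenFam.AlgB (st.hom o) => x ⊗ₜ[A] m) (mul_one (M := Γ(sch 𝒵 o, ⊤)) c)

theorem tensHom_eq_lTensor (f : N →ₗ[A] N') (o : 𝒵.obj) [IsAffine (sch 𝒵 o)] (z : Ext (st.hom o) N) :
    (st.tensHom f).app o z = LinearMap.lTensor (GenFam.AlgB (st.hom o)) f z :=
  bc_induction (isBC_mk (st.hom o) N)
    (P := fun z => (st.tensHom f).app o z = LinearMap.lTensor (GenFam.AlgB (st.hom o)) f z)
    (by rw [map_zero, map_zero]) (fun a b ha hb => by rw [map_add, map_add, ha, hb])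
    (fun c m => by rw [map_smul, st.tensHom_mk, eq_tmul, eq_tmul, LinearMap.lTensor_tmul]) z

theorem mem_range_of_tensHom_eq_zero {N'' : Type u} [AddCommGroup N''] [Module A N''] (g : N →ₗ[A] N')
    (f : N' →ₗ[A] N'') (hgf : Function.Exact g f) (hf : Function.Surjective f) (o : 𝒵.obj) [IsAffine (sch 𝒵 o)]
    {y : Ext (st.hom o) N'} (hy : (st.tensHom f).app o y = 0) : y ∈ LinearMap.range ((st.tensHom g).app o) := by
  rw [tensHom_eq_lTensor] at hy
  obtain ⟨x, hx⟩ := (lTensor_exact (GenFam.AlgB (st.hom o)) hgf hf y).1 hy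
  exact ⟨x, (st.tensHom_eq_lTensor g o x).trans hx⟩

variable (J : Type u)

theorem exists_coord (o : 𝒵.obj) (j : J) : ∃ F : Ext (st.hom o) (J →₀ A) →ₗ[Γ(sch 𝒵 o, ⊤)] Γ(sch 𝒵 o, ⊤),
    ∀ m, F (GenFam.Ext.mk _ _ m) = st.hom o (m j) :=
  bc_extend (isBC_mk (st.hom o) (J →₀ A)) (AddMonoidHom.mk' (fun m => st.hom o (m j))
    fun a b => by rw [Finsupp.add_apply, map_add]) fun a m => by
      show st.hom o ((a • m) j) = st.hom o a * st.hom o (m j)
      rw [Finsupp.smul_apply, smul_eq_mul, map_mul]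

/-- A coordinate. -/
noncomputable def coord (o : 𝒵.obj) (j : J) : Ext (st.hom o) (J →₀ A) →ₗ[Γ(sch 𝒵 o, ⊤)] Γ(sch 𝒵 o, ⊤) :=
  (st.exists_coord J o j).choose

theorem coord_mk (o : 𝒵.obj) (j : J) (m : J →₀ A) : st.coord J o j (GenFam.Ext.mk _ _ m) = st.hom o (m j) :=
  (st.exists_coord J o j).choose_spec m

theorem coord_res {o' o : 𝒵.obj} (e : o' ⟶ o) (j : J) (z : Ext (st.hom o) (J →₀ A)) :
    (bmap 𝒵 e).appTop (st.coord J o j z) = st.coord J o' j (st.res _ e z) := by
  refine bc_induction (isBC_mk (st.hom o) (J →₀ A))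
    (P := fun z => (bmap 𝒵 e).appTop (st.coord J o j z) = st.coord J o' j (st.res _ e z))
    ?_ (fun a b ha hb => ?_) (fun c m => ?_) z
  · simp only [map_zero]
  · simp only [map_add]
    rw [ha, hb]
  · rw [LinearMap.map_smul (st.coord J o j), st.res_sl _ e, LinearMap.map_smul (st.coord J o' j), st.res_mk,
      st.coord_mk, st.coord_mk, smul_eq_mul, smul_eq_mul]
    refine (map_mul (bmap 𝒵 e).appTop.hom c _).trans ?_
    exact congrArg (_ * ·) (DFunLike.congr_fun (st.natural e) (m j))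

theorem sum_coord (o : 𝒵.obj) (z : Ext (st.hom o) (J →₀ A)) :
    ∃ T : Finset J, (∀ j ∉ T, st.coord J o j z = 0) ∧
      z = ∑ j ∈ T, st.coord J o j z • GenFam.Ext.mk (st.hom o) _ (Finsupp.single j 1) := by
  classical
  let d : J → Ext (st.hom o) (J →₀ A) := fun j => GenFam.Ext.mk (st.hom o) _ (Finsupp.single j 1)
  suffices h : ∃ T : Finset J, ∀ T', T ⊆ T' → (∀ j ∉ T, st.coord J o j z = 0) ∧
      z = ∑ j ∈ T', st.coord J o j z • d j by
    obtain ⟨T, hT⟩ := h
    exact ⟨T, hT T subset_rfl⟩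
  refine bc_induction (isBC_mk (st.hom o) (J →₀ A))
    (P := fun z => ∃ T : Finset J, ∀ T', T ⊆ T' → (∀ j ∉ T, st.coord J o j z = 0) ∧
      z = ∑ j ∈ T', st.coord J o j z • d j)
    ⟨∅, fun T' _ => ⟨fun j _ => map_zero _, ?_⟩⟩ (fun a b ⟨Ta, ha⟩ ⟨Tb, hb⟩ => ⟨Ta ∪ Tb, fun T' hT' => ?_⟩)
    (fun c m => ⟨m.support, fun T' hT' => ⟨fun j hj => ?_, ?_⟩⟩) z
  · simp only [map_zero, zero_smul, Finset.sum_const_zero]
  · obtain ⟨ha0, ha'⟩ := ha T' (Finset.subset_union_left.trans hT')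
    obtain ⟨hb0, hb'⟩ := hb T' (Finset.subset_union_right.trans hT')
    refine ⟨fun j hj => ?_, ?_⟩
    · rw [Finset.mem_union, not_or] at hj
      rw [map_add, ha0 j hj.1, hb0 j hj.2, add_zero]
    · rw [Finset.sum_congr rfl fun j _ => show st.coord J o j (a + b) • d j =
        st.coord J o j a • d j + st.coord J o j b • d j by rw [map_add, add_smul], Finset.sum_add_distrib, ← ha', ← hb']
  · rw [map_smul, coord_mk, Finsupp.notMem_support_iff.1 hj, map_zero, smul_zero]
  · have e : ∀ j, st.coord J o j (c • GenFam.Ext.mk (st.hom o) _ m) • d j =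
        c • GenFam.Ext.mk (st.hom o) _ (Finsupp.single j (m j)) := fun j => by
      rw [map_smul, coord_mk, smul_eq_mul, mul_smul]
      refine congrArg (c • ·) (((isBC_mk (st.hom o) (J →₀ A)).sl (m j) _).symm.trans ?_)
      rw [Finsupp.smul_single, smul_eq_mul, mul_one]
    rw [Finset.sum_congr rfl fun j _ => e j, ← Finset.smul_sum, ← map_sum,
      ← Finset.sum_subset hT' (fun j _ hj => by rw [Finsupp.notMem_support_iff.1 hj, Finsupp.single_zero])]
    exact congrArg (fun x => c • GenFam.Ext.mk (st.hom o) _ x) m.sum_single.symm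

theorem eq_of_coord (o : 𝒵.obj) {z z' : Ext (st.hom o) (J →₀ A)}
    (h : ∀ j, st.coord J o j z = st.coord J o j z') : z = z' := by
  obtain ⟨T, -, hT⟩ := st.sum_coord J o (z - z')
  rw [← sub_eq_zero, hT]
  refine Finset.sum_eq_zero fun j _ => ?_
  rw [map_sub, h, sub_self, zero_smul]

theorem exists_support (o : 𝒵.obj) (z : Ext (st.hom o) (J →₀ A)) :
    ∃ T : Finset J, ∀ j ∉ T, st.coord J o j z = 0 := by
  obtain ⟨T, hT, -⟩ := st.sum_coord J o z
  exact ⟨T, hT⟩

end AStr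

end Groth.Agent.H14.UB
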