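import Groth.Agent.Lib.QCoh.Pullback
import Groth.Agent.Lib.AlgStack.Yoneda
import Groth.Prelude.Def_StMod6

/-!
The module on the category over a scheme attached to a module on the scheme.
-/

set_option autoImplicit false
set_option backward.isDefEq.respectTransparency false
set_option backward.isDefEq.respectTransparency.types false
set_option linter.style.haveILetI false

universe u

open CategoryTheory CategoryTheory.Limits AlgebraicGeometry Opposite TopologicalSpace
open StMod (sch bmap)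
open FibCat (overCat)

namespace Groth.Agent.H14.UB.ToQ

noncomputable section

abbrev eta {X Y : Scheme.{u}} (a : Y ⟶ X) (M : X.Modules) :
    M ⟶ (Scheme.Modules.pushforward a).obj ((Scheme.Modules.pullback a).obj M) :=
  (Scheme.Modules.pullbackPushforwardAdjunction a).unit.app M

theorem pb_ext {X Y : Scheme.{u}} {a : Y ⟶ X} {M : X.Modules} {N : Y.Modules}
    (f g : (Scheme.Modules.pullback a).obj M ⟶ N)
    (h : ∀ (U : X.Opens) (m : Γ(M, U)), f.app (a ⁻¹ᵁ U) ((eta a M).app U m) = g.app (a ⁻¹ᵁ U) ((eta a M).app U m)) :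
    f = g := by
  apply ((Scheme.Modules.pullbackPushforwardAdjunction a).homEquiv M N).injective
  rw [Adjunction.homEquiv_unit, Adjunction.homEquiv_unit]
  apply Scheme.Modules.hom_ext
  intro U
  ext m
  exact h U m

variable {X Y Y' : Scheme.{u}}

/-- The comparison of iterated inverse images. -/
def cmp (M : X.Modules) {a : Y ⟶ X} {a' : Y' ⟶ X} {k : Y' ⟶ Y} (e : k ≫ a = a') :
    (Scheme.Modules.pullback k).obj ((Scheme.Modules.pullback a).obj M) ≅ (Scheme.Modules.pullback a').obj M :=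
  (Scheme.Modules.pullbackComp k a).app M ≪≫ (Scheme.Modules.pullbackCongr e).app M

/-- The comparison map of inverse images. -/
def pbMap (M : X.Modules) {a : Y ⟶ X} {a' : Y' ⟶ X} {k : Y' ⟶ Y} (e : k ≫ a = a') :
    (Scheme.Modules.pullback a).obj M ⟶ (Scheme.Modules.pushforward k).obj ((Scheme.Modules.pullback a').obj M) :=
  (Scheme.Modules.pullbackPushforwardAdjunction k).homEquiv _ _ (cmp M e).hom

theorem le_of_comp {a : Y ⟶ X} {a' : Y' ⟶ X} {k : Y' ⟶ Y} (e : k ≫ a = a') (U : X.Opens) :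
    k ⁻¹ᵁ (a ⁻¹ᵁ U) = a' ⁻¹ᵁ U := by
  subst e; rfl

theorem pbMap_unit (M : X.Modules) {a : Y ⟶ X} {a' : Y' ⟶ X} {k : Y' ⟶ Y} (e : k ≫ a = a')
    (U : X.Opens) (m : Γ(M, U)) :
    (pbMap M e).app (a ⁻¹ᵁ U) ((eta a M).app U m) =
      ((Scheme.Modules.pullback a').obj M).presheaf.map (eqToHom (le_of_comp e U)).op ((eta a' M).app U m) := by
  subst e
  have h := unit_conjugateEquiv ((Scheme.Modules.pullbackPushforwardAdjunction a).comp
    (Scheme.Modules.pullbackPushforwardAdjunction k)) (Scheme.Modules.pullbackPushforwardAdjunction (k ≫ a))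
    (Scheme.Modules.pullbackComp k a).inv M
  rw [Scheme.Modules.conjugateEquiv_pullbackComp_inv, Adjunction.comp_unit_app] at h
  have h2 := congrArg (fun q => (q ≫ (Scheme.Modules.pushforward (k ≫ a)).map
    ((Scheme.Modules.pullbackComp k a).app M).hom).app U m) h
  simp only [Category.assoc, ← Functor.map_comp] at h2
  rw [show ((Scheme.Modules.pullbackComp k a).inv.app M) ≫ ((Scheme.Modules.pullbackComp k a).app M).hom = 𝟙 _ from
    ((Scheme.Modules.pullbackComp k a).app M).inv_hom_id, CategoryTheory.Functor.map_id] at h2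
  erw [Category.comp_id] at h2
  erw [CategoryTheory.Functor.map_id]
  refine Eq.trans ?_ h2
  rw [pbMap, Adjunction.homEquiv_unit]
  have hc : (cmp M (rfl : k ≫ a = k ≫ a)).hom = ((Scheme.Modules.pullbackComp k a).app M).hom := by
    rw [cmp, Iso.trans_hom]
    refine (congrArg (_ ≫ ·) ?_).trans (Category.comp_id _)
    simp [Scheme.Modules.pullbackCongr]
  rw [hc]
  rfl

theorem pbMap_id (M : X.Modules) {a : Y ⟶ X} (e : 𝟙 Y ≫ a = a) :
    pbMap M e ≫ (Scheme.Modules.pushforwardId Y).hom.app _ = 𝟙 _ := by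
  refine pb_ext _ _ fun U m => ?_
  show (pbMap M e).app (a ⁻¹ᵁ U) _ = (eta a M).app U m
  refine (pbMap_unit M e U m).trans ?_
  erw [CategoryTheory.Functor.map_id]
  rfl

set_option maxHeartbeats 400000 in
theorem pbMap_comp (M : X.Modules) {Y'' : Scheme.{u}} {a : Y ⟶ X} {a' : Y' ⟶ X} {a'' : Y'' ⟶ X} {k : Y' ⟶ Y}
    {h : Y'' ⟶ Y'} (e : k ≫ a = a') (e' : h ≫ a' = a'') (e'' : (h ≫ k) ≫ a = a'') :
    pbMap M e'' = pbMap M e ≫ (Scheme.Modules.pushforward k).map (pbMap M e') ≫
      (Scheme.Modules.pushforwardComp h k).hom.app _ := by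
  subst e
  subst e'
  refine pb_ext _ _ fun U m => ?_
  simp only [Scheme.Modules.Hom.comp_app, Scheme.Modules.pushforward_map_app,
    Scheme.Modules.pushforwardComp_hom_app_app, ConcreteCategory.comp_apply]
  rw [pbMap_unit]
  show _ = (pbMap M (rfl : h ≫ k ≫ a = _)).app (k ⁻¹ᵁ (a ⁻¹ᵁ U))
    ((pbMap M (rfl : k ≫ a = _)).app (a ⁻¹ᵁ U) ((eta a M).app U m))
  rw [pbMap_unit M (rfl : k ≫ a = k ≫ a)]
  refine Eq.trans ?_ (congrArg ((pbMap M (rfl : h ≫ k ≫ a = h ≫ k ≫ a)).app (k ⁻¹ᵁ (a ⁻¹ᵁ U)))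
    (show (eta (k ≫ a) M).app U m = _ by simp))
  refine Eq.trans ?_ (pbMap_unit M (rfl : h ≫ k ≫ a = h ≫ k ≫ a) U m).symm
  rfl

end

variable {S : Scheme.{u}} {X : Over S}

theorem overCat_w {g' g : (overCat X).obj} (φ : g' ⟶ g) {k : sch (overCat X) g' ⟶ sch (overCat X) g}
    (hk : bmap (overCat X) φ = k) : k ≫ g.hom.left = g'.hom.left := by
  subst hk
  exact congrArg CommaMorphism.left (Over.w φ)

/-- The module attached to a module on the scheme. -/
noncomputable def toMod (M : X.left.Modules) : StMod.Mod (overCat X) where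
  obj g := (Scheme.Modules.pullback g.hom.left).obj M
  map φ _ hk := pbMap M (overCat_w φ hk)
  map_id g := pbMap_id M (overCat_w (𝟙 g) (StMod.bmap_id g))
  map_comp := fun {g'' g' g} ψ φ h k hh hk =>
    pbMap_comp M (overCat_w φ hk) (overCat_w ψ hh) _

/-- The quasi-coherent module attached to a quasi-coherent module on the scheme. -/
noncomputable def toQ (M : X.left.Modules) (hM : Coh.IsQCoh M) : StMod.QCoh (overCat X) :=
  ⟨toMod M, fun g' g φ k hk => by
    show IsIso (((Scheme.Modules.pullbackPushforwardAdjunction k).homEquiv _ _).symm (pbMap M (overCat_w φ hk)))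
    rw [pbMap, Equiv.symm_apply_apply]
    infer_instance,
   fun g => by
    haveI : M.IsQuasicoherent := hM
    exact Groth.Agent.Lib.QCoh.Pullback.isQCoh_pullback g.hom.left M⟩

end Groth.Agent.H14.UB.ToQ
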