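import Groth.Agent.H14.UB.Separate
import Groth.Agent.H14.Chart.UnivTop
import Groth.Agent.H14.Chart.QC
import Groth.Agent.Lib.AlgSpStalk.Lifts
import Groth.Agent.Lib.QuotSt.Invariant
import Groth.Agent.Lib.AlgSpace.Local

/-!
A good moduli space is universal for maps to schemes.
-/

set_option autoImplicit false
set_option backward.isDefEq.respectTransparency false
set_option backward.isDefEq.respectTransparency.types false
set_option linter.style.haveILetI false

universe u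

open CategoryTheory CategoryTheory.Limits AlgebraicGeometry Opposite
open StMod (sch bmap baseOver etaOf)
open Groth.Agent.Lib Groth.Agent.Lib.AlgStack
open FibCat (IsFibGrpd fp fpFst fpSnd overCat)
open AlgSt (IsAlgStack ofSp ofSpMap ofOverCat overMap)
open Groth.Agent.H14.CohBC (CompactPullbacks)
open Groth.Agent.Lib.QuotSt (res map_res res_rfl eq_mk_res functor_ext)

namespace Groth.Agent.H14.UB

variable {S : Scheme.{u}}

theorem res_trans {F : AlgSp.Sp S} (a : Stk.EltObj F.obj) {T T' : Over S} (e : a.base = T) (h : T' = T) :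
    F.obj.map (eqToHom h).op (res a e) = res a (e.trans h.symm) := by
  subst h
  simp

variable {𝒳 : AlgSt.Cat S} {F : AlgSp.Sp S} (π : 𝒳 ⥤ᵇ ofSp F)

/-- The section attached to an object. -/
noncomputable def secAt (o : 𝒳.obj) : F.obj.obj (op (𝒳.p.obj o)) := res (π.obj o) (π.w_obj o)

theorem secAt_map {o' o : 𝒳.obj} (k : o' ⟶ o) : F.obj.map (𝒳.p.map k).op (secAt π o) = secAt π o' :=
  map_res (π.map k) _ _ _ (by
    haveI := BasedFunctor.preserves_isHomLift π (𝒳.p.map k) k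
    exact IsHomLift.fac' (ofSp F).p (𝒳.p.map k) (π.map k))

/-- The map of the scheme under an object. -/
noncomputable def ptMap (o : 𝒳.obj) : (AlgSp.yon S).obj (𝒳.p.obj o) ⟶ F :=
  (AlgSp.J S).uliftYonedaEquiv.symm (secAt π o)

theorem ptMap_map {o' o : 𝒳.obj} (k : o' ⟶ o) : (AlgSp.yon S).map (𝒳.p.map k) ≫ ptMap π o = ptMap π o' := by
  apply (AlgSp.J S).uliftYonedaEquiv.injective
  rw [AlgSpStalk.Lifts.yon_map_val_eq, ptMap, ptMap, Equiv.apply_symm_apply, Equiv.apply_symm_apply, secAt_map]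

theorem ptMap_chart {U : Over S} (x : overCat U ⥤ᵇ 𝒳) :
    (AlgSp.yon S).map (eqToHom (x.w_obj (Over.mk (𝟙 U)))) ≫ SpMapProp.ofPoint (BasedFunctor.comp x π) =
      ptMap π (x.obj (Over.mk (𝟙 U))) := by
  apply (AlgSp.J S).uliftYonedaEquiv.injective
  rw [AlgSpStalk.Lifts.yon_map_val_eq, ptMap, Equiv.apply_symm_apply]
  exact res_trans (F := F) (π.obj (x.obj (Over.mk (𝟙 U))))
    ((π.w_obj _).trans (x.w_obj (Over.mk (𝟙 U)))) (x.w_obj (Over.mk (𝟙 U)))

theorem ofPoint_objFun (hX : IsFibGrpd 𝒳.p) (o : 𝒳.obj) :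
    SpMapProp.ofPoint (BasedFunctor.comp (objFun hX o) π) = ptMap π o := by
  let x := objFun hX o
  obtain ⟨e, he⟩ := Yoneda.exists_fromObj_iso hX (rfl : 𝒳.p.obj o = 𝒳.p.obj o)
  have hp : 𝒳.p.map e.hom = eqToHom (x.w_obj (Over.mk (𝟙 (𝒳.p.obj o)))) := by
    haveI := he
    rw [IsHomLift.fac' 𝒳.p (𝟙 (𝒳.p.obj o)) e.hom]
    simp
  have h := (ptMap_chart π x).trans (ptMap_map π e.hom).symm
  rw [hp] at h
  exact (cancel_epi _).1 h

theorem ptMap_eq_of_hom {ξ : 𝒳.obj} {E : AlgSp.EtOver F} (α : π.obj ξ ⟶ etaOf E) :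
    (AlgSp.yon S).map (baseOver π ξ α) ≫ E.obj.hom = ptMap π ξ := by
  apply (AlgSp.J S).uliftYonedaEquiv.injective
  rw [AlgSpStalk.Lifts.yon_map_val_eq, ptMap, Equiv.apply_symm_apply]
  have h := map_res (F := F) α (π.w_obj ξ) (rfl : (etaOf E).base = E.obj.left) (baseOver π ξ α) (by
    show α.hom = _
    simp [baseOver])
  rw [res_rfl] at h
  exact h

variable {Z : Over S} (ψ : 𝒳 ⥤ᵇ ofSp ((AlgSp.yon S).obj Z))

/-- The morphism to the scheme attached to an object. -/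
noncomputable def psiAt (o : 𝒳.obj) : 𝒳.p.obj o ⟶ Z := (secAt ψ o).down

theorem psiAt_map {o' o : 𝒳.obj} (k : o' ⟶ o) : 𝒳.p.map k ≫ psiAt ψ o = psiAt ψ o' :=
  congrArg ULift.down (secAt_map ψ k)

theorem ptMap_eq_psiAt (o : 𝒳.obj) : ptMap ψ o = (AlgSp.yon S).map (psiAt ψ o) := by
  apply (AlgSp.J S).uliftYonedaEquiv.injective
  rw [ptMap, Equiv.apply_symm_apply]
  exact ((AlgSp.J S).uliftYonedaEquiv_uliftYoneda_map (psiAt ψ o)).symm

section Moduli

variable {M : AlgSp.Space S} {π' : 𝒳 ⥤ᵇ ofSp M.obj}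

theorem exists_obj_over (h𝒳 : IsAlgStack Scheme.fppfPrecoverage 𝒳) (hM : CompactPullbacks M.obj)
    (hqc : AlgSt.IsQuasiCompactMor Scheme.fppfPrecoverage π') (hqs : AlgSt.IsQuasiSeparatedMor π')
    (h : StMod.IsGoodModuli π') {V : Over S} (a : (AlgSp.yon S).obj V ⟶ M.obj) (v : V.left) :
    ∃ (o : 𝒳.obj) (b : 𝒳.p.obj o ⟶ V) (u : sch 𝒳 o),
      (AlgSp.yon S).map b ≫ a = ptMap π' o ∧ b.left u = v := by
  obtain ⟨q, hq⟩ := Chart.UnivTop.surjective_toSp M (AlgSp.Points.ofPt a v)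
  obtain ⟨x, rfl⟩ := isSurjective_goodModuli h𝒳 hM hqc hqs h q
  obtain ⟨U, cc, u₀, rfl⟩ := Chart.Points.exists_ofChart_eq h𝒳.isStack.1 x
  rw [Chart.Points.map_ofChart, Chart.UnivTop.toSp_ofChart] at hq
  obtain ⟨W, p, q, w, hp, hqw, e⟩ := (AlgSpace.ofPt_eq_ofPt_iff _ _ _ _).1 hq
  let x := BasedFunctor.comp (overMap p) cc
  refine ⟨x.obj (Over.mk (𝟙 W)), eqToHom (x.w_obj _) ≫ q, (eqToHom (x.w_obj (Over.mk (𝟙 W))).symm).left w, ?_, ?_⟩
  · rw [← ptMap_chart, Functor.map_comp, Category.assoc]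
    refine congrArg (_ ≫ ·) (e.symm.trans ?_)
    exact (SpMapProp.ofPoint_overMap p (BasedFunctor.comp cc π')).symm
  · refine (left_apply _ _ w).trans ?_
    rw [← hqw]
    refine congrArg (fun k : W ⟶ V => k.left w) ?_
    simp

theorem exists_affine_obj (hX : IsFibGrpd 𝒳.p) (o : 𝒳.obj) (O : (sch 𝒳 o).Opens) :
    ∃ (o' : 𝒳.obj) (k : o' ⟶ o) (i : sch 𝒳 o' ≅ O.toScheme), bmap 𝒳 k = i.hom ≫ O.ι :=
  GenFam.exists_obj hX o O.ι

set_option maxHeartbeats 800000 in
/-- Maps out of an etale scheme over the moduli space are determined on the stack. -/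
theorem ext_of_fibre (h𝒳 : IsAlgStack Scheme.fppfPrecoverage 𝒳) (hM : CompactPullbacks M.obj)
    (hqc : AlgSt.IsQuasiCompactMor Scheme.fppfPrecoverage π') (hqs : AlgSt.IsQuasiSeparatedMor π')
    (h : StMod.IsGoodModuli π') {V : Over S} (a : (AlgSp.yon S).obj V ⟶ M.obj) (ha : AlgSp.RepWith @Etale a)
    {X : Scheme.{u}} (f f' : V.left ⟶ X)
    (hf : ∀ (o : 𝒳.obj) (b : 𝒳.p.obj o ⟶ V), (AlgSp.yon S).map b ≫ a = ptMap π' o → b.left ≫ f = b.left ≫ f') :
    f = f' := by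
  classical
  have hpt : ∀ v, f v = f' v := fun v => by
    obtain ⟨o, b, u, hb, rfl⟩ := exists_obj_over h𝒳 hM hqc hqs h a v
    rw [← Scheme.Hom.comp_apply, hf o b hb, Scheme.Hom.comp_apply]
  choose W hW hvW hW' using fun v : V.left => exists_isAffineOpen_mem_and_subset (X := X) (x := f v) (U := ⊤) trivial
  choose O hO hvO hOW using fun v : V.left => exists_isAffineOpen_mem_and_subset (X := V.left)
    (x := v) (U := f ⁻¹ᵁ W v) (hvW v)
  refine Scheme.Cover.hom_ext (V.left.openCoverOfIsOpenCover O (eq_top_iff.2 fun v _ =>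
    TopologicalSpace.Opens.mem_iSup.2 ⟨v, hvO v⟩)) _ _ fun v => ?_
  show (O v).ι ≫ f = (O v).ι ≫ f'
  haveI : IsAffine (O v).toScheme := hO v
  haveI : IsAffine (W v).toScheme := hW v
  let ι : Over.mk ((O v).ι ≫ V.hom) ⟶ V := Over.homMk (O v).ι
  have het : Etale ι.left := inferInstanceAs (Etale (O v).ι)
  let E : AlgSp.EtOver M.obj :=
    AlgSp.EtOver.mk ((AlgSp.yon S).map ι ≫ a) (AlgSpace.repWith_yon_map_comp het ha)
  have r₁ : Set.range ((O v).ι ≫ f) ⊆ Set.range (W v).ι := by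
    rw [Scheme.Opens.range_ι]
    rintro _ ⟨z, rfl⟩
    exact hOW v z.2
  have r₂ : Set.range ((O v).ι ≫ f') ⊆ Set.range (W v).ι := by
    rw [Scheme.Opens.range_ι]
    rintro _ ⟨z, rfl⟩
    exact (hpt z.1) ▸ hOW v z.2
  let g := IsOpenImmersion.lift (W v).ι _ r₁
  let g' := IsOpenImmersion.lift (W v).ι _ r₂
  suffices hg : g = g' by
    rw [← IsOpenImmersion.lift_fac (W v).ι _ r₁, ← IsOpenImmersion.lift_fac (W v).ι _ r₂]
    exact congrArg (· ≫ (W v).ι) hg
  refine ext_of_isAffine (CommRingCat.hom_ext (RingHom.ext fun r => (h.2 E).1 ?_))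
  refine StMod.Mod.RelSect.ext _ _ _ fun ξ α => ?_
  let b : 𝒳.p.obj ξ ⟶ Over.mk ((O v).ι ≫ V.hom) := baseOver π' ξ α
  have hb : (AlgSp.yon S).map (b ≫ ι) ≫ a = ptMap π' ξ := by
    rw [Functor.map_comp, Category.assoc]
    exact ptMap_eq_of_hom π' α
  have hbg : b.left ≫ g = b.left ≫ g' := by
    refine (cancel_mono (W v).ι).1 ?_
    rw [Category.assoc, Category.assoc, IsOpenImmersion.lift_fac, IsOpenImmersion.lift_fac]
    exact (Category.assoc _ _ _).symm.trans ((hf ξ (b ≫ ι) hb).trans (Category.assoc _ _ _))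
  show b.left.appTop (g.appTop r) = b.left.appTop (g'.appTop r)
  exact DFunLike.congr_fun (congrArg CommRingCat.Hom.hom
    ((Scheme.Hom.comp_appTop b.left g).symm.trans
      ((congrArg Scheme.Hom.appTop hbg).trans (Scheme.Hom.comp_appTop b.left g')))) r

set_option maxHeartbeats 800000 in
/-- A compatible family of maps into an affine scheme comes from an affine etale scheme over the moduli space. -/
theorem exists_affine_map (h : StMod.IsGoodModuli π') (E : AlgSp.EtOver M.obj) [IsAffine E.obj.left.left]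
    {W : Scheme.{u}} [IsAffine W] (φ : ∀ (ξ : 𝒳.obj), (π'.obj ξ ⟶ etaOf E) → (sch 𝒳 ξ ⟶ W))
    (hφ : ∀ {ξ' ξ : 𝒳.obj} (k : ξ' ⟶ ξ) (α : π'.obj ξ ⟶ etaOf E), bmap 𝒳 k ≫ φ ξ α = φ ξ' (π'.map k ≫ α)) :
    ∃ g : E.obj.left.left ⟶ W, ∀ ξ α, (baseOver π' ξ α).left ≫ g = φ ξ α := by
  classical
  have hex : ∀ r : Γ(W, ⊤), ∃ s : Γ(sch (ofSp M.obj) (etaOf E), ⊤), ∀ ξ α,
      (StMod.unitSect π' (etaOf E) s).1 ξ α = (φ ξ α).appTop r := fun r => by
    obtain ⟨s, hs⟩ := (h.2 E).2 ⟨fun ξ α => (φ ξ α).appTop r, by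
      intro ξ' ξ k α
      rw [StMod.O_mapTop]
      change (bmap 𝒳 k).appTop ((φ ξ α).appTop r) = (φ ξ' (π'.map k ≫ α)).appTop r
      rw [← hφ, Scheme.Hom.comp_appTop]
      rfl⟩
    exact ⟨s, fun ξ α => congrArg (fun t : (StMod.O 𝒳).RelSect π' (etaOf E) => t.1 ξ α) hs⟩
  choose θ hθ using hex
  have hu : ∀ {s s' : Γ(sch (ofSp M.obj) (etaOf E), ⊤)}, (∀ ξ α, (baseOver π' ξ α).left.appTop s =
      (baseOver π' ξ α).left.appTop s') → s = s' := fun hh => (h.2 E).1 (StMod.Mod.RelSect.ext _ _ _ hh)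
  have hθ' : ∀ r ξ α, (baseOver π' ξ α).left.appTop (θ r) = (φ ξ α).appTop r := hθ
  let Θ : Γ(W, ⊤) →+* Γ(E.obj.left.left, ⊤) :=
    { toFun := θ
      map_one' := hu fun ξ α => (hθ' 1 ξ α).trans
        ((map_one (φ ξ α).appTop.hom).trans (map_one (baseOver π' ξ α).left.appTop.hom).symm)
      map_zero' := hu fun ξ α => (hθ' 0 ξ α).trans
        ((map_zero (φ ξ α).appTop.hom).trans (map_zero (baseOver π' ξ α).left.appTop.hom).symm)
      map_add' := fun r r' => hu fun ξ α => (hθ' _ ξ α).trans ((map_add (φ ξ α).appTop.hom r r').trans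
        ((congrArg₂ (· + ·) (hθ' r ξ α) (hθ' r' ξ α)).symm.trans
          (map_add (baseOver π' ξ α).left.appTop.hom _ _).symm))
      map_mul' := fun r r' => hu fun ξ α => (hθ' _ ξ α).trans ((map_mul (φ ξ α).appTop.hom r r').trans
        ((congrArg₂ (· * ·) (hθ' r ξ α) (hθ' r' ξ α)).symm.trans
          (map_mul (baseOver π' ξ α).left.appTop.hom _ _).symm)) }
  refine ⟨E.obj.left.left.toSpecΓ ≫ Spec.map (CommRingCat.ofHom Θ) ≫ W.isoSpec.inv, fun ξ α => ?_⟩
  let β : sch 𝒳 ξ ⟶ E.obj.left.left := (baseOver π' ξ α).left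
  have e : CommRingCat.ofHom Θ ≫ β.appTop = (φ ξ α).appTop :=
    CommRingCat.hom_ext (RingHom.ext fun r => hθ' r ξ α)
  show β ≫ E.obj.left.left.toSpecΓ ≫ Spec.map (CommRingCat.ofHom Θ) ≫ W.isoSpec.inv = φ ξ α
  rw [← Category.assoc, Scheme.toSpecΓ_naturality, Category.assoc, ← Spec.map_comp_assoc, e,
    ← Scheme.toSpecΓ_naturality_assoc]
  exact (congrArg (φ ξ α ≫ ·) W.isoSpec.hom_inv_id).trans (Category.comp_id _)

theorem hzV_ofOverCat (T : Over S) (p : AlgSt.Points (ofSp ((AlgSp.yon S).obj T))) :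
    ∃ v : T.left, AlgSt.Points.ofChart (ofOverCat T) v = p := by
  obtain ⟨q, rfl⟩ := Chart.Basic.surjective_map_of_isEquivOver (Rep.isEquivOver_ofOverCat T) p
  obtain ⟨W, z, w, rfl⟩ := Chart.Points.exists_ofChart_eq (Yoneda.isFibGrpd_overCat T) q
  obtain ⟨v, ⟨ε⟩⟩ := Chart.Points.exists_iso_overMap z
  refine ⟨v.left w, ?_⟩
  rw [Chart.Points.map_ofChart, ← Chart.Points.ofChart_overMap]
  exact (Chart.Points.ofChart_iso (BasedBasic.isoWhiskerRight ε (ofOverCat T)) w).symm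

set_option maxHeartbeats 800000 in
/-- Over a field-valued point there is a point in the closure of every point. -/
theorem exists_min (h𝒳 : IsAlgStack Scheme.fppfPrecoverage 𝒳) (hM : CompactPullbacks M.obj)
    (hqc : AlgSt.IsQuasiCompactMor Scheme.fppfPrecoverage π') (hqs : AlgSt.IsQuasiSeparatedMor π')
    (h : StMod.IsGoodModuli π') {K : Type u} [Field K] {t : Spec (CommRingCat.of K) ⟶ S}
    (y : (AlgSp.yon S).obj (Over.mk t) ⟶ M.obj) :
    ∃ c₀ : AlgSt.Points (fp (ofSpMap y) π'), ∀ c, c₀ ∈ closure {c} := by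
  classical
  let T : Over S := Over.mk t
  haveI : IsAffine T.left := inferInstanceAs (IsAffine (Spec (CommRingCat.of K)))
  have hMs := IsAlg.isAlgStack_ofSp M
  have hT := IsAlg.isAlgStack_ofSp ((AlgSp.ofScheme S).obj T)
  have hfp := Chart.Basic.isAlgStack_fp hMs hT h𝒳 (ofSpMap y) π'
  have hfinT : Finite (AlgSt.Points (ofSp ((AlgSp.yon S).obj T))) :=
    haveI : Finite ↥T.left := inferInstanceAs (Finite ↥(Spec (CommRingCat.of K)))
    Finite.of_surjective _ (hzV_ofOverCat T)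
  haveI : CompactSpace (AlgSt.Points (fp (ofSpMap y) π')) := (Chart.QC.isQuasiCompact_iff hfp).1
    (hqc _ hT ((Chart.QC.isQuasiCompact_iff hT).2 (@Finite.compactSpace _ _ hfinT)) _)
  have meet : ∀ C₁ C₂ : Set (AlgSt.Points (fp (ofSpMap y) π')), IsClosed C₁ → IsClosed C₂ →
      C₁.Nonempty → C₂.Nonempty → (C₁ ∩ C₂).Nonempty := fun C₁ C₂ h₁ h₂ ⟨c₁, hc₁⟩ ⟨c₂, hc₂⟩ => by
    by_contra hne
    obtain ⟨f, hf₁, hf₂⟩ := exists_sep (g := ofSpMap y) (ofOverCat T) h𝒳 hM hqc hqs h hT h₁ h₂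
      fun c hc hc' => hne ⟨c, hc, hc'⟩
    obtain ⟨v₁, hv₁⟩ := hzV_ofOverCat T (AlgSt.Points.map (fpFst (ofSpMap y) π') c₁)
    obtain ⟨v₂, hv₂⟩ := hzV_ofOverCat T (AlgSt.Points.map (fpFst (ofSpMap y) π') c₂)
    have hv : v₁ = v₂ := Subsingleton.elim (α := Spec (CommRingCat.of K)) v₁ v₂
    exact hf₂ c₂ v₂ hv₂ hc₂ (hv ▸ hf₁ c₁ v₁ hv₁ hc₁)
  obtain ⟨c', -⟩ := Chart.Basic.surjective_fpFst h𝒳.isStack.1 hMs.isStack.1 hT.isStack.1 (ofSpMap y)
    (isSurjective_goodModuli h𝒳 hM hqc hqs h)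
    (AlgSt.Points.ofChart (ofOverCat T) (show T.left from IsLocalRing.closedPoint K))
  have hfin : ∀ s : Finset (AlgSt.Points (fp (ofSpMap y) π')), (⋂ c ∈ s, closure {c}).Nonempty := fun s => by
    induction s using Finset.induction with
    | empty => exact ⟨c', by simp⟩
    | insert c s hcs ih =>
      rw [Finset.set_biInter_insert]
      exact meet _ _ isClosed_closure (isClosed_biInter fun _ _ => isClosed_closure) ⟨c, subset_closure rfl⟩ ih
  obtain ⟨c₀, -, hc₀⟩ := IsCompact.inter_iInter_nonempty isCompact_univ (fun c => closure ({c} : Set _))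
    (fun c => isClosed_closure) fun s => by rw [Set.univ_inter]; exact hfin s
  exact ⟨c₀, fun c => Set.mem_iInter.1 hc₀ c⟩

set_option maxHeartbeats 1600000 in
/-- Near every point the maps land in an affine open. -/
theorem exists_landing (h𝒳 : IsAlgStack Scheme.fppfPrecoverage 𝒳) (hM : CompactPullbacks M.obj)
    (hqc : AlgSt.IsQuasiCompactMor Scheme.fppfPrecoverage π') (hqs : AlgSt.IsQuasiSeparatedMor π')
    (h : StMod.IsGoodModuli π') {V : Over S} (a : (AlgSp.yon S).obj V ⟶ M.obj) (v : V.left) :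
    ∃ (O : V.left.Opens) (W : Z.left.Opens), IsAffineOpen O ∧ IsAffineOpen W ∧ v ∈ O ∧
      ∀ (o : 𝒳.obj) (b : 𝒳.p.obj o ⟶ V), (AlgSp.yon S).map b ≫ a = ptMap π' o →
        ∀ u : sch 𝒳 o, b.left u ∈ O → (psiAt ψ o).left u ∈ W := by
  classical
  have hMs := IsAlg.isAlgStack_ofSp M
  let K := ↥(V.left.residueField v)
  let t : Spec (CommRingCat.of K) ⟶ S := V.left.fromSpecResidueField v ≫ V.hom
  let r : Over.mk t ⟶ V := Over.homMk (V.left.fromSpecResidueField v) rfl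
  let y := (AlgSp.yon S).map r ≫ a
  let T : Over S := Over.mk t
  haveI : IsAffine T.left := inferInstanceAs (IsAffine (Spec (CommRingCat.of K)))
  have hT := IsAlg.isAlgStack_ofSp ((AlgSp.ofScheme S).obj T)
  let Z' : AlgSp.Space S := (AlgSp.ofScheme S).obj Z
  let z : AlgSt.Points 𝒳 → Z.left := fun x =>
    (AlgSp.Points.schemeHomeo Z).symm (Chart.UnivTop.toSp Z' (AlgSt.Points.map ψ x))
  have hz : Continuous z := (AlgSp.Points.schemeHomeo Z).symm.continuous.comp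
    ((Chart.UnivTop.isHomeomorph_toSp Z').continuous.comp
      (Chart.Basic.continuous_map (IsAlg.isAlgStack_ofSp Z') ψ))
  obtain ⟨c₀, hc₀⟩ := exists_min h𝒳 hM hqc hqs h y
  obtain ⟨W, hW, hzW, -⟩ := exists_isAffineOpen_mem_and_subset (X := Z.left)
    (x := z (AlgSt.Points.map (fpSnd (ofSpMap y) π') c₀)) (U := ⊤) trivial
  let C : Set (AlgSt.Points 𝒳) := z ⁻¹' (W : Set Z.left)ᶜ
  have hC : IsClosed C := W.2.isClosed_compl.preimage hz
  have himg : IsClosed (AlgSt.Points.map π' '' C) := by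
    let I := BasedFunctor.id (ofSp M.obj)
    have hI := Chart.Basic.isAlgStack_fp hMs hMs h𝒳 I π'
    have hY : ∀ q, AlgSt.Points.map (fpFst I π') q = AlgSt.Points.map π' (AlgSt.Points.map (fpSnd I π') q) :=
      fun q => by
      rw [← Chart.Basic.map_comp, ← Chart.Basic.map_iso (FibCat.fpIso I π'), Chart.Basic.map_comp,
        Chart.Basic.map_id]
    have e : AlgSt.Points.map π' '' C =
        AlgSt.Points.map (fpFst I π') '' (AlgSt.Points.map (fpSnd I π') ⁻¹' C) := by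
      ext q
      constructor
      · rintro ⟨x, hx, rfl⟩
        obtain ⟨c, rfl⟩ := Chart.Basic.surjective_fpSnd h𝒳.isStack.1 hMs.isStack.1 hMs.isStack.1 (g := I) π'
          (fun p => ⟨p, Chart.Basic.map_id p⟩) x
        exact ⟨c, hx, hY c⟩
      · rintro ⟨c, hc, rfl⟩
        exact ⟨_, hc, (hY c).symm⟩
    rw [e]
    exact isUnivClosed_goodModuli h𝒳 hM hqc hqs h _ hMs I _ (hC.preimage (Chart.Basic.continuous_map h𝒳 _))
  let B : Set V.left := AlgSp.Points.ofPt a ⁻¹' (Chart.UnivTop.toSp M '' (AlgSt.Points.map π' '' C))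
  have hB : IsClosed B :=
    ((Chart.UnivTop.isHomeomorph_toSp M).isClosedMap _ himg).preimage (AlgSp.Points.continuous_ofPt a)
  have hvB : v ∉ B := by
    rintro ⟨_, ⟨x, hx, rfl⟩, hx'⟩
    let pK := AlgSt.Points.ofChart (ofOverCat T) (show T.left from IsLocalRing.closedPoint K)
    have e : AlgSt.Points.map (ofSpMap y) pK = AlgSt.Points.map π' x := by
      apply Chart.UnivTop.injective_toSp M
      rw [Chart.UnivTop.toSp_map (F := (AlgSp.ofScheme S).obj T) (G := M), Chart.UnivTop.toSp_ofChart, hx',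
        show SpMapProp.ofPoint (ofOverCat T) = 𝟙 _ from SpMapProp.ofPoint_atlas (𝟙 ((AlgSp.yon S).obj T)),
        AlgSp.Points.map_ofPt, Category.id_comp]
      refine (AlgSpace.ofPt_yon_map_comp r a _).trans (congrArg _ ?_)
      exact Scheme.fromSpecResidueField_apply v _
    obtain ⟨c, -, rfl⟩ := Chart.Basic.exists_points_fp h𝒳.isStack.1 hMs.isStack.1 hT.isStack.1
      (g := ofSpMap y) (f := π') e
    refine hx ?_
    have hcont : Continuous (fun c => z (AlgSt.Points.map (fpSnd (ofSpMap y) π') c)) :=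
      hz.comp (Chart.Basic.continuous_map h𝒳 _)
    have hsp : c ⤳ c₀ := specializes_iff_mem_closure.2 (hc₀ c)
    exact (hsp.map hcont).mem_open W.2 hzW
  obtain ⟨O, hO, hvO, hOB⟩ := exists_isAffineOpen_mem_and_subset (X := V.left) (x := v)
    (U := ⟨Bᶜ, hB.isOpen_compl⟩) hvB
  refine ⟨O, W, hO, hW, hvO, fun o b hb u hu => ?_⟩
  by_contra hn
  refine hOB hu ⟨_, ⟨AlgSt.Points.ofChart (objFun h𝒳.isStack.1 o) u, ?_, rfl⟩, ?_⟩
  · show z _ ∉ (W : Set Z.left)
    have : z (AlgSt.Points.ofChart (objFun h𝒳.isStack.1 o) u) = (psiAt ψ o).left u := by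
      show AlgSp.Points.toScheme Z (Chart.UnivTop.toSp Z' (AlgSt.Points.map ψ _)) = _
      rw [Chart.Points.map_ofChart, Chart.UnivTop.toSp_ofChart, ofPoint_objFun, ptMap_eq_psiAt]
      exact AlgSp.Points.toScheme_ofPt _ _
    rw [this]
    exact hn
  · rw [Chart.Points.map_ofChart, Chart.UnivTop.toSp_ofChart, ofPoint_objFun, ← hb]
    exact AlgSpace.ofPt_yon_map_comp b a u

set_option maxHeartbeats 1600000 in
/-- The map from an etale scheme over the moduli space. -/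
theorem exists_etale_map (h𝒳 : IsAlgStack Scheme.fppfPrecoverage 𝒳) (hM : CompactPullbacks M.obj)
    (hqc : AlgSt.IsQuasiCompactMor Scheme.fppfPrecoverage π') (hqs : AlgSt.IsQuasiSeparatedMor π')
    (h : StMod.IsGoodModuli π') {V : Over S} (a : (AlgSp.yon S).obj V ⟶ M.obj) (ha : AlgSp.RepWith @Etale a) :
    ∃ f : V ⟶ Z, ∀ (o : 𝒳.obj) (b : 𝒳.p.obj o ⟶ V), (AlgSp.yon S).map b ≫ a = ptMap π' o →
      b ≫ f = psiAt ψ o := by
  classical
  choose O W hO hW hvO hOW using fun v : V.left => exists_landing ψ h𝒳 hM hqc hqs h a v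
  haveI : ∀ v, IsAffine (O v).toScheme := hO
  haveI : ∀ v, IsAffine (W v).toScheme := hW
  let U : V.left → Over S := fun v => Over.mk ((O v).ι ≫ V.hom)
  let ι : ∀ v, U v ⟶ V := fun v => Over.homMk (O v).ι
  have het : ∀ v, AlgSp.RepWith @Etale ((AlgSp.yon S).map (ι v) ≫ a) := fun v =>
    AlgSpace.repWith_yon_map_comp (inferInstanceAs (Etale (O v).ι)) ha
  have hloc : ∀ v, ∃ g : (O v).toScheme ⟶ Z.left, ∀ (o : 𝒳.obj) (b : 𝒳.p.obj o ⟶ U v),
      (AlgSp.yon S).map b ≫ (AlgSp.yon S).map (ι v) ≫ a = ptMap π' o → b.left ≫ g = (psiAt ψ o).left := fun v => by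
    let E : AlgSp.EtOver M.obj := AlgSp.EtOver.mk ((AlgSp.yon S).map (ι v) ≫ a) (het v)
    haveI : IsAffine E.obj.left.left := hO v
    have hr : ∀ ξ (α : π'.obj ξ ⟶ etaOf E), Set.range (psiAt ψ ξ).left ⊆ Set.range (W v).ι := fun ξ α => by
      rw [Scheme.Opens.range_ι]
      rintro _ ⟨u, rfl⟩
      refine hOW v ξ (baseOver π' ξ α ≫ ι v) ?_ u ((baseOver π' ξ α).left u).2
      rw [Functor.map_comp, Category.assoc]
      exact ptMap_eq_of_hom π' α
    obtain ⟨g, hg⟩ := exists_affine_map h E (W := (W v).toScheme)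
      (fun ξ α => IsOpenImmersion.lift (W v).ι (psiAt ψ ξ).left (hr ξ α)) fun {ξ' ξ} k α => by
        refine (cancel_mono (W v).ι).1 ?_
        rw [Category.assoc, IsOpenImmersion.lift_fac, IsOpenImmersion.lift_fac]
        exact congrArg CommaMorphism.left (psiAt_map ψ k)
    refine ⟨g ≫ (W v).ι, fun o b hb => ?_⟩
    let a' := (AlgSp.yon S).map (ι v) ≫ a
    have hsec : M.obj.obj.map b.op ((AlgSp.J S).uliftYonedaEquiv a') = secAt π' o := by
      rw [← AlgSpStalk.Lifts.yon_map_val_eq, hb, ptMap, Equiv.apply_symm_apply]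
    let α : π'.obj o ⟶ etaOf E :=
      ⟨eqToHom (π'.w_obj o) ≫ b, by
        rw [op_comp, Functor.map_comp_apply]
        show M.obj.obj.map (eqToHom (π'.w_obj o)).op (M.obj.obj.map b.op ((AlgSp.J S).uliftYonedaEquiv a')) = _
        rw [hsec]
        exact (res_trans (F := M.obj) _ _ _).trans (res_rfl (F := M.obj) (π'.obj o))⟩
    have hα : baseOver π' o α = b := by
      show eqToHom _ ≫ eqToHom _ ≫ b = b
      rw [← Category.assoc, eqToHom_trans, eqToHom_refl, Category.id_comp]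
    have := congrArg (· ≫ (W v).ι) (hg o α)
    simp only [Category.assoc, IsOpenImmersion.lift_fac, hα] at this
    exact this
  choose g hg using hloc
  let 𝒰 := V.left.openCoverOfIsOpenCover O (eq_top_iff.2 fun v _ =>
    TopologicalSpace.Opens.mem_iSup.2 ⟨v, hvO v⟩)
  have hcomp : ∀ v w, pullback.fst (𝒰.f v) (𝒰.f w) ≫ g v = pullback.snd _ _ ≫ g w := fun v w => by
    let R : Over S := Over.mk ((pullback.fst (𝒰.f v) (𝒰.f w) ≫ (O v).ι) ≫ V.hom)
    let p : R ⟶ U v := Over.homMk (pullback.fst (𝒰.f v) (𝒰.f w)) (Category.assoc _ _ _).symm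
    let q : R ⟶ U w := Over.homMk (pullback.snd (𝒰.f v) (𝒰.f w)) (by
      show pullback.snd (𝒰.f v) (𝒰.f w) ≫ (O w).ι ≫ V.hom = _
      rw [← Category.assoc, show pullback.snd (𝒰.f v) (𝒰.f w) ≫ (O w).ι = pullback.fst (𝒰.f v) (𝒰.f w) ≫ (O v).ι
        from (pullback.condition (f := 𝒰.f v) (g := 𝒰.f w)).symm]
      rfl)
    have hpq : q ≫ ι w = p ≫ ι v := Over.OverMorphism.ext (pullback.condition (f := 𝒰.f v) (g := 𝒰.f w)).symm
    refine ext_of_fibre h𝒳 hM hqc hqs h ((AlgSp.yon S).map p ≫ (AlgSp.yon S).map (ι v) ≫ a)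
      (AlgSpace.repWith_yon_map_comp (show Etale p.left from
        inferInstanceAs (Etale (pullback.fst (𝒰.f v) (𝒰.f w)))) (het v)) (V := R) _ _ fun o b hb => ?_
    have h1 := hg v o (b ≫ p) (by rw [Functor.map_comp, Category.assoc]; exact hb)
    have h2 := hg w o (b ≫ q) (by
      rw [← Category.assoc, ← Functor.map_comp, Category.assoc, hpq, ← Category.assoc, Functor.map_comp,
        Functor.map_comp, Category.assoc, Category.assoc]
      exact hb)
    exact (Category.assoc _ _ _).symm.trans (h1.trans (h2.symm.trans (Category.assoc _ _ _)))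
  let f₀ := Scheme.Cover.glueMorphisms 𝒰 g hcomp
  have hf₀ : ∀ (o : 𝒳.obj) (b : 𝒳.p.obj o ⟶ V), (AlgSp.yon S).map b ≫ a = ptMap π' o →
      b.left ≫ f₀ = (psiAt ψ o).left := fun o b hb => by
    refine Scheme.Cover.hom_ext ((sch 𝒳 o).openCoverOfIsOpenCover (fun v => b.left ⁻¹ᵁ O v)
      (eq_top_iff.2 fun u _ => TopologicalSpace.Opens.mem_iSup.2 ⟨b.left u, hvO _⟩)) _ _ fun v => ?_
    show (b.left ⁻¹ᵁ O v).ι ≫ b.left ≫ f₀ = (b.left ⁻¹ᵁ O v).ι ≫ (psiAt ψ o).left
    obtain ⟨o', k, i, hk⟩ := exists_affine_obj h𝒳.isStack.1 o (b.left ⁻¹ᵁ O v)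
    rw [← cancel_epi i.hom, ← Category.assoc, ← Category.assoc, ← hk]
    have hr : Set.range (bmap 𝒳 k ≫ b.left) ⊆ Set.range (O v).ι := by
      rw [Scheme.Opens.range_ι, hk]
      rintro _ ⟨z, rfl⟩
      exact (i.hom z).2
    let l := IsOpenImmersion.lift (O v).ι _ hr
    have hl : l ≫ (O v).ι = bmap 𝒳 k ≫ b.left := IsOpenImmersion.lift_fac _ _ hr
    let b' : 𝒳.p.obj o' ⟶ U v := Over.homMk l (by
      show l ≫ (O v).ι ≫ V.hom = _
      rw [← Category.assoc, hl, Category.assoc, Over.w b]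
      exact Over.w (𝒳.p.map k))
    have hb' : b' ≫ ι v = 𝒳.p.map k ≫ b := Over.OverMorphism.ext hl
    have e := hg v o' b' (by
      rw [← Category.assoc, ← Functor.map_comp, hb', Functor.map_comp, Category.assoc, hb, ptMap_map])
    rw [show (bmap 𝒳 k ≫ b.left) ≫ f₀ = l ≫ g v by
      rw [← hl, Category.assoc]
      exact congrArg (l ≫ ·) (Scheme.Cover.ι_glueMorphisms 𝒰 g hcomp v)]
    refine e.trans ((congrArg CommaMorphism.left (psiAt_map ψ k)).symm.trans ?_)
    rw [← Category.assoc, ← hk]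
    rfl
  refine ⟨Over.homMk f₀ ?_, fun o b hb => Over.OverMorphism.ext (hf₀ o b hb)⟩
  refine ext_of_fibre h𝒳 hM hqc hqs h a ha _ _ fun o b hb => ?_
  exact ((Category.assoc _ _ _).symm.trans (congrArg (· ≫ Z.hom) (hf₀ o b hb))).trans
    ((Over.w (psiAt ψ o)).trans (Over.w b).symm)

set_option maxHeartbeats 800000 in
/-- A good moduli space is universal for maps to schemes. -/
theorem existsUnique_factor (h𝒳 : IsAlgStack Scheme.fppfPrecoverage 𝒳) (hM : CompactPullbacks M.obj)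
    (hqc : AlgSt.IsQuasiCompactMor Scheme.fppfPrecoverage π') (hqs : AlgSt.IsQuasiSeparatedMor π')
    (h : StMod.IsGoodModuli π') :
    ∃! g : M.obj ⟶ (AlgSp.yon S).obj Z, BasedFunctor.comp π' (ofSpMap g) = ψ := by
  obtain ⟨U, p, hp, hs⟩ := M.property.atlas
  haveI := AlgSpace.isLocallySurjective_of_etale hp hs
  have key : ∀ g : M.obj ⟶ (AlgSp.yon S).obj Z, BasedFunctor.comp π' (ofSpMap g) = ψ ↔
      ∀ o, ptMap π' o ≫ g = (AlgSp.yon S).map (psiAt ψ o) := fun g => by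
    have e : ∀ o, ptMap (BasedFunctor.comp π' (ofSpMap g)) o = ptMap π' o ≫ g := fun o => by
      rw [← ofPoint_objFun _ h𝒳.isStack.1, ← ofPoint_objFun _ h𝒳.isStack.1]
      exact SpMapProp.ofPoint_comp (BasedFunctor.comp (objFun h𝒳.isStack.1 o) π') g
    refine ⟨fun hg o => by rw [← e, hg, ptMap_eq_psiAt], fun hg => functor_ext fun o => ?_⟩
    have h1 := (e o).trans ((hg o).trans (ptMap_eq_psiAt ψ o).symm)
    have h2 := (AlgSp.J S).uliftYonedaEquiv.symm.injective h1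
    rw [eq_mk_res ((BasedFunctor.comp π' (ofSpMap g)).obj o) ((BasedFunctor.comp π' (ofSpMap g)).w_obj o),
      eq_mk_res (ψ.obj o) (ψ.w_obj o)]
    exact congrArg _ h2
  obtain ⟨f, hf⟩ := exists_etale_map ψ h𝒳 hM hqc hqs h p hp
  let R : Over S := hp.rep.pullback p
  let p₁ : R ⟶ U := hp.rep.fst' p
  let p₂ : R ⟶ U := hp.rep.snd p
  have sq : IsPullback ((AlgSp.yon S).map p₁) ((AlgSp.yon S).map p₂) p p := hp.rep.isPullback' p
  have het : Etale p₂.left := hp.property p _ _ sq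
  have hcompat : p₁ ≫ f = p₂ ≫ f := Over.OverMorphism.ext (ext_of_fibre h𝒳 hM hqc hqs h
    ((AlgSp.yon S).map p₂ ≫ p) (AlgSpace.repWith_yon_map_comp het hp) _ _ fun o b hb => by
      have h1 := hf o (b ≫ p₁) (by rw [Functor.map_comp, Category.assoc, sq.w]; exact hb)
      have h2 := hf o (b ≫ p₂) (by rw [Functor.map_comp, Category.assoc]; exact hb)
      exact congrArg CommaMorphism.left ((Category.assoc _ _ _).symm.trans
        (h1.trans (h2.symm.trans (Category.assoc _ _ _)))))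
  obtain ⟨g, hg⟩ := AlgSpace.exists_desc p sq ((AlgSp.yon S).map f) (by
    rw [← Functor.map_comp, ← Functor.map_comp, hcompat])
  refine ⟨g, (key g).2 fun o => ?_, fun g' hg' => ?_⟩
  · let R' : Over S := hp.rep.pullback (ptMap π' o)
    let c : R' ⟶ 𝒳.p.obj o := hp.rep.snd (ptMap π' o)
    let b₀ : R' ⟶ U := hp.rep.fst' (ptMap π' o)
    have sq' : IsPullback ((AlgSp.yon S).map b₀) ((AlgSp.yon S).map c) p (ptMap π' o) :=
      hp.rep.isPullback' (ptMap π' o)
    have hce : Etale c.left := hp.property (ptMap π' o) _ _ sq'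
    have hcs : Surjective c.left := hs.property (ptMap π' o) _ _ sq'
    haveI : Epi ((AlgSp.yon S).map c) :=
      AlgSpace.epi_yon_map c ⟨⟨hcs, inferInstance⟩, inferInstance⟩
    refine (cancel_epi ((AlgSp.yon S).map c)).1 ?_
    obtain ⟨o', k, hk⟩ := h𝒳.isStack.1.exists_lift c
    have e : 𝒳.p.obj o' = R' := IsHomLift.domain_eq 𝒳.p c k
    have ek : 𝒳.p.map k = eqToHom e ≫ c := by simpa using IsHomLift.fac' 𝒳.p c k
    have hb : (AlgSp.yon S).map (eqToHom e ≫ b₀) ≫ p = ptMap π' o' := by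
      rw [Functor.map_comp, Category.assoc, sq'.w, ← Category.assoc, ← Functor.map_comp, ← ek, ptMap_map]
    have h1 := (hf o' _ hb).trans (psiAt_map ψ k).symm
    rw [ek, Category.assoc, Category.assoc, cancel_epi] at h1
    rw [← Category.assoc, ← sq'.w, Category.assoc, hg, ← Functor.map_comp, h1, Functor.map_comp]
  · haveI : Epi p := inferInstance
    refine (cancel_epi p).1 ?_
    rw [hg]
    obtain ⟨f', hf'⟩ := (AlgSp.yon S).map_surjective (p ≫ g')
    rw [← hf']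
    refine congrArg _ (Over.OverMorphism.ext (ext_of_fibre h𝒳 hM hqc hqs h p hp _ _ fun o b hb => ?_))
    have e1 : (AlgSp.yon S).map (b ≫ f') = (AlgSp.yon S).map (psiAt ψ o) := by
      rw [Functor.map_comp, hf', ← Category.assoc, hb]
      exact (key g').1 hg' o
    exact congrArg CommaMorphism.left (((AlgSp.yon S).map_injective e1).trans (hf o b hb).symm)

end Moduli

end Groth.Agent.H14.UB
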